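import Mathlib
import Cfsg.Prelude.Def_TwoFusion
import Cfsg.Agent.Lib.Hall.MinimalNormal
import Cfsg.Agent.Lib.Involutions.BaerSuzuki
import Cfsg.Agent.Lib.ZStar.Main
import Cfsg.Agent.S0205

/-!
# Doubly transitive groups: regular normal subgroups from involutions, and pair counting
-/

set_option autoImplicit false
set_option linter.unusedSectionVars false
set_option linter.unusedVariables false
set_option linter.style.haveILetI false

namespace Cfsg.Agent.TwoPointA5

open MulAction Finset

variable {G Ω : Type*} [Group G] [Finite G] [Fintype Ω] [MulAction G Ω] [FaithfulSMul G Ω]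

/-- the number of fixed points -/
noncomputable def fixCard (Ω : Type*) [MulAction G Ω] (g : G) : ℕ := Nat.card {x : Ω // g • x = x}

/-- a normal subgroup regular on the points -/
def Regular (Ω : Type*) [MulAction G Ω] (N : Subgroup G) : Prop :=
  IsPretransitive ↥N Ω ∧ ∀ x : Ω, ∀ g ∈ N, g • x = x → g = 1

theorem Regular.card {N : Subgroup G} (h : Regular Ω N) (x : Ω) : Nat.card N = Fintype.card Ω := by
  haveI := h.1
  have hs : stabilizer N x = ⊥ := (Subgroup.eq_bot_iff_forall _).2 fun g hg =>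
    Subtype.ext (h.2 x g g.2 hg)
  have := (stabilizer N x).card_mul_index
  rw [index_stabilizer_of_transitive, hs, Subgroup.card_bot, one_mul, Nat.card_eq_fintype_card] at this
  exact this.symm

variable (h2 : IsMultiplyPretransitive G Ω 2)

include h2 in
theorem transitive_of_normal (N : Subgroup G) [N.Normal] (hN : N ≠ ⊥) : IsPretransitive ↥N Ω := by
  haveI := isPreprimitive_of_is_two_pretransitive h2
  refine IsQuasiPreprimitive.isPretransitive_of_normal (G := G) fun hfix => hN ?_
  refine (Subgroup.eq_bot_iff_forall _).2 fun g hg => eq_of_smul_eq_smul (α := Ω) fun z => ?_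
  rw [one_smul]
  exact (hfix ▸ Set.mem_univ z : z ∈ fixedPoints N Ω) ⟨g, hg⟩

include h2 in
theorem regular_of_abelian (N : Subgroup G) [N.Normal] [IsMulCommutative N] (hN : N ≠ ⊥) : Regular Ω N := by
  haveI := transitive_of_normal h2 N hN
  refine ⟨inferInstance, fun x g hg hx => eq_of_smul_eq_smul (α := Ω) fun y => ?_⟩
  obtain ⟨⟨m, hm⟩, rfl⟩ := exists_smul_eq N x y
  have hc : g * m = m * g := congrArg Subtype.val (mul_comm' (⟨g, hg⟩ : N) ⟨m, hm⟩)
  show g • m • x = (1 : G) • m • x
  rw [one_smul, ← mul_smul, hc, mul_smul, hx]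

include h2 in
/-- a solvable normal subgroup yields an elementary abelian regular one -/
theorem exists_regular (N : Subgroup G) [N.Normal] [Group.IsSolvable N] (hN : N ≠ ⊥) :
    ∃ (E : Subgroup G) (p : ℕ), E.Normal ∧ E ≤ N ∧ Regular Ω E ∧ IsMulCommutative E ∧ p.Prime ∧ IsPGroup p E ∧
      (∀ e ∈ E, e ^ p = 1) ∧ p ∣ Fintype.card Ω := by
  obtain ⟨M, hMn, hMN, hM, hmin⟩ := Hall.exists_minimal_normal N hN
  haveI := hMn
  haveI : Group.IsSolvable M :=
    solvable_of_solvable_injective (Subgroup.inclusion_injective hMN)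
  obtain ⟨p, hp, hpd, hpg, hel⟩ := Hall.minimal_normal_isElementaryAbelian hM hmin
  haveI := Hall.minimal_normal_isMulCommutative hmin
  have hr := regular_of_abelian h2 M hM
  have hpos : Nonempty Ω := by
    by_contra h0
    haveI := not_nonempty_iff.1 h0
    exact hM ((Subgroup.eq_bot_iff_forall _).2 fun g _ => eq_of_smul_eq_smul (α := Ω) fun z => isEmptyElim z)
  obtain ⟨x⟩ := hpos
  exact ⟨M, p, hMn, hMN, hr, inferInstance, hp, hpg, fun e he => hel.2 e he,
    hr.card x ▸ hpd⟩

include h2 in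
/-- an isolated involution with exactly one fixed point -/
theorem exists_regular_of_isolated {j : G} (hj : Cfsg.IsIsolatedInvolution j) (hfix : fixCard Ω j = 1)
    (hn : 1 < Fintype.card Ω) :
    ∃ (E : Subgroup G) (p : ℕ), E.Normal ∧ Regular Ω E ∧ IsMulCommutative E ∧ p.Prime ∧ p ≠ 2 ∧ IsPGroup p E ∧
      (∀ e ∈ E, e ^ p = 1) ∧ p ∣ Fintype.card Ω := by
  have hO : Cfsg.oddCore G ≠ ⊥ := fun hO => by
    have hc := Subgroup.mem_center_iff.1 (ZStar.Main.mem_center_of_isolated hO hj)
    obtain ⟨⟨o, ho⟩⟩ := (Nat.card_pos_iff.1 (by unfold fixCard at hfix; omega :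
      0 < Nat.card {x : Ω // j • x = x})).1
    have hall : ∀ y : Ω, j • y = y := fun y => by
      haveI : IsMultiplyPretransitive G Ω 2 := h2
      haveI : IsPretransitive G Ω := isPretransitive_of_is_two_pretransitive
      obtain ⟨g, rfl⟩ := exists_smul_eq G o y
      rw [← mul_smul, ← hc g, mul_smul, ho]
    have : fixCard Ω j = Fintype.card Ω := by
      rw [fixCard, Nat.card_congr (Equiv.subtypeUnivEquiv hall), Nat.card_eq_fintype_card]
    omega
  haveI : (Cfsg.oddCore G).Normal := ZStar.Main.oddCore_normal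
  haveI : Group.IsSolvable ↥(Cfsg.oddCore G) := S0205.result InvChar.Core.odd_card_oddCore
  obtain ⟨E, p, hE, hEN, hr, hc, hp, hpg, hel, hpd⟩ := exists_regular h2 _ hO
  refine ⟨E, p, hE, hr, hc, hp, fun h => ?_, hpg, hel, hpd⟩
  have h1 := (InvChar.Core.odd_card_oddCore (G := G)).of_dvd_nat (Subgroup.card_dvd_of_le hEN)
  have hpos : Nonempty Ω := Fintype.card_pos_iff.1 (by omega)
  obtain ⟨x⟩ := hpos
  rw [hr.card x] at h1
  exact (Nat.not_even_iff_odd.2 h1) (even_iff_two_dvd.2 (h ▸ hpd))

include h2 in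
/-- a fixed point free involution whose products with its conjugates cannot be inverted inside
two point stabilisers -/
theorem exists_regular_of_fpf {j : G} (hjj : j * j = 1) (hj1 : j ≠ 1) (hfree : ∀ x : Ω, j • x ≠ x) {m : ℕ}
    (hn : Fintype.card Ω = 2 ^ m)
    (hno : ∀ (g : G) (c : Ω), g • c = c → g • j • c = j • c → j * g * j⁻¹ = g⁻¹ → Odd (orderOf g) → g = 1) :
    ∃ E : Subgroup G, E.Normal ∧ Regular Ω E ∧ IsMulCommutative E ∧ ∀ e ∈ E, e * e = 1 := by
  classical
  haveI : Fact (Nat.Prime 2) := ⟨Nat.prime_two⟩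
  have hj2 : IsPGroup 2 ↥(Subgroup.zpowers j) := IsPGroup.of_card (n := 1) (by
    rw [Nat.card_zpowers, pow_one]; exact orderOf_eq_prime (by rw [pow_two, hjj]) hj1)
  obtain ⟨N, hNn, hN2, hjN⟩ := Involutions.BaerSuzuki.baer_suzuki (Subgroup.zpowers j) hj2 fun g => by
    set j' := g * j * g⁻¹
    have hj' : j' * j' = 1 := by
      rw [show j' * j' = g * (j * j) * g⁻¹ by simp only [j']; group, hjj]; group
    set r := j * j' with hr
    have hinv : j * r * j⁻¹ = r⁻¹ := by
      rw [hr, mul_inv_rev, inv_eq_of_mul_eq_one_right hjj, inv_eq_of_mul_eq_one_right hj', ← mul_assoc j j, hjj,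
        one_mul]
    have hr2 : ∃ k, orderOf r = 2 ^ k := by
      refine ⟨(orderOf r).primeFactorsList.length,
        Nat.eq_prime_pow_of_unique_prime_dvd (orderOf_pos r).ne' fun {q} hq hqd => ?_⟩
      by_contra hq2
      haveI : Fact q.Prime := ⟨hq⟩
      set s := r ^ (orderOf r / q) with hs
      have hso : orderOf s = q := orderOf_pow_orderOf_div (orderOf_pos r).ne' hqd
      have hsinv : j * s * j⁻¹ = s⁻¹ := by rw [hs, ← conj_pow, hinv, inv_pow]
      have hzq : IsPGroup q ↥(Subgroup.zpowers s) := IsPGroup.of_card (n := 1) (by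
        rw [Nat.card_zpowers, hso, pow_one])
      obtain ⟨c, hc⟩ := hzq.nonempty_fixed_point_of_prime_not_dvd_card Ω (by
        rw [Nat.card_eq_fintype_card, hn]
        exact fun h => hq2 ((Nat.prime_dvd_prime_iff_eq hq Nat.prime_two).1 (hq.dvd_of_dvd_pow h)))
      have hsc : s • c = c := hc ⟨s, Subgroup.mem_zpowers s⟩
      have hsc' : s • j • c = j • c := by
        have e : s * j = j * s⁻¹ := by
          rw [← hsinv, ← mul_assoc, ← mul_assoc, hjj, one_mul, inv_eq_of_mul_eq_one_right hjj]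
        rw [← mul_smul, e, mul_smul, inv_smul_eq_iff.2 hsc.symm]
      have := hno s c hsc hsc' hsinv (hso.symm ▸ hq.odd_of_ne_two hq2)
      rw [this, orderOf_one] at hso
      exact hq.ne_one hso.symm
    obtain ⟨k, hk⟩ := hr2
    have hrp : IsPGroup 2 ↥(Subgroup.zpowers r) := IsPGroup.of_card (n := k) (by rw [Nat.card_zpowers, hk])
    have hnorm : Subgroup.zpowers j ≤ Subgroup.normalizer (Subgroup.zpowers r : Set G) := by
      refine Subgroup.zpowers_le.2 (Subgroup.mem_normalizer_iff.2 fun x => ⟨fun hx => ?_, fun hx => ?_⟩)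
      · obtain ⟨i, rfl⟩ := hx
        exact ⟨-i, by simp only; rw [← conj_zpow, hinv, inv_zpow, zpow_neg]⟩
      · obtain ⟨i, hi⟩ := hx
        refine ⟨-i, ?_⟩
        have h1 : j * (r ^ i) * j⁻¹ = r ^ (-i) := by rw [← conj_zpow, hinv, inv_zpow, zpow_neg]
        show r ^ (-i) = x
        rw [← h1, show r ^ i = j * x * j⁻¹ from hi, ← mul_assoc, ← mul_assoc, hjj, one_mul,
          inv_eq_of_mul_eq_one_right hjj, mul_assoc, hjj, mul_one]
    refine (hj2.to_sup_of_normal_right' hrp hnorm).to_le ?_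
    refine sup_le le_sup_left ?_
    rw [MonoidHom.map_zpowers, MulEquiv.coe_toMonoidHom, MulAut.conj_apply, Subgroup.zpowers_le]
    have : j' = j * r := by rw [hr, ← mul_assoc, hjj, one_mul]
    show j' ∈ _
    rw [this]
    exact mul_mem (Subgroup.mem_sup_left (Subgroup.mem_zpowers j))
      (Subgroup.mem_sup_right (Subgroup.mem_zpowers r))
  haveI := hNn
  haveI : Group.IsSolvable ↥N := by
    haveI := hN2.isNilpotent
    infer_instance
  have hN : N ≠ ⊥ := fun h => hj1 (by
    have := hjN (Subgroup.mem_zpowers j)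
    rwa [h, Subgroup.mem_bot] at this)
  obtain ⟨E, p, hE, hEN, hr, hc, hp, hpg, hel, hpd⟩ := exists_regular h2 N hN
  have hp2 : p = 2 := (Nat.prime_dvd_prime_iff_eq hp Nat.prime_two).1 (hp.dvd_of_dvd_pow (hn ▸ hpd))
  subst hp2
  exact ⟨E, hE, hr, hc, fun e he => by rw [← pow_two]; exact hel e he⟩

/-! ### counting -/

include h2 in
theorem card_filter_pair [DecidableEq Ω] (S : Finset G) (hconj : ∀ g : G, ∀ u ∈ S, g * u * g⁻¹ ∈ S) (P : G → Ω → Ω → Prop)
    [∀ u x y, Decidable (P u x y)] (hP : ∀ g u x y, P u x y → P (g * u * g⁻¹) (g • x) (g • y))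
    {a b : Ω} (hab : a ≠ b) :
    ∑ u ∈ S, (Finset.univ.offDiag.filter fun p : Ω × Ω => P u p.1 p.2).card =
      Fintype.card Ω * (Fintype.card Ω - 1) * (S.filter fun u => P u a b).card := by
  classical
  simp only [Finset.card_filter]
  rw [Finset.sum_comm]
  have hcst : ∀ p ∈ (Finset.univ.offDiag : Finset (Ω × Ω)),
      (∑ u ∈ S, if P u p.1 p.2 then 1 else 0) = ∑ u ∈ S, if P u a b then 1 else 0 := by
    intro p hp
    obtain ⟨g, hga, hgb⟩ := (is_two_pretransitive_iff.1 h2) hab (Finset.mem_offDiag.1 hp).2.2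
    refine Finset.sum_bij' (fun u _ => g⁻¹ * u * g) (fun u _ => g * u * g⁻¹) ?_ (fun u hu => hconj g u hu)
      (fun u _ => by group) (fun u _ => by group) fun u hu => ?_
    · intro u hu
      have := hconj g⁻¹ u hu
      rwa [inv_inv] at this
    · have hiff : P u p.1 p.2 ↔ P (g⁻¹ * u * g) a b := by
        constructor
        · intro h
          have := hP g⁻¹ u _ _ h
          rwa [inv_inv, ← hga, ← hgb, inv_smul_smul, inv_smul_smul] at this
        · intro h
          have := hP g _ _ _ h
          rw [hga, hgb] at this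
          simpa [mul_assoc] using this
      simp only [hiff]
  rw [Finset.sum_congr rfl hcst, Finset.sum_const, Finset.offDiag_card, Finset.card_univ, smul_eq_mul,
    Nat.mul_sub, mul_one]

include h2 in
/-- the swapped pairs of an invariant set of involutions -/
theorem card_swapped [DecidableEq Ω] (S : Finset G) (hconj : ∀ g : G, ∀ u ∈ S, g * u * g⁻¹ ∈ S)
    (hsq : ∀ u ∈ S, u * u = 1) {f : ℕ} (hf : ∀ u ∈ S, fixCard Ω u = f) {a b : Ω} (hab : a ≠ b) :
    S.card * (Fintype.card Ω - f) =
      Fintype.card Ω * (Fintype.card Ω - 1) * (S.filter fun u => u • a = b ∧ u • b = a).card := by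
  classical
  rw [← card_filter_pair h2 S hconj (fun u x y => u • x = y ∧ u • y = x) (fun g u x y h => ?_) hab]
  · rw [← smul_eq_mul, ← Finset.sum_const]
    refine Finset.sum_congr rfl fun u hu => ?_
    have hcard : (Finset.univ.filter fun x : Ω => u • x ≠ x).card = Fintype.card Ω - f := by
      have h1 := Finset.card_filter_add_card_filter_not (s := (Finset.univ : Finset Ω)) fun x => u • x = x
      have h2' : (Finset.univ.filter fun x : Ω => u • x = x).card = f := by
        rw [← hf u hu, fixCard, Nat.card_eq_fintype_card, Fintype.card_subtype]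
      rw [h2', Finset.card_univ] at h1
      simp only [ne_eq] at h1 ⊢
      omega
    rw [← hcard]
    refine (Finset.card_bij (fun x _ => (x, u • x)) ?_ ?_ ?_)
    · intro x hx
      simp only [Finset.mem_filter, Finset.mem_offDiag, Finset.mem_univ, true_and] at hx ⊢
      refine ⟨Ne.symm hx, ?_⟩
      rw [← mul_smul, hsq u hu, one_smul]
    · intro x _ y _ h
      exact (Prod.mk.inj h).1
    · intro p hp
      simp only [Finset.mem_filter, Finset.mem_offDiag, Finset.mem_univ, true_and] at hp
      exact ⟨p.1, by simp [hp.2.1, Ne.symm hp.1], by rw [hp.2.1]⟩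
  · constructor <;> simp only [mul_smul, inv_smul_smul, h.1, h.2]

include h2 in
/-- the fixed pairs of an invariant set -/
theorem card_fixed [DecidableEq Ω] (S : Finset G) (hconj : ∀ g : G, ∀ u ∈ S, g * u * g⁻¹ ∈ S) {f : ℕ}
    (hf : ∀ u ∈ S, fixCard Ω u = f) {a b : Ω} (hab : a ≠ b) :
    S.card * (f * (f - 1)) =
      Fintype.card Ω * (Fintype.card Ω - 1) * (S.filter fun u => u • a = a ∧ u • b = b).card := by
  classical
  rw [← card_filter_pair h2 S hconj (fun u x y => u • x = x ∧ u • y = y) (fun g u x y h => ?_) hab]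
  · rw [← smul_eq_mul, ← Finset.sum_const]
    refine Finset.sum_congr rfl fun u hu => ?_
    have hcard : (Finset.univ.filter fun x : Ω => u • x = x).card = f := by
      rw [← hf u hu, fixCard, Nat.card_eq_fintype_card, Fintype.card_subtype]
    have : (Finset.univ.offDiag.filter fun p : Ω × Ω => u • p.1 = p.1 ∧ u • p.2 = p.2) =
        (Finset.univ.filter fun x : Ω => u • x = x).offDiag := by
      ext p
      simp only [Finset.mem_filter, Finset.mem_offDiag, Finset.mem_univ, true_and]
      tauto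
    rw [this, Finset.offDiag_card, hcard, Nat.mul_sub, mul_one]
  · constructor <;> simp only [mul_smul, inv_smul_smul, h.1, h.2]

include h2 in
/-- Witt's lemma for an element fixing two points -/
theorem exists_commute_map {t : G} {a b c d : Ω} (hab : a ≠ b) (hcd : c ≠ d) (hta : t • a = a) (htb : t • b = b)
    (htc : t • c = c) (htd : t • d = d)
    (hfus : ∀ u : G, u • a = a → u • b = b → (∃ g : G, g * t * g⁻¹ = u) →
      ∃ k : G, k • a = a ∧ k • b = b ∧ k * t * k⁻¹ = u) :
    ∃ g : G, g * t = t * g ∧ g • a = c ∧ g • b = d := by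
  obtain ⟨g, hga, hgb⟩ := (is_two_pretransitive_iff.1 h2) hab hcd
  obtain ⟨k, hka, hkb, hk⟩ := hfus (g⁻¹ * t * g) (by rw [mul_smul, mul_smul, hga, htc, ← hga, inv_smul_smul])
    (by rw [mul_smul, mul_smul, hgb, htd, ← hgb, inv_smul_smul]) ⟨g⁻¹, by rw [inv_inv]⟩
  refine ⟨g * k, ?_, by rw [mul_smul, hka, hga], by rw [mul_smul, hkb, hgb]⟩
  rw [← mul_inv_eq_iff_eq_mul, show g * k * t * (g * k)⁻¹ = g * (k * t * k⁻¹) * g⁻¹ by group, hk]
  group

end Cfsg.Agent.TwoPointA5
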