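import Cfsg.Agent.Lib.GW.BenderComponentPSL
import Cfsg.Agent.Lib.GW.OvergroupsAut
import Cfsg.Agent.Lib.GW.MainFinal
import Cfsg.Agent.Lib.Hall.MinimalNormal
import Cfsg.Agent.Lib.ZStar.Main
import Cfsg.Agent.S0205

/-!
# Facts from the dihedral Sylow theorem

Groups with a four-group as Sylow 2-subgroup, the torus of an involution, and the socle of a group with a
dihedral Sylow 2-subgroup of order eight.
-/

set_option autoImplicit false
set_option linter.unusedSectionVars false
set_option linter.style.haveILetI false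

namespace Cfsg.Agent.TwoPointA5.GWFacts

open Subgroup
open scoped MatrixGroups commutatorElement

universe u

variable {X : Type u} [Group X] [Finite X]

theorem normal_odd_eq_bot (hO : Cfsg.oddCore X = ⊥) (N : Subgroup X) [N.Normal]
    (h : Odd (Nat.card N)) : N = ⊥ :=
  le_bot_iff.1 (hO ▸ Agent.Cores.le_oddCore h)

/-- A minimal normal subgroup which is not solvable is perfect. -/
theorem perfect_of_minimal {M : Subgroup X} [M.Normal]
    (hmin : ∀ K : Subgroup X, K.Normal → K ≤ M → K = ⊥ ∨ K = M) (hns : ¬ Group.IsSolvable M) :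
    Group.IsPerfect M := by
  have hle : ⁅M, M⁆ ≤ M := commutator_le.2 fun a ha b hb =>
    mul_mem (mul_mem (mul_mem ha hb) (inv_mem ha)) (inv_mem hb)
  rcases hmin ⁅M, M⁆ inferInstance hle with h | h
  · refine absurd (Group.isSolvable_of_comm fun a b => Subtype.ext ?_) hns
    have h1 := commutator_mem_commutator (H₁ := M) (H₂ := M) a.2 b.2
    rw [h, mem_bot] at h1
    exact commutatorElement_eq_one_iff_mul_comm.1 h1
  · refine ⟨map_injective M.subtype_injective ?_⟩
    rw [map_subtype_commutator, h, ← MonoidHom.range_eq_map, range_subtype]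

/-- A four-group is dihedral. -/
theorem nonempty_dihedral (S : Subgroup X) (h4 : Nat.card S = 4) (hsq : ∀ x ∈ S, x * x = 1) :
    Nonempty (S ≃* DihedralGroup 2) := by
  haveI : Nontrivial S := Finite.one_lt_card_iff_nontrivial.1 (by omega)
  haveI : IsKleinFour S := ⟨h4, by
    rw [Monoid.exponent_eq_prime_iff Nat.prime_two]
    intro g hg
    exact orderOf_eq_prime (Subtype.ext (by
      rw [SubgroupClass.coe_pow, pow_two]; exact hsq g g.2)) hg⟩
  haveI : IsKleinFour (DihedralGroup 2) := inferInstance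
  exact IsKleinFour.nonempty_mulEquiv

section Four

variable (S : Sylow 2 X) (hS4 : Nat.card (S : Subgroup X) = 4)
  (hsq : ∀ x ∈ (S : Subgroup X), x * x = 1)
  (hfus : ∃ r ∈ normalizer ((S : Subgroup X) : Set X), ∃ x ∈ (S : Subgroup X), r * x * r⁻¹ ≠ x)

include hS4 hsq in
theorem comm_four {a b : X} (ha : a ∈ (S : Subgroup X)) (hb : b ∈ (S : Subgroup X)) :
    Commute a b := by
  have h1 : (a * b)⁻¹ = a * b := inv_eq_of_mul_eq_one_left (hsq _ (mul_mem ha hb))
  rw [mul_inv_rev, inv_eq_of_mul_eq_one_left (hsq a ha), inv_eq_of_mul_eq_one_left (hsq b hb)] at h1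
  exact h1.symm

include hS4 hsq hfus in
/-- The involutions of `S` are conjugate under its normalizer. -/
theorem normalizer_trans {x y : X} (hx : x ∈ (S : Subgroup X)) (hx1 : x ≠ 1)
    (hy : y ∈ (S : Subgroup X)) (hy1 : y ≠ 1) :
    ∃ r ∈ normalizer ((S : Subgroup X) : Set X), r * x * r⁻¹ = y := by
  classical
  haveI := Fact.mk Nat.prime_two
  obtain ⟨r, hr, w, hw, hne⟩ := hfus
  have hmemN : ∀ z ∈ (S : Subgroup X), r * z * r⁻¹ ∈ (S : Subgroup X) :=
    fun z hz => (mem_normalizer_iff.1 hr z).1 hz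
  -- an odd power of `r` centralises `S`
  obtain ⟨m, b, hb, hmb⟩ := Nat.exists_eq_two_pow_mul_odd (orderOf_pos r).ne'
  have hrS : r ^ b ∈ (S : Subgroup X) := by
    set N := normalizer ((S : Subgroup X) : Set X)
    let S₁ : Sylow 2 N := S.subtype le_normalizer
    haveI : (S₁ : Subgroup N).Normal := normal_subgroupOf_of_le_normalizer le_rfl
    have hp : IsPGroup 2 (zpowers (⟨r, hr⟩ ^ b : N)) := IsPGroup.of_card (n := m) (by
      rw [Nat.card_zpowers, orderOf_pow_of_dvd (fun h => by simp [h] at hb)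
        (by rw [Subgroup.orderOf_mk, hmb]; exact dvd_mul_left b _), Subgroup.orderOf_mk, hmb,
        Nat.mul_div_cancel _ (Nat.pos_of_ne_zero fun h => by simp [h] at hb)])
    obtain ⟨T, hT⟩ := hp.exists_le_sylow
    haveI := Sylow.unique_of_normal S₁ inferInstance
    rw [Subsingleton.elim T S₁] at hT
    exact hT (mem_zpowers _)
  have hcen : ∀ z ∈ (S : Subgroup X), r ^ b * z * (r ^ b)⁻¹ = z := fun z hz => by
    rw [(comm_four S hS4 hsq hrS hz).eq, mul_inv_cancel_right]
  set w₁ := r * w * r⁻¹ with hw₁def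
  set w₂ := r * w₁ * r⁻¹ with hw₂def
  have hw1 : w ≠ 1 := fun h => hne (by rw [hw₁def, h]; group)
  have hw₁S : w₁ ∈ (S : Subgroup X) := hmemN w hw
  have hw₂S : w₂ ∈ (S : Subgroup X) := hmemN w₁ hw₁S
  have h12 : w₂ ≠ w₁ := fun h => hne (mul_left_cancel (mul_right_cancel h))
  have h02 : w₂ ≠ w := by
    intro h
    obtain ⟨i, rfl⟩ := hb
    have hc : Commute (r ^ 2) w := mul_inv_eq_iff_eq_mul.1 (by
      rw [show r ^ 2 * w * (r ^ 2)⁻¹ = w₂ by rw [hw₂def, hw₁def, pow_two]; group, h])
    have hpow : Commute (r ^ (2 * i)) w := by rw [pow_mul]; exact hc.pow_left i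
    refine hne ?_
    calc w₁ = r * (r ^ (2 * i) * w * (r ^ (2 * i))⁻¹) * r⁻¹ := by
          rw [hpow.eq, mul_inv_cancel_right]
      _ = r ^ (2 * i + 1) * w * (r ^ (2 * i + 1))⁻¹ := by rw [pow_succ']; group
      _ = w := hcen w hw
  have hn1 : ∀ z, z ≠ 1 → r * z * r⁻¹ ≠ 1 := fun z hz h => hz (conj_eq_one_iff.1 h)
  have hset : ((S : Subgroup X) : Set X) = {1, w, w₁, w₂} := by
    refine (Set.eq_of_subset_of_ncard_le ?_ ?_).symm
    · simp only [Set.insert_subset_iff, Set.singleton_subset_iff, SetLike.mem_coe]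
      exact ⟨one_mem _, hw, hw₁S, hw₂S⟩
    · have h4 := hS4
      rw [← SetLike.coe_sort_coe, Nat.card_coe_set_eq] at h4
      rw [h4, Set.ncard_insert_of_notMem, Set.ncard_insert_of_notMem, Set.ncard_pair]
      · exact h12.symm
      · simp only [Set.mem_insert_iff, Set.mem_singleton_iff, not_or]
        exact ⟨fun h => hne h.symm, h02.symm⟩
      · simp only [Set.mem_insert_iff, Set.mem_singleton_iff, not_or]
        exact ⟨hw1.symm, (hn1 w hw1).symm, (hn1 _ (hn1 w hw1)).symm⟩
  have hfrom : ∀ z ∈ (S : Subgroup X), z ≠ 1 → ∃ g ∈ normalizer ((S : Subgroup X) : Set X),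
      g * w * g⁻¹ = z := by
    intro z hz hz1
    have hz' : z ∈ ({1, w, w₁, w₂} : Set X) := hset ▸ hz
    simp only [Set.mem_insert_iff, Set.mem_singleton_iff] at hz'
    rcases hz' with h | h | h | h
    · exact absurd h hz1
    · exact ⟨1, one_mem _, by rw [h]; group⟩
    · exact ⟨r, hr, h.symm⟩
    · exact ⟨r * r, mul_mem hr hr, by rw [h, hw₂def, hw₁def]; group⟩
  obtain ⟨g, hg, hgx⟩ := hfrom x hx hx1
  obtain ⟨g', hg', hgy⟩ := hfrom y hy hy1
  exact ⟨g' * g⁻¹, mul_mem hg' (inv_mem hg), by rw [← hgx, ← hgy]; group⟩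

include hS4 hsq hfus in
theorem exists_conj_mem {z : X} (hz : orderOf z = 2) {x : X} (hx : x ∈ (S : Subgroup X))
    (hx1 : x ≠ 1) : ∃ g : X, g * x * g⁻¹ = z := by
  haveI := Fact.mk Nat.prime_two
  obtain ⟨T, hT⟩ := (IsPGroup.of_card (G := zpowers z) (n := 1) (by
    rw [Nat.card_zpowers, hz, pow_one])).exists_le_sylow
  obtain ⟨g, rfl⟩ := MulAction.exists_smul_eq X S T
  obtain ⟨y, hy, hyz⟩ := hT (mem_zpowers z)
  have hyz' : g * y * g⁻¹ = z := hyz
  obtain ⟨r, -, hr⟩ := normalizer_trans S hS4 hsq hfus hx hx1 hy (fun h => by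
    rw [← hyz', h, mul_one, mul_inv_cancel, orderOf_one] at hz; omega)
  exact ⟨g * r, by rw [← hyz', ← hr]; group⟩

/-- The structure of a group without core with Sylow 2-subgroup a fused four-group. -/
def FourShape : Prop :=
  ((S : Subgroup X).Normal ∧ Nat.card X = 12 ∧
      centralizer ((S : Subgroup X) : Set X) = (S : Subgroup X)) ∨
    ∃ (L : Subgroup X) (F : Type) (_ : Field F) (_ : Fintype F), L.Normal ∧ Odd (Fintype.card F) ∧
      3 < Fintype.card F ∧ Nonempty (L ≃* Matrix.ProjectiveSpecialLinearGroup (Fin 2) F) ∧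
      (S : Subgroup X) ≤ L ∧ centralizer (L : Set X) = ⊥ ∧ (∀ z : X, orderOf z = 2 → z ∈ L) ∧
      ∀ K : Subgroup X, K.Normal → K ≠ ⊥ → L ≤ K

include hS4 hsq hfus in
theorem four_shape (hO : Cfsg.oddCore X = ⊥) : FourShape S := by
  classical
  haveI := Fact.mk Nat.prime_two
  haveI : Nontrivial (S : Subgroup X) := Finite.one_lt_card_iff_nontrivial.1 (by omega)
  obtain ⟨⟨s₀, hs₀⟩, hs₀'⟩ := exists_ne (1 : (S : Subgroup X))
  have hs₁ : s₀ ≠ 1 := fun h => hs₀' (Subtype.ext h)
  -- a normal subgroup of even order contains `S` and all involutions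
  have heven : ∀ K : Subgroup X, K.Normal → K ≠ ⊥ →
      (S : Subgroup X) ≤ K ∧ ∀ z : X, orderOf z = 2 → z ∈ K := by
    intro K hK hne
    haveI := hK
    have h2 : 2 ∣ Nat.card K := by
      rw [Nat.dvd_iff_mod_eq_zero, ← Nat.even_iff]
      by_contra hodd
      exact hne (normal_odd_eq_bot hO K (Nat.not_even_iff_odd.1 hodd))
    obtain ⟨y, hy⟩ := exists_prime_orderOf_dvd_card' (G := K) 2 h2
    have hy2 : orderOf (y : X) = 2 := by rw [Subgroup.orderOf_coe, hy]
    obtain ⟨g, hg⟩ := exists_conj_mem S hS4 hsq hfus hy2 hs₀ hs₁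
    have hs0K : s₀ ∈ K := by
      have := hK.conj_mem _ y.2 g⁻¹
      rwa [← hg, show g⁻¹ * (g * s₀ * g⁻¹) * g⁻¹⁻¹ = s₀ by group] at this
    have hall : ∀ z : X, orderOf z = 2 → z ∈ K := fun z hz => by
      obtain ⟨h, rfl⟩ := exists_conj_mem S hS4 hsq hfus hz hs₀ hs₁
      exact hK.conj_mem _ hs0K h
    refine ⟨fun s hs => ?_, hall⟩
    by_cases h1 : s = 1
    · rw [h1]; exact one_mem K
    · exact hall s (orderOf_eq_prime (by rw [pow_two]; exact hsq s hs) h1)
  obtain ⟨M, hMn, -, hM, hmin⟩ := Hall.exists_minimal_normal (⊤ : Subgroup X) (fun h => by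
    have : s₀ ∈ (⊥ : Subgroup X) := h ▸ mem_top s₀
    exact hs₁ (mem_bot.1 this))
  haveI := hMn
  obtain ⟨hSM, hinvM⟩ := heven M hMn hM
  by_cases hsol : Group.IsSolvable M
  · left
    haveI := hsol
    haveI := Hall.minimal_normal_isMulCommutative hmin
    obtain ⟨p, hp, hpd, hpg, -⟩ := Hall.minimal_normal_isElementaryAbelian hM hmin
    haveI := Fact.mk hp
    have hp2 : p = 2 := by
      have h2 : 2 ∣ Nat.card M := (by rw [hS4]; norm_num : 2 ∣ Nat.card (S : Subgroup X)).trans
        (Subgroup.card_dvd_of_le hSM)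
      obtain ⟨k, hk⟩ := IsPGroup.iff_card.1 hpg
      rw [hk] at h2
      exact ((Nat.prime_dvd_prime_iff_eq Nat.prime_two hp).1 (Nat.prime_two.dvd_of_dvd_pow h2)).symm
    subst hp2
    have hMS : M = (S : Subgroup X) := S.is_maximal' hpg hSM
    have hSn : (S : Subgroup X).Normal := hMS ▸ hMn
    haveI := hSn
    set C := centralizer ((S : Subgroup X) : Set X) with hC
    have hSC : (S : Subgroup X) ≤ C := fun a ha => mem_centralizer_iff.2 fun b hb =>
      (comm_four S hS4 hsq hb ha).eq
    have hCS : C = (S : Subgroup X) := by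
      set S₁ : Sylow 2 C := S.subtype hSC
      have hle : normalizer ((S₁ : Subgroup C) : Set C) ≤ centralizer ((S₁ : Subgroup C) : Set C) :=
        fun c _ => mem_centralizer_iff.2 fun s hs =>
          Subtype.ext (mem_centralizer_iff.1 c.2 (s : X) hs)
      set N := (MonoidHom.transferSylow S₁ hle).ker
      have hN : Odd (Nat.card N) := by
        rw [Nat.odd_iff, ← Nat.two_dvd_ne_zero]
        exact MonoidHom.not_dvd_card_ker_transferSylow S₁ hle
      haveI : (Cfsg.oddCore C).Characteristic := by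
        unfold Cfsg.oddCore; infer_instance
      have hNle : N ≤ Cfsg.oddCore C := Agent.Cores.le_oddCore hN
      have hbot : ((Cfsg.oddCore C).map C.subtype) = ⊥ := normal_odd_eq_bot hO _ (by
        rw [card_subtype]; exact InvChar.Core.odd_card_oddCore)
      have hN1 : N = ⊥ := by
        rw [Subgroup.map_eq_bot_iff_of_injective _ C.subtype_injective] at hbot
        exact le_bot_iff.1 (hbot ▸ hNle)
      refine le_antisymm (fun c hc => ?_) hSC
      have hcompl := MonoidHom.ker_transferSylow_isComplement' S₁ hle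
      have htop : (S₁ : Subgroup C) = ⊤ := by
        have h := hcompl.sup_eq_top
        rwa [show (MonoidHom.transferSylow S₁ hle).ker = ⊥ from hN1, bot_sup_eq] at h
      exact (htop.symm ▸ mem_top (⟨c, hc⟩ : C) : (⟨c, hc⟩ : C) ∈ (S₁ : Subgroup C))
    refine ⟨hSn, ?_, hCS⟩
    -- the centraliser of an involution is `S`
    have hC0 : centralizer ({s₀} : Set X) = (S : Subgroup X) := by
      refine le_antisymm (fun g hg => ?_) fun a ha => mem_centralizer_singleton_iff.2
        (comm_four S hS4 hsq ha hs₀).eq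
      have hgc : Commute g s₀ := mem_centralizer_singleton_iff.1 hg
      have hg2 : g ^ 2 ∈ C := by
        refine mem_centralizer_iff.2 fun v hv => ?_
        have h1 : g * v * g⁻¹ ∈ (S : Subgroup X) := hSn.conj_mem v hv g
        have h2 : g * (g * v * g⁻¹) * g⁻¹ ∈ (S : Subgroup X) := hSn.conj_mem _ h1 g
        have hgs : g * s₀ * g⁻¹ = s₀ := by rw [hgc.eq, mul_inv_cancel_right]
        -- `S = {1, s₀, v, s₀ v}`
        by_cases hv0 : v = 1 ∨ v = s₀
        · rcases hv0 with rfl | rfl
          · rw [one_mul, mul_one]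
          · exact (hgc.pow_left 2).eq.symm
        push Not at hv0
        have hcases : ∀ u ∈ (S : Subgroup X), u = 1 ∨ u = s₀ ∨ u = v ∨ u = s₀ * v := by
          have hset : ((S : Subgroup X) : Set X) = {1, s₀, v, s₀ * v} := by
            refine (Set.eq_of_subset_of_ncard_le ?_ ?_).symm
            · simp only [Set.insert_subset_iff, Set.singleton_subset_iff, SetLike.mem_coe]
              exact ⟨one_mem _, hs₀, hv, mul_mem hs₀ hv⟩
            · have h4 := hS4
              rw [← SetLike.coe_sort_coe, Nat.card_coe_set_eq] at h4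
              rw [h4, Set.ncard_insert_of_notMem, Set.ncard_insert_of_notMem, Set.ncard_pair]
              · exact fun h => hs₁ (mul_eq_right.1 h.symm)
              · simp only [Set.mem_insert_iff, Set.mem_singleton_iff, not_or]
                exact ⟨hv0.2.symm, fun h => hv0.1 (mul_eq_left.1 h.symm)⟩
              · simp only [Set.mem_insert_iff, Set.mem_singleton_iff, not_or]
                exact ⟨hs₁.symm, hv0.1.symm, fun h => hv0.2 (by
                  rw [← mul_one s₀, h, ← mul_assoc, hsq s₀ hs₀, one_mul])⟩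
          intro u hu
          have : u ∈ ({1, s₀, v, s₀ * v} : Set X) := by rw [← hset]; exact hu
          simpa only [Set.mem_insert_iff, Set.mem_singleton_iff] using this
        have hgg : g * (g * v * g⁻¹) * g⁻¹ = v := by
          rcases hcases _ h1 with h | h | h | h
          · exact absurd (conj_eq_one_iff.1 h) hv0.1
          · exact absurd (mul_left_cancel (mul_right_cancel (h.trans hgs.symm))) hv0.2
          · rw [h, h]
          · rw [h, show g * (s₀ * v) * g⁻¹ = (g * s₀ * g⁻¹) * (g * v * g⁻¹) by group, hgs, h,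
              ← mul_assoc, hsq s₀ hs₀, one_mul]
        calc v * g ^ 2 = (g * (g * v * g⁻¹) * g⁻¹) * g ^ 2 := by rw [hgg]
          _ = g ^ 2 * v := by rw [pow_two]; group
      rw [hCS] at hg2
      have hgp : g ^ (2 ^ 2) = 1 := by
        rw [show (2 : ℕ) ^ 2 = 2 * 2 from rfl, pow_mul, pow_two (g ^ 2), hsq _ hg2]
      obtain ⟨T, hT⟩ := (IsPGroup.of_card (G := zpowers g) (n := (orderOf g).factorization 2) (by
        rw [Nat.card_zpowers]
        obtain ⟨i, -, hi⟩ := (Nat.dvd_prime_pow Nat.prime_two).1 (orderOf_dvd_of_pow_eq_one hgp)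
        rw [hi, Nat.prime_two.factorization_pow, Finsupp.single_eq_same])).exists_le_sylow
      haveI := Sylow.unique_of_normal S hSn
      rw [Subsingleton.elim T S] at hT
      exact hT (mem_zpowers g)
    haveI : Finite (ConjAct X) := inferInstanceAs (Finite X)
    have horb : MulAction.orbit (ConjAct X) s₀ = ((S : Subgroup X) : Set X) \ {1} := by
      ext z
      constructor
      · rintro ⟨g, rfl⟩
        exact ⟨hSn.conj_mem s₀ hs₀ (ConjAct.ofConjAct g), fun h => hs₁ (conj_eq_one_iff.1
          (show ConjAct.ofConjAct g * s₀ * (ConjAct.ofConjAct g)⁻¹ = 1 from h))⟩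
      · rintro ⟨hz, hz1⟩
        obtain ⟨r, -, hr⟩ := normalizer_trans S hS4 hsq hfus hs₀ hs₁ hz hz1
        exact ⟨ConjAct.toConjAct r, hr⟩
    have h3 : (MulAction.stabilizer (ConjAct X) s₀).index = 3 := by
      have h4 := hS4
      rw [← SetLike.coe_sort_coe, Nat.card_coe_set_eq] at h4
      rw [MulAction.index_stabilizer, horb, Set.ncard_sdiff_singleton_of_mem (one_mem (S : Subgroup X)), h4]
    have hst : Nat.card (MulAction.stabilizer (ConjAct X) s₀) = 4 := by
      rw [← hS4, ← hC0]
      refine Nat.card_congr ((ConjAct.toConjAct (G := X)).symm.toEquiv.subtypeEquiv fun a => ?_)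
      show a • s₀ = s₀ ↔ ConjAct.ofConjAct a ∈ centralizer ({s₀} : Set X)
      rw [ConjAct.smul_def, mul_inv_eq_iff_eq_mul, mem_centralizer_singleton_iff]
    have h := (MulAction.stabilizer (ConjAct X) s₀).card_mul_index
    rw [h3, hst] at h
    exact h.symm
  · right
    haveI := perfect_of_minimal hmin hsol
    have hOM : Cfsg.oddCore M = ⊥ := by
      haveI : (Cfsg.oddCore M).Characteristic := by
        unfold Cfsg.oddCore; infer_instance
      have h := normal_odd_eq_bot hO ((Cfsg.oddCore M).map M.subtype) (by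
        rw [card_subtype]; exact InvChar.Core.odd_card_oddCore)
      rwa [Subgroup.map_eq_bot_iff_of_injective _ M.subtype_injective] at h
    set SM : Sylow 2 M := S.subtype hSM
    obtain ⟨e⟩ := nonempty_dihedral (SM : Subgroup M) (by
      rw [← hS4]; exact Nat.card_congr (subgroupOfEquivOfLe hSM).toEquiv)
      fun x hx => Subtype.ext (hsq (x : X) hx)
    let eq : M ⧸ Cfsg.oddCore M ≃* M :=
      (QuotientGroup.quotientMulEquivOfEq hOM).trans QuotientGroup.quotientBot
    have hcent : centralizer (M : Set X) = ⊥ := by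
      haveI : (centralizer (M : Set X)).Normal := by infer_instance
      refine normal_odd_eq_bot hO _ ?_
      rw [Nat.odd_iff, ← Nat.two_dvd_ne_zero]
      intro h2
      obtain ⟨y, hy⟩ := exists_prime_orderOf_dvd_card' (G := centralizer (M : Set X)) 2 h2
      have hy2 : orderOf (y : X) = 2 := by rw [Subgroup.orderOf_coe, hy]
      have hyM := hinvM _ hy2
      have hne : center M ≠ ⊥ := by
        intro h
        have h1 : (⟨(y : X), hyM⟩ : M) ∈ center M := mem_center_iff.2 fun m =>
          Subtype.ext (mem_centralizer_iff.1 y.2 (m : X) m.2)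
        rw [h, mem_bot] at h1
        rw [show (y : X) = 1 from congrArg Subtype.val h1, orderOf_one] at hy2
        omega
      rcases hmin ((center M).map M.subtype) inferInstance (map_subtype_le _) with h | h
      · exact hne ((Subgroup.map_eq_bot_iff_of_injective _ M.subtype_injective).1 h)
      · refine hsol (Group.isSolvable_of_comm fun a b => ?_)
        have ha : (a : X) ∈ (center M).map M.subtype := h.symm ▸ a.2
        obtain ⟨a', ha', e'⟩ := ha
        rw [show a = a' from Subtype.ext e'.symm]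
        exact (mem_center_iff.1 ha' b).symm
    have hmono : ∀ K : Subgroup X, K.Normal → K ≠ ⊥ → M ≤ K := by
      intro K hK hne
      haveI := hK
      rcases hmin (M ⊓ K) inferInstance inf_le_left with h | h
      · exfalso
        refine hne (le_bot_iff.1 (hcent ▸ fun k hk => mem_centralizer_iff.2 fun m hm => ?_))
        exact commute_of_normal_of_disjoint M K hMn hK (disjoint_iff.2 h) m k hm hk
      · exact inf_eq_left.1 h
    rcases GW.perfectGW SM 2 le_rfl ⟨e⟩ with ⟨F, _, _, hodd, h3, ⟨eF⟩⟩ | ⟨⟨eA⟩⟩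
    · exact ⟨M, F, inferInstance, inferInstance, hMn, hodd, h3, ⟨eq.symm.trans eF⟩, hSM, hcent,
        hinvM, hmono⟩
    · exfalso
      have hcardM : Nat.card M = 2520 := by
        rw [Nat.card_congr (eq.symm.trans eA).toEquiv, nat_card_alternatingGroup]
        simp [Nat.card_eq_fintype_card, Nat.factorial]
      have hfac := SM.card_eq_multiplicity
      rw [show Nat.card (SM : Subgroup M) = 4 from
        (Nat.card_congr (subgroupOfEquivOfLe hSM).toEquiv).trans hS4, hcardM] at hfac
      have h3' : 3 ≤ Nat.factorization 2520 2 :=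
        (Nat.prime_two.pow_dvd_iff_le_factorization (by norm_num)).1 (by norm_num)
      have : (2 : ℕ) ^ 3 ≤ 4 := hfac ▸ Nat.pow_le_pow_right two_pos h3'
      norm_num at this

end Four

end Cfsg.Agent.TwoPointA5.GWFacts
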