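import Mathlib
import Cfsg.Agent.Lib.Perm.Sharp

/-!
# Actions that are sharply 2-transitive modulo their kernel
-/

set_option autoImplicit false
set_option linter.unusedSectionVars false
set_option linter.style.haveILetI false

namespace Cfsg.Agent.TwoPointA5

open MulAction

variable {C P : Type*} [Group C] [Finite C] [Fintype P] [MulAction C P]

/-- An element fixing two points fixes all. -/
def SharpModKer (C P : Type*) [Group C] [MulAction C P] : Prop :=
  ∀ (g : C) (x y : P), x ≠ y → g • x = x → g • y = y → ∀ z : P, g • z = z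

/-- The elements acting as translations. -/
structure Translations (C P : Type*) [Group C] [MulAction C P] [Fintype P] where
  /-- the group of translations, containing the kernel -/
  N : Subgroup C
  normal : N.Normal
  mem_iff : ∀ g : C, g ∈ N ↔ (∀ x : P, g • x = x) ∨ ∀ x : P, g • x ≠ x
  trans : ∀ x y : P, ∃ g ∈ N, g • x = y
  comm : ∀ g ∈ N, ∀ h ∈ N, ∀ x : P, g • h • x = h • g • x
  /-- the prime -/
  p : ℕ
  /-- the exponent -/
  k : ℕ
  prime : p.Prime
  k_ne : k ≠ 0
  card_eq : Fintype.card P = p ^ k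
  pow_eq : ∀ g ∈ N, ∀ x : P, g ^ p • x = x

variable [Nontrivial P] (h2 : IsMultiplyPretransitive C P 2) (hs : SharpModKer C P)
include h2 hs

/-- The translations of an action which is sharply 2-transitive modulo its kernel. -/
theorem exists_translations : Nonempty (Translations C P) := by
  classical
  let π : C →* Equiv.Perm P := MulAction.toPermHom C P
  have hsm : ∀ (g : C) (x : P), (π.rangeRestrict g) • x = g • x := fun g x => rfl
  have h2' : IsMultiplyPretransitive π.range P 2 := by
    rw [is_two_pretransitive_iff]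
    intro a b c d hab hcd
    obtain ⟨g, h1, h2⟩ := is_two_pretransitive_iff.1 h2 hab hcd
    exact ⟨π.rangeRestrict g, h1, h2⟩
  have hsharp : ∀ x : Fin 2 ↪ P, stabilizer π.range x = ⊥ := by
    intro x
    rw [Subgroup.eq_bot_iff_forall]
    rintro ⟨_, g, rfl⟩ hq
    have h0 : g • x 0 = x 0 := DFunLike.congr_fun hq (0 : Fin 2)
    have h1 : g • x 1 = x 1 := DFunLike.congr_fun hq (1 : Fin 2)
    exact Subtype.ext (Equiv.ext (hs g _ _ (x.injective.ne (by decide)) h0 h1))
  obtain ⟨N₀, hn, hcomm, htr, hst, hmem, p, hp, hpg, hexp⟩ := Cfsg.Agent.Perm.Sharp.exists_kernel h2' hsharp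
  haveI := Fact.mk hp
  obtain ⟨x₀, y₀, hxy⟩ := exists_pair_ne P
  obtain ⟨k, hk⟩ := IsPGroup.iff_card.1 hpg
  haveI := htr
  have hcard : Fintype.card P = p ^ k := by
    rw [← Nat.card_eq_fintype_card, ← hk, ← (stabilizer N₀ x₀).card_mul_index,
      index_stabilizer_of_transitive, hst, Subgroup.card_bot, one_mul]
  have hmem' : ∀ g : C, g ∈ N₀.comap π.rangeRestrict ↔
      (∀ x : P, g • x = x) ∨ ∀ x : P, g • x ≠ x := by
    intro g
    rw [Subgroup.mem_comap, hmem]
    refine or_congr ⟨fun h x => ?_, fun h => Subtype.ext (Equiv.ext h)⟩ Iff.rfl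
    have := congrArg (fun q : π.range => q • x) h
    simpa [hsm] using this
  refine ⟨⟨N₀.comap π.rangeRestrict, hn.comap _, hmem', fun x y => ?_, fun g hg h hh x => ?_, p, k,
    hp, fun h0 => ?_, hcard, fun g hg x => ?_⟩⟩
  · obtain ⟨⟨⟨_, g, rfl⟩, hg⟩, hxy'⟩ := exists_smul_eq N₀ x y
    exact ⟨g, hg, hxy'⟩
  · have h1 := congrArg (fun q : N₀ => (q : π.range) • x)
      (mul_comm' (⟨_, hg⟩ : N₀) ⟨_, hh⟩)
    simpa [mul_smul, hsm] using h1
  · have h1 : 1 < Fintype.card P := Fintype.one_lt_card
    rw [hcard, h0, pow_zero] at h1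
    omega
  · have h1 := congrArg (fun q : N₀ => (q : π.range) • x) (hexp ⟨_, hg⟩)
    simp only [SubgroupClass.coe_pow, ← map_pow, hsm, OneMemClass.coe_one, one_smul] at h1
    exact h1

omit h2 in
/-- An involutive element fixes at most one point unless it acts trivially, and exactly one in odd
degree. -/
theorem fix_card_invol {g : C} (hg : ∀ x : P, g • g • x = x) (hne : ∃ x : P, g • x ≠ x) :
    (Odd (Fintype.card P) → ∃! x : P, g • x = x) ∧ (Even (Fintype.card P) → ∀ x : P, g • x ≠ x) := by
  classical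
  obtain ⟨z, hz⟩ := hne
  have huniq : ∀ x y : P, g • x = x → g • y = y → x = y := fun x y hx hy =>
    by_contra fun h => hz (hs g x y h hx hy z)
  -- the moved points come in pairs
  have heven : Even (Finset.univ.filter fun x : P => g • x ≠ x).card := by
    rw [← ZMod.natCast_eq_zero_iff_even, Finset.card_eq_sum_ones, Nat.cast_sum, Nat.cast_one]
    refine Finset.sum_involution (fun x _ => g • x) (fun x _ => by decide) (fun x hx _ => ?_)
      (fun x hx => ?_) (fun x _ => hg x)
    · exact (Finset.mem_filter.1 hx).2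
    · refine Finset.mem_filter.2 ⟨Finset.mem_univ _, fun h => (Finset.mem_filter.1 hx).2 ?_⟩
      exact MulAction.injective g h
  have hsum := Finset.card_filter_add_card_filter_not (s := (Finset.univ : Finset P)) fun x => g • x = x
  rw [Finset.card_univ] at hsum
  have hle : (Finset.univ.filter fun x : P => g • x = x).card ≤ 1 :=
    Finset.card_le_one.2 fun x hx y hy => huniq x y (Finset.mem_filter.1 hx).2 (Finset.mem_filter.1 hy).2
  obtain ⟨m, hm⟩ := heven
  constructor
  · rintro ⟨n, hn⟩
    have h1 : (Finset.univ.filter fun x : P => g • x = x).card = 1 := by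
      simp only [ne_eq] at hm
      omega
    obtain ⟨x, hx⟩ := Finset.card_eq_one.1 h1
    have hx' : g • x = x := (Finset.mem_filter.1 (hx ▸ Finset.mem_singleton_self x :
      x ∈ Finset.univ.filter fun x : P => g • x = x)).2
    exact ⟨x, hx', fun y hy => huniq y x hy hx'⟩
  · rintro ⟨n, hn⟩ x hx
    have h1 : 0 < (Finset.univ.filter fun x : P => g • x = x).card :=
      Finset.card_pos.2 ⟨x, Finset.mem_filter.2 ⟨Finset.mem_univ _, hx⟩⟩
    simp only [ne_eq] at hm
    omega

omit h2 in
/-- In even degree the involutive elements are translations. -/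
theorem Translations.invol_mem (T : Translations C P) (hev : Even (Fintype.card P)) {g : C}
    (hg : ∀ x : P, g • g • x = x) : g ∈ T.N := by
  refine (T.mem_iff g).2 ?_
  by_cases hne : ∃ x : P, g • x ≠ x
  · exact Or.inr ((fix_card_invol hs hg hne).2 hev)
  · exact Or.inl fun x => by_contra fun h => hne ⟨x, h⟩

omit h2 in
/-- An involutive element fixing a point inverts the translations: it is determined by the point. -/
theorem Translations.invol_eq (T : Translations C P) {g h : C} {a : P} (hg : ∀ x : P, g • g • x = x)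
    (hh : ∀ x : P, h • h • x = x) (hgne : ∃ x : P, g • x ≠ x) (hhne : ∃ x : P, h • x ≠ x)
    (hga : g • a = a) (hha : h • a = a) : ∀ x : P, g • x = h • x := by
  classical
  let π : C →* Equiv.Perm P := MulAction.toPermHom C P
  have heq : ∀ n ∈ T.N, ∀ m ∈ T.N, n • a = m • a → π n = π m := by
    intro n hn m hm e
    ext x
    show n • x = m • x
    rcases (T.mem_iff (m⁻¹ * n)).1 (mul_mem (inv_mem hm) hn) with h | h
    · have := h x
      rwa [mul_smul, inv_smul_eq_iff] at this
    · exact absurd (by rw [mul_smul, e, inv_smul_smul]) (h a)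
  have key : ∀ u : C, (∀ x : P, u • u • x = x) → (∃ x : P, u • x ≠ x) → u • a = a →
      ∀ n ∈ T.N, u • n • a = n⁻¹ • a := by
    intro u hu hune hua
    have hU : π u * π u = 1 := Equiv.ext hu
    have hua' : u⁻¹ • a = a := inv_smul_eq_iff.2 hua.symm
    have hα : ∀ n : C, u • n • a = (u * n * u⁻¹) • a := fun n => by
      rw [mul_smul, mul_smul, hua']
    -- the points are the `n⁻¹ u n u⁻¹ • a`
    let F : P → P := fun z => ((T.trans a z).choose)⁻¹ • u • z
    have hF : ∀ n ∈ T.N, F (n • a) = (n⁻¹ * (u * n * u⁻¹)) • a := by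
      intro n hn
      obtain ⟨hm, hma⟩ := (T.trans a (n • a)).choose_spec
      show ((T.trans a (n • a)).choose)⁻¹ • u • n • a = _
      rw [mul_smul n⁻¹, ← hα]
      have h := Equiv.ext_iff.1 (heq _ hm n hn hma) (((T.trans a (n • a)).choose)⁻¹ • u • n • a)
      have h' : u • n • a = n • ((T.trans a (n • a)).choose)⁻¹ • u • n • a := by
        conv_lhs => rw [← smul_inv_smul ((T.trans a (n • a)).choose) (u • n • a)]
        exact h
      conv_rhs => rw [h', inv_smul_smul]
    have hinj : Function.Injective F := by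
      intro z w hzw
      obtain ⟨n, hn, rfl⟩ := T.trans a z
      obtain ⟨m, hm, rfl⟩ := T.trans a w
      rw [hF n hn, hF m hm] at hzw
      have e := heq _ (mul_mem (inv_mem hn) (T.normal.conj_mem n hn u))
        _ (mul_mem (inv_mem hm) (T.normal.conj_mem m hm u)) hzw
      simp only [map_mul, map_inv] at e
      set A := π n with hA
      set B := π m with hB
      set U := π u with hUdef
      have hW : U * (B * A⁻¹) * U⁻¹ = B * A⁻¹ := by
        calc U * (B * A⁻¹) * U⁻¹ = (U * B * U⁻¹) * (U * A * U⁻¹)⁻¹ := by group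
          _ = (B * (B⁻¹ * (U * B * U⁻¹))) * (U * A * U⁻¹)⁻¹ := by group
          _ = (B * (A⁻¹ * (U * A * U⁻¹))) * (U * A * U⁻¹)⁻¹ := by rw [e]
          _ = B * A⁻¹ := by group
      by_contra hne
      have hfix : u • (m * n⁻¹) • a = (m * n⁻¹) • a := by
        rw [hα]
        have h : π (u * (m * n⁻¹) * u⁻¹) = π (m * n⁻¹) := by simp only [map_mul, map_inv]; exact hW
        exact Equiv.ext_iff.1 h a
      obtain ⟨z, hz⟩ := hune
      refine hz (hs u a ((m * n⁻¹) • a) (fun h => hne ?_) hua hfix z)
      have h1 := heq (m * n⁻¹) (mul_mem hm (inv_mem hn)) 1 (one_mem _) (by rw [one_smul]; exact h.symm)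
      rw [map_mul, map_one, map_inv, mul_inv_eq_one] at h1
      exact (Equiv.ext_iff.1 h1 a).symm
    intro n hn
    obtain ⟨z, hz⟩ := (Finite.injective_iff_surjective.1 hinj) (n • a)
    obtain ⟨m, hm, rfl⟩ := T.trans a z
    rw [hF m hm] at hz
    have e := heq _ (mul_mem (inv_mem hm) (T.normal.conj_mem m hm u)) n hn hz
    have e' : π (u * n * u⁻¹) = π n⁻¹ := by
      simp only [map_mul, map_inv] at e ⊢
      rw [← e]
      have hi : (π u)⁻¹ = π u := inv_eq_of_mul_eq_one_left hU
      rw [hi]
      simp only [mul_inv_rev, inv_inv, hi, mul_assoc, hU, mul_one]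
    rw [hα]
    exact Equiv.ext_iff.1 e' a
  intro x
  obtain ⟨n, hn, rfl⟩ := T.trans a x
  rw [key g hg hgne hga n hn, key h hh hhne hha n hn]

end Cfsg.Agent.TwoPointA5
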