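import Mathlib
import Cfsg.Agent.Lib.TwoPointA5.Perm

/-!
# Two-transitive groups with two-point stabilisers of order two
-/

set_option autoImplicit false
set_option linter.unusedSectionVars false
set_option linter.unusedVariables false
set_option linter.style.haveILetI false

namespace Cfsg.Agent.TwoPointA5

open MulAction

variable {X Φ : Type*} [Group X] [Finite X] [Fintype Φ] [MulAction X Φ] [FaithfulSMul X Φ]

/-- two-transitive with two-point stabiliser `⟨s⟩` of order two -/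
structure TwoTwo (X Φ : Type*) [Group X] [MulAction X Φ] where
  h2 : IsMultiplyPretransitive X Φ 2
  a : Φ
  b : Φ
  hab : a ≠ b
  s : X
  hss : s * s = 1
  hs1 : s ≠ 1
  hsa : s • a = a
  hsb : s • b = b
  hstab : ∀ g : X, g • a = a → g • b = b → g = 1 ∨ g = s

variable (D : TwoTwo X Φ)
include D

/-- elements fixing two points -/
theorem TwoTwo.conj_of_fix {g : X} {c d : Φ} (hcd : c ≠ d) (hc : g • c = c) (hd : g • d = d) :
    g = 1 ∨ ∃ h : X, g = h * D.s * h⁻¹ := by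
  obtain ⟨h, hha, hhb⟩ := (is_two_pretransitive_iff.1 D.h2) D.hab hcd
  rcases D.hstab (h⁻¹ * g * h) (by rw [mul_smul, mul_smul, hha, hc, ← hha, inv_smul_smul])
    (by rw [mul_smul, mul_smul, hhb, hd, ← hhb, inv_smul_smul]) with e | e
  · left; rw [show g = h * (h⁻¹ * g * h) * h⁻¹ by group, e]; group
  · right; exact ⟨h, by rw [← e]; group⟩

theorem TwoTwo.fixCard_conj (g h : X) : fixCard Φ (h * g * h⁻¹) = fixCard Φ g := by
  refine Nat.card_congr ((MulAction.toPerm h : Equiv.Perm Φ).subtypeEquiv fun x => ?_).symm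
  show g • x = x ↔ (h * g * h⁻¹) • h • x = h • x
  rw [mul_smul, mul_smul, inv_smul_smul, smul_left_cancel_iff]

/-- the number of fixed points of `s` -/
noncomputable abbrev TwoTwo.r : ℕ := fixCard Φ D.s

theorem TwoTwo.two_le_r : 2 ≤ D.r := by
  classical
  show 2 ≤ Nat.card {x : Φ // D.s • x = x}
  rw [Nat.card_eq_fintype_card]
  exact Fintype.one_lt_card_iff.2 ⟨⟨D.a, D.hsa⟩, ⟨D.b, D.hsb⟩, fun h => D.hab (congrArg Subtype.val h)⟩

theorem TwoTwo.r_lt : D.r < Fintype.card Φ := by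
  classical
  show Nat.card {x : Φ // D.s • x = x} < _
  rw [Nat.card_eq_fintype_card]
  obtain ⟨x, hx⟩ : ∃ x : Φ, D.s • x ≠ x := by
    by_contra! h
    exact D.hs1 (eq_of_smul_eq_smul (α := Φ) fun x => by rw [h, one_smul])
  exact Fintype.card_subtype_lt (p := fun x : Φ => D.s • x = x) hx

/-- elements with more than one fixed point -/
theorem TwoTwo.fix_le_one {g : X} (hg : g ≠ 1) (hns : ∀ h : X, g ≠ h * D.s * h⁻¹) : fixCard Φ g ≤ 1 := by
  classical
  rw [fixCard, Nat.card_eq_fintype_card]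
  refine Fintype.card_le_one_iff.2 fun x y => ?_
  by_contra hne
  rcases D.conj_of_fix (fun h => hne (Subtype.ext h)) x.2 y.2 with e | ⟨h, e⟩
  exacts [hg e, hns h e]

/-- odd elements fix at most one point -/
theorem TwoTwo.fix_le_one_of_odd {g : X} (hg : g ≠ 1) (hodd : Odd (orderOf g)) : fixCard Φ g ≤ 1 := by
  refine D.fix_le_one hg fun h e => ?_
  have : orderOf g ∣ 2 := orderOf_dvd_of_pow_eq_one (by
    rw [e, pow_two, show h * D.s * h⁻¹ * (h * D.s * h⁻¹) = h * (D.s * D.s) * h⁻¹ by group, D.hss]; group)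
  rcases (Nat.dvd_prime Nat.prime_two).1 this with h1 | h1
  · exact hg (orderOf_eq_one_iff.1 h1)
  · rw [h1] at hodd; norm_num at hodd

/-- the class of `s` -/
noncomputable def TwoTwo.cls : Finset X := by
  classical
  haveI := Fintype.ofFinite X
  exact Finset.univ.filter fun g => ∃ h : X, g = h * D.s * h⁻¹

theorem TwoTwo.mem_cls {g : X} : g ∈ D.cls ↔ ∃ h : X, g = h * D.s * h⁻¹ := by
  classical simp [TwoTwo.cls]

theorem TwoTwo.cls_conj : ∀ g : X, ∀ u ∈ D.cls, g * u * g⁻¹ ∈ D.cls := fun g u hu => by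
  obtain ⟨h, rfl⟩ := D.mem_cls.1 hu
  exact D.mem_cls.2 ⟨g * h, by group⟩

theorem TwoTwo.cls_sq : ∀ u ∈ D.cls, u * u = 1 := fun u hu => by
  obtain ⟨h, rfl⟩ := D.mem_cls.1 hu
  rw [show h * D.s * h⁻¹ * (h * D.s * h⁻¹) = h * (D.s * D.s) * h⁻¹ by group, D.hss]; group

theorem TwoTwo.cls_fix : ∀ u ∈ D.cls, fixCard Φ u = D.r := fun u hu => by
  obtain ⟨h, rfl⟩ := D.mem_cls.1 hu
  exact D.fixCard_conj _ _

theorem TwoTwo.cls_fix_pairs :
    D.cls.card * (D.r * (D.r - 1)) = Fintype.card Φ * (Fintype.card Φ - 1) := by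
  classical
  rw [card_fixed D.h2 D.cls D.cls_conj D.cls_fix D.hab,
    show D.cls.filter (fun u => u • D.a = D.a ∧ u • D.b = D.b) = {D.s} from ?_, Finset.card_singleton, mul_one]
  ext u
  simp only [Finset.mem_filter, Finset.mem_singleton]
  refine ⟨fun ⟨hu, h1, h2⟩ => (D.hstab u h1 h2).resolve_left fun h => ?_,
    fun h => h ▸ ⟨D.mem_cls.2 ⟨1, by group⟩, D.hsa, D.hsb⟩⟩
  subst h
  obtain ⟨g, hg⟩ := D.mem_cls.1 hu
  exact D.hs1 (by rw [show D.s = g⁻¹ * (g * D.s * g⁻¹) * g by group, ← hg]; group)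

/-- the number of conjugates of `s` exchanging `a` and `b` -/
noncomputable def TwoTwo.k : ℕ := by
  classical exact (D.cls.filter fun u => u • D.a = D.b ∧ u • D.b = D.a).card

theorem TwoTwo.deg_eq : Fintype.card Φ = D.r + D.k * (D.r * (D.r - 1)) := by
  classical
  have h1 := card_swapped D.h2 D.cls D.cls_conj D.cls_sq D.cls_fix D.hab
  have h2 := D.cls_fix_pairs
  have h3 : D.cls.card * (Fintype.card Φ - D.r) = D.cls.card * (D.k * (D.r * (D.r - 1))) := by
    rw [h1, mul_comm D.k, ← mul_assoc, h2]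
    unfold TwoTwo.k; congr!
  have hpos : 0 < D.cls.card := Finset.card_pos.2 ⟨D.s, D.mem_cls.2 ⟨1, by group⟩⟩
  have := Nat.eq_of_mul_eq_mul_left hpos h3
  have := D.r_lt
  omega

/-- the elements exchanging `a` and `b` -/
theorem TwoTwo.swappers : ∃ u : X, u • D.a = D.b ∧ u • D.b = D.a ∧
    ∀ w : X, w • D.a = D.b → w • D.b = D.a → w = u ∨ w = u * D.s := by
  obtain ⟨u, hu1, hu2⟩ := (is_two_pretransitive_iff.1 D.h2) D.hab D.hab.symm
  refine ⟨u, hu1, hu2, fun w h1 h2 => ?_⟩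
  rcases D.hstab (u⁻¹ * w) (by rw [mul_smul, h1, ← hu1, inv_smul_smul])
    (by rw [mul_smul, h2, ← hu2, inv_smul_smul]) with e | e
  · left; rw [← mul_one u, ← e]; group
  · right; rw [← e]; group

theorem TwoTwo.k_bounds : 1 ≤ D.k ∧ D.k ≤ 2 := by
  classical
  constructor
  · by_contra h
    have h0 : D.k = 0 := by omega
    have := D.deg_eq
    have := D.r_lt
    rw [h0, zero_mul] at *
    omega
  · obtain ⟨u, -, -, hu⟩ := D.swappers
    refine le_trans (Finset.card_le_card (t := {u, u * D.s}) fun w hw => ?_) Finset.card_le_two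
    obtain ⟨-, h1, h2⟩ := Finset.mem_filter.1 hw
    rcases hu w h1 h2 with rfl | rfl <;> simp

theorem TwoTwo.deg_of_k_one (h : D.k = 1) : Fintype.card Φ = D.r * D.r := by
  rw [D.deg_eq, h, one_mul]
  obtain ⟨m, hm⟩ : ∃ m, D.r = m + 1 := ⟨D.r - 1, by have := D.two_le_r; omega⟩
  rw [hm, Nat.add_sub_cancel]; ring

/-- with two swapping conjugates, every involution is conjugate to `s` -/
theorem TwoTwo.all_conj_of_k_two (hk : D.k = 2) {g : X} (hgg : g * g = 1) (hg : g ≠ 1) :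
    ∃ h : X, g = h * D.s * h⁻¹ := by
  classical
  obtain ⟨x, hx⟩ : ∃ x : Φ, g • x ≠ x := by
    by_contra! h
    exact hg (eq_of_smul_eq_smul (α := Φ) fun x => by rw [h, one_smul])
  obtain ⟨h, hha, hhb⟩ := (is_two_pretransitive_iff.1 D.h2) D.hab (Ne.symm hx)
  obtain ⟨u, -, -, hu⟩ := D.swappers
  have heq : (D.cls.filter fun w => w • D.a = D.b ∧ w • D.b = D.a) = {u, u * D.s} := by
    refine Finset.eq_of_subset_of_card_le (fun w hw => ?_) ?_
    · obtain ⟨-, h1, h2⟩ := Finset.mem_filter.1 hw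
      rcases hu w h1 h2 with rfl | rfl <;> simp
    · exact Finset.card_le_two.trans hk.ge
  have hgx : g • g • x = x := by rw [← mul_smul, hgg, one_smul]
  have hw : h⁻¹ * g * h ∈ ({u, u * D.s} : Finset X) := by
    have h1 : (h⁻¹ * g * h) • D.a = D.b := by rw [mul_smul, mul_smul, hha, ← hhb, inv_smul_smul]
    have h2 : (h⁻¹ * g * h) • D.b = D.a := by rw [mul_smul, mul_smul, hhb, hgx, ← hha, inv_smul_smul]
    rcases hu _ h1 h2 with e | e <;> rw [e] <;> simp
  rw [← heq, Finset.mem_filter] at hw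
  obtain ⟨m, hm⟩ := D.mem_cls.1 hw.1
  exact ⟨h * m, by rw [show g = h * (h⁻¹ * g * h) * h⁻¹ by group, hm]; group⟩

/-- with one, the swapped pair has a unique swapper outside the class -/
theorem TwoTwo.exists_other (hk : D.k = 1) :
    ∃ w : X, w • D.a = D.b ∧ w • D.b = D.a ∧ w ∉ D.cls ∧ w * w = 1 ∧
      ∀ v : X, v • D.a = D.b → v • D.b = D.a → v ∈ D.cls ∨ v = w := by
  classical
  obtain ⟨u, hu1, hu2, hu⟩ := D.swappers
  obtain ⟨v, hv⟩ := Finset.card_eq_one.1 hk
  have hv' : v ∈ D.cls ∧ v • D.a = D.b ∧ v • D.b = D.a := Finset.mem_filter.1 (hv ▸ Finset.mem_singleton_self v)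
  obtain ⟨hvc, hva, hvb⟩ := hv'
  have hcomm : D.s * v = v * D.s := by
    rcases D.hstab (v * D.s * v⁻¹) (by rw [mul_smul, mul_smul, inv_smul_eq_iff.2 hvb.symm, D.hsb, hvb])
      (by rw [mul_smul, mul_smul, inv_smul_eq_iff.2 hva.symm, D.hsa, hva]) with e | e
    · exact absurd (by rw [show D.s = v⁻¹ * (v * D.s * v⁻¹) * v by group, e]; group) D.hs1
    · exact (mul_inv_eq_iff_eq_mul.1 e).symm
  have hsa' : (v * D.s) • D.a = D.b := by rw [mul_smul, D.hsa, hva]
  have hsb' : (v * D.s) • D.b = D.a := by rw [mul_smul, D.hsb, hvb]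
  refine ⟨v * D.s, hsa', hsb', fun h => ?_, ?_, fun x hxa hxb => ?_⟩
  · have : v * D.s ∈ ({v} : Finset X) := hv ▸ Finset.mem_filter.2 ⟨h, hsa', hsb'⟩
    exact D.hs1 (mul_eq_left.1 (Finset.mem_singleton.1 this))
  · rw [mul_assoc, ← mul_assoc D.s, hcomm, mul_assoc v D.s, D.hss, mul_one, D.cls_sq v hvc]
  · rcases D.hstab (v⁻¹ * x) (by rw [mul_smul, hxa, ← hva, inv_smul_smul])
      (by rw [mul_smul, hxb, ← hvb, inv_smul_smul]) with e | e
    · left; rw [show x = v by rw [← mul_one v, ← e]; group]; exact hvc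
    · right; rw [← e]; group

/-- the involutions outside the class of `s` -/
noncomputable def TwoTwo.jays : Finset X := by
  classical
  haveI := Fintype.ofFinite X
  exact Finset.univ.filter fun g => g * g = 1 ∧ g ≠ 1 ∧ g ∉ D.cls

theorem TwoTwo.mem_jays {g : X} : g ∈ D.jays ↔ g * g = 1 ∧ g ≠ 1 ∧ g ∉ D.cls := by
  classical simp [TwoTwo.jays]

theorem TwoTwo.jays_conj : ∀ g : X, ∀ u ∈ D.jays, g * u * g⁻¹ ∈ D.jays := fun g u hu => by
  obtain ⟨h1, h2, h3⟩ := D.mem_jays.1 hu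
  refine D.mem_jays.2 ⟨?_, fun h => h2 ?_, fun h => h3 ?_⟩
  · rw [show g * u * g⁻¹ * (g * u * g⁻¹) = g * (u * u) * g⁻¹ by group, h1]; group
  · rw [show u = g⁻¹ * (g * u * g⁻¹) * g by group, h]; group
  · have := D.cls_conj g⁻¹ _ h
    rwa [show g⁻¹ * (g * u * g⁻¹) * g⁻¹⁻¹ = u by group] at this

theorem TwoTwo.jays_fix_le : ∀ u ∈ D.jays, fixCard Φ u ≤ 1 := fun u hu => by
  obtain ⟨-, h2, h3⟩ := D.mem_jays.1 hu
  exact D.fix_le_one h2 fun h e => h3 (D.mem_cls.2 ⟨h, e⟩)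

theorem TwoTwo.fix_parity {u : X} (hu : u * u = 1) : fixCard Φ u % 2 = Fintype.card Φ % 2 := by
  haveI : Fact (Nat.Prime 2) := ⟨Nat.prime_two⟩
  have hp : IsPGroup 2 ↥(Subgroup.zpowers u) := fun g => ⟨1, by
    obtain ⟨_, i, rfl⟩ := g
    refine Subtype.ext ?_
    show (u ^ i) ^ (2 ^ 1) = 1
    rw [pow_one, ← zpow_natCast, ← zpow_mul, mul_comm, zpow_mul, zpow_natCast, pow_two, hu, one_zpow]⟩
  have h1 := hp.card_modEq_card_fixedPoints Φ
  rw [Nat.card_eq_fintype_card (α := Φ)] at h1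
  have h2 : Nat.card (fixedPoints ↥(Subgroup.zpowers u) Φ) = fixCard Φ u := by
    refine Nat.card_congr (Equiv.subtypeEquivRight fun x => ?_)
    constructor
    · exact fun h => h ⟨u, Subgroup.mem_zpowers u⟩
    · rintro h ⟨_, i, rfl⟩
      have : u ∈ stabilizer X x := h
      exact Subgroup.zpow_mem _ this i
  rw [h2] at h1
  exact h1.symm

theorem TwoTwo.jays_fix : ∀ u ∈ D.jays, fixCard Φ u = Fintype.card Φ % 2 := fun u hu => by
  have h1 := D.jays_fix_le u hu
  have h2 := D.fix_parity (D.mem_jays.1 hu).1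
  omega

theorem TwoTwo.jays_card (hk : D.k = 1) :
    D.jays.card * (Fintype.card Φ - Fintype.card Φ % 2) = Fintype.card Φ * (Fintype.card Φ - 1) := by
  classical
  obtain ⟨w, hwa, hwb, hwc, hww, hw⟩ := D.exists_other hk
  rw [card_swapped D.h2 D.jays D.jays_conj (fun u hu => (D.mem_jays.1 hu).1) D.jays_fix D.hab,
    show D.jays.filter (fun u => u • D.a = D.b ∧ u • D.b = D.a) = {w} from ?_, Finset.card_singleton, mul_one]
  ext u
  simp only [Finset.mem_filter, Finset.mem_singleton]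
  refine ⟨fun ⟨hu, h1, h2⟩ => (hw u h1 h2).resolve_left (D.mem_jays.1 hu).2.2, ?_⟩
  rintro rfl
  exact ⟨D.mem_jays.2 ⟨hww, fun h => D.hab (by rw [h, one_smul] at hwa; exact hwa), hwc⟩, hwa, hwb⟩

/-- odd degree and one swapping conjugate: a regular normal subgroup -/
theorem TwoTwo.regular_of_odd (hk : D.k = 1) (hodd : Odd (Fintype.card Φ)) :
    ∃ (E : Subgroup X) (p : ℕ), E.Normal ∧ Regular Φ E ∧ IsMulCommutative E ∧ p.Prime ∧ p ≠ 2 ∧ IsPGroup p E ∧
      (∀ e ∈ E, e ^ p = 1) ∧ p ∣ Fintype.card Φ ∧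
      (∀ u ∈ D.jays, ∀ v ∈ D.jays, ∀ x : Φ, u • x = x → v • x = x → u = v) := by
  classical
  haveI : IsMultiplyPretransitive X Φ 2 := D.h2
  haveI : IsPretransitive X Φ := isPretransitive_of_is_two_pretransitive
  have hm : Fintype.card Φ % 2 = 1 := Nat.odd_iff.1 hodd
  have h1 : 1 < Fintype.card Φ := lt_of_lt_of_le D.two_le_r D.r_lt.le
  have hcard : D.jays.card = Fintype.card Φ := by
    have := D.jays_card hk
    rw [hm] at this
    exact Nat.eq_of_mul_eq_mul_right (by omega) this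
  have hfix : ∀ u ∈ D.jays, fixCard Φ u = 1 := fun u hu => by rw [D.jays_fix u hu, hm]
  have hpt : ∀ u ∈ D.jays, ∃ x : Φ, u • x = x := fun u hu => by
    obtain ⟨⟨x, hx⟩⟩ := (Nat.card_pos_iff.1 (by
      have := hfix u hu; unfold fixCard at this; omega : 0 < Nat.card {x : Φ // u • x = x})).1
    exact ⟨x, hx⟩
  choose pt hpt using hpt
  have huniq : ∀ u (hu : u ∈ D.jays) x, u • x = x → x = pt u hu := fun u hu x hx => by
    have h := (Nat.card_eq_one_iff_unique.1 (hfix u hu)).1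
    exact congrArg Subtype.val (@Subsingleton.elim _ h (⟨x, hx⟩ : {x : Φ // u • x = x}) ⟨pt u hu, hpt u hu⟩)
  obtain ⟨j, hj⟩ : D.jays.Nonempty := Finset.card_pos.1 (by omega)
  let F : D.jays → Φ := fun u => pt u.1 u.2
  have hsurj : Function.Surjective F := fun x => by
    obtain ⟨g, hg⟩ := exists_smul_eq X (pt j hj) x
    refine ⟨⟨g * j * g⁻¹, D.jays_conj g j hj⟩, (huniq _ (D.jays_conj g j hj) x ?_).symm⟩
    rw [← hg, mul_smul, mul_smul, inv_smul_smul, hpt]
  have hinj : Function.Injective F := ((Fintype.bijective_iff_surjective_and_card F).2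
    ⟨hsurj, by rw [Fintype.card_coe, hcard]⟩).1
  have hone : ∀ u ∈ D.jays, ∀ v ∈ D.jays, ∀ x : Φ, u • x = x → v • x = x → u = v := fun u hu v hv x h1 h2 =>
    congrArg Subtype.val (hinj (a₁ := ⟨u, hu⟩) (a₂ := ⟨v, hv⟩)
      ((huniq u hu x h1).symm.trans (huniq v hv x h2)))
  have hiso : Cfsg.IsIsolatedInvolution j := by
    refine ⟨orderOf_eq_prime (by rw [pow_two, (D.mem_jays.1 hj).1]) (D.mem_jays.1 hj).2.1, fun g hg => ?_⟩
    have hv := D.jays_conj g j hj
    refine hone _ hv j hj (pt _ hv) (hpt _ hv) ?_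
    refine huniq _ hv _ ?_
    rw [← mul_smul, ← hg.eq, mul_smul, hpt]
  obtain ⟨E, p, hE, hr, hc, hp, hp2, hpg, hel, hpd⟩ := exists_regular_of_isolated D.h2 hiso (hfix j hj) h1
  exact ⟨E, p, hE, hr, hc, hp, hp2, hpg, hel, hpd, hone⟩

/-- two-power degree and one swapping conjugate: an elementary abelian regular normal subgroup -/
theorem TwoTwo.regular_of_even (hk : D.k = 1) {m : ℕ} (hdeg : Fintype.card Φ = 2 ^ m) :
    ∃ E : Subgroup X, E.Normal ∧ Regular Φ E ∧ IsMulCommutative E ∧ (∀ e ∈ E, e * e = 1) ∧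
      ∀ u ∈ D.jays, u ∈ E := by
  classical
  have h1 : 1 < Fintype.card Φ := lt_of_lt_of_le D.two_le_r D.r_lt.le
  have hm : Fintype.card Φ % 2 = 0 := by
    rcases m with _ | m
    · rw [hdeg] at h1; norm_num at h1
    · rw [hdeg, pow_succ]; omega
  obtain ⟨w, hwa, hwb, hwc, hww, hw⟩ := D.exists_other hk
  have hwj : w ∈ D.jays :=
    D.mem_jays.2 ⟨hww, fun h => D.hab (by rw [h, one_smul] at hwa; exact hwa), hwc⟩
  have hfree : ∀ u ∈ D.jays, ∀ x : Φ, u • x ≠ x := fun u hu x hx => by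
    have := D.jays_fix u hu
    rw [hm, fixCard, Nat.card_eq_zero] at this
    rcases this with h | h
    · exact h.false ⟨x, hx⟩
    · exact (not_finite_iff_infinite.2 h) inferInstance
  obtain ⟨E, hE, hr, hc, he⟩ := exists_regular_of_fpf D.h2 hww (D.mem_jays.1 hwj).2.1 (hfree w hwj) hdeg
    fun g c h1 h2 _ hodd => by
      by_contra hg
      have := D.fix_le_one_of_odd hg hodd
      rw [fixCard, Nat.card_eq_fintype_card, Fintype.card_le_one_iff] at this
      exact hfree w hwj c (congrArg Subtype.val (this ⟨c, h1⟩ ⟨w • c, h2⟩)).symm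
  refine ⟨E, hE, hr, hc, he, ?_⟩
  haveI := hr.1
  haveI := hE
  have hcls : ∀ e ∈ E, e ≠ 1 → e ∈ D.jays := fun e heE he1 => D.mem_jays.2 ⟨he e heE, he1, fun hec => by
    have h3 := D.cls_fix e hec
    have h4 : fixCard Φ e = 0 := by
      rw [fixCard, Nat.card_eq_zero]
      exact Or.inl ⟨fun x => he1 (hr.2 x.1 e heE x.2)⟩
    have := D.two_le_r
    omega⟩
  haveI := Fintype.ofFinite X
  have hsub : (Finset.univ.filter fun e : X => e ∈ E ∧ e ≠ 1) ⊆ D.jays := fun e he' => by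
    obtain ⟨-, h5, h6⟩ := Finset.mem_filter.1 he'
    exact hcls e h5 h6
  have hEc : (Finset.univ.filter fun e : X => e ∈ E ∧ e ≠ 1).card = Fintype.card Φ - 1 := by
    have : (Finset.univ.filter fun e : X => e ∈ E ∧ e ≠ 1) = (Finset.univ.filter fun e : X => e ∈ E).erase 1 := by
      ext e; simp [and_comm]
    rw [this, Finset.card_erase_of_mem (by simp), ← hr.card D.a, Nat.card_eq_fintype_card,
      Fintype.card_subtype]
  have hJ : D.jays.card = Fintype.card Φ - 1 := by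
    have := D.jays_card hk
    rw [hm, Nat.sub_zero, mul_comm] at this
    exact Nat.eq_of_mul_eq_mul_left (by omega) this
  intro u hu
  rw [← Finset.eq_of_subset_of_card_le hsub (by omega), Finset.mem_filter] at hu
  exact hu.2.1

/-- the centraliser of `s` is sharply two-transitive on its fixed points -/
theorem TwoTwo.cent_pairs {c d c' d' : Φ} (hcd : c ≠ d) (hcd' : c' ≠ d') (hc : D.s • c = c) (hd : D.s • d = d)
    (hc' : D.s • c' = c') (hd' : D.s • d' = d') : ∃ g : X, g * D.s = D.s * g ∧ g • c = c' ∧ g • d = d' := by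
  refine exists_commute_map D.h2 hcd hcd' hc hd hc' hd' fun u huc hud ⟨g, hg⟩ => ⟨1, one_smul _ _, one_smul _ _, ?_⟩
  rcases D.conj_of_fix hcd hc hd with e | ⟨h, e⟩
  · exact absurd e D.hs1
  obtain ⟨m, hma, hmb⟩ := (is_two_pretransitive_iff.1 D.h2) D.hab hcd
  have hmu := D.hstab (m⁻¹ * u * m) (by rw [mul_smul, mul_smul, hma, huc, ← hma, inv_smul_smul])
    (by rw [mul_smul, mul_smul, hmb, hud, ← hmb, inv_smul_smul])
  have hms := D.hstab (m⁻¹ * D.s * m) (by rw [mul_smul, mul_smul, hma, hc, ← hma, inv_smul_smul])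
    (by rw [mul_smul, mul_smul, hmb, hd, ← hmb, inv_smul_smul])
  have hs' : m⁻¹ * D.s * m = D.s := hms.resolve_left fun h0 => D.hs1 (by
    rw [show D.s = m * (m⁻¹ * D.s * m) * m⁻¹ by group, h0]; group)
  have hu' : m⁻¹ * u * m = D.s := hmu.resolve_left fun h0 => D.hs1 (by
    rw [show D.s = g⁻¹ * u * g by rw [← hg]; group, show u = m * (m⁻¹ * u * m) * m⁻¹ by group, h0]; group)
  rw [one_mul, inv_one, mul_one]
  calc D.s = m * (m⁻¹ * D.s * m) * m⁻¹ := by group
    _ = m * (m⁻¹ * u * m) * m⁻¹ := by rw [hs', hu']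
    _ = u := by group

end Cfsg.Agent.TwoPointA5
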