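import Mathlib
import Cfsg.Agent.Lib.TwoPointA5.Perm

/-!
# The group induced by a centraliser on fixed points
-/

set_option autoImplicit false
set_option linter.unusedSectionVars false
set_option linter.unusedVariables false
set_option linter.style.haveILetI false

namespace Cfsg.Agent.TwoPointA5

open MulAction

variable {G Ω : Type*} [Group G] [Finite G] [Fintype Ω] [MulAction G Ω] [FaithfulSMul G Ω]

/-- a subgroup transitive on the ordered pairs of an invariant set -/
theorem card_pairs (H : Subgroup G) (F : Set Ω) (hinv : ∀ g ∈ H, ∀ x ∈ F, g • x ∈ F)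
    (htr : ∀ a ∈ F, ∀ b ∈ F, ∀ c ∈ F, ∀ d ∈ F, a ≠ b → c ≠ d → ∃ g ∈ H, g • a = c ∧ g • b = d)
    {a b : Ω} (ha : a ∈ F) (hb : b ∈ F) (hab : a ≠ b) :
    Nat.card H = Nat.card ↥(H ⊓ (stabilizer G a ⊓ stabilizer G b)) * (Nat.card F * (Nat.card F - 1)) := by
  classical
  have horb : orbit H (a, b) = {p : Ω × Ω | p.1 ∈ F ∧ p.2 ∈ F ∧ p.1 ≠ p.2} := by
    ext ⟨x, y⟩
    constructor
    · rintro ⟨⟨g, hg⟩, e⟩
      obtain ⟨rfl, rfl⟩ := Prod.mk.inj e
      exact ⟨hinv g hg a ha, hinv g hg b hb, fun h => hab (MulAction.injective g h)⟩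
    · rintro ⟨hx, hy, hxy⟩
      obtain ⟨g, hg, h1, h2⟩ := htr a ha b hb x hx y hy hab hxy
      exact ⟨⟨g, hg⟩, Prod.ext h1 h2⟩
  have hcard : Nat.card ({p : Ω × Ω | p.1 ∈ F ∧ p.2 ∈ F ∧ p.1 ≠ p.2} : Set (Ω × Ω)) =
      Nat.card F * (Nat.card F - 1) := by
    have : ({p : Ω × Ω | p.1 ∈ F ∧ p.2 ∈ F ∧ p.1 ≠ p.2} : Set (Ω × Ω)) =
        ((F.toFinset).offDiag : Finset (Ω × Ω)) := by
      ext p; simp
    rw [this, Nat.card_eq_card_toFinset, Finset.toFinset_coe, Finset.offDiag_card, ← Nat.card_eq_card_toFinset F,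
      Nat.mul_sub, mul_one]
  have h1 := Nat.card_congr (orbitProdStabilizerEquivGroup H (a, b))
  rw [Nat.card_prod, horb, hcard] at h1
  rw [← h1, mul_comm]
  congr 1
  exact Nat.card_congr
    { toFun := fun g => ⟨g.1.1, g.1.2, (Prod.mk.inj g.2).1, (Prod.mk.inj g.2).2⟩
      invFun := fun g => ⟨⟨g.1, g.2.1⟩, Prod.ext g.2.2.1 g.2.2.2⟩ }

/-- the fixed points of an element -/
abbrev FixSet (Ω : Type*) [MulAction G Ω] (t : G) : Type _ := {x : Ω // t • x = x}

theorem smul_mem_fix {t g : G} (hg : g ∈ Subgroup.centralizer {t}) {x : Ω} (hx : t • x = x) :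
    t • g • x = g • x := by
  rw [← mul_smul, ← Subgroup.mem_centralizer_singleton_iff.1 hg, mul_smul, hx]

/-- the action of the centraliser on the fixed points -/
def fixHom (Ω : Type*) [MulAction G Ω] (t : G) : Subgroup.centralizer ({t} : Set G) →* Equiv.Perm (FixSet Ω t) where
  toFun g :=
    { toFun := fun x => ⟨(g : G) • (x : Ω), by
        rw [← mul_smul, ← Subgroup.mem_centralizer_singleton_iff.1 g.2, mul_smul, x.2]⟩
      invFun := fun x => ⟨(g : G)⁻¹ • (x : Ω), by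
        rw [← mul_smul, ← Subgroup.mem_centralizer_singleton_iff.1 (inv_mem g.2), mul_smul, x.2]⟩
      left_inv := fun x => Subtype.ext (inv_smul_smul _ _)
      right_inv := fun x => Subtype.ext (smul_inv_smul _ _) }
  map_one' := Equiv.ext fun x => Subtype.ext (one_smul G (x : Ω))
  map_mul' g h := Equiv.ext fun x => Subtype.ext (mul_smul (g : G) h (x : Ω))

/-- the induced group -/
abbrev Ind (Ω : Type*) [MulAction G Ω] (t : G) : Subgroup (Equiv.Perm (FixSet Ω t)) := (fixHom Ω t).range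

theorem fixHom_apply {t : G} (g : Subgroup.centralizer ({t} : Set G)) (x : FixSet Ω t) :
    ((fixHom Ω t g x : FixSet Ω t) : Ω) = (g : G) • (x : Ω) := rfl

theorem ind_smul {t : G} (g : Subgroup.centralizer ({t} : Set G)) (x : FixSet Ω t) :
    (((⟨fixHom Ω t g, g, rfl⟩ : Ind Ω t) • x : FixSet Ω t) : Ω) = (g : G) • (x : Ω) := rfl

/-- Witt's property makes the induced group two-transitive -/
theorem ind_two_transitive {t : G}
    (hW : ∀ a b c d : Ω, a ≠ b → c ≠ d → t • a = a → t • b = b → t • c = c → t • d = d →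
      ∃ g : G, g * t = t * g ∧ g • a = c ∧ g • b = d) :
    IsMultiplyPretransitive (Ind Ω t) (FixSet Ω t) 2 := by
  refine is_two_pretransitive_iff.2 fun {a b c d} hab hcd => ?_
  obtain ⟨g, hg, h1, h2⟩ := hW a b c d (fun h => hab (Subtype.ext h)) (fun h => hcd (Subtype.ext h)) a.2 b.2 c.2 d.2
  exact ⟨⟨fixHom Ω t ⟨g, Subgroup.mem_centralizer_singleton_iff.2 hg⟩, _, rfl⟩, Subtype.ext h1, Subtype.ext h2⟩

/-- elements of the induced group fixing two points come from the two point stabiliser -/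
theorem ind_fix_two {t : G} {a b : FixSet Ω t} {g : Ind Ω t} (ha : g • a = a) (hb : g • b = b) :
    ∃ k : Subgroup.centralizer ({t} : Set G), (k : G) • (a : Ω) = a ∧ (k : G) • (b : Ω) = b ∧
      fixHom Ω t k = g := by
  obtain ⟨_, k, rfl⟩ := g
  exact ⟨k, congrArg Subtype.val ha, congrArg Subtype.val hb, rfl⟩


end Cfsg.Agent.TwoPointA5
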