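import Cfsg.Agent.Lib.TwoPointA5.GWFacts
import Cfsg.Agent.S2119

/-!
# The socle of a group with a non-commutative dihedral Sylow 2-subgroup and one class of involutions
-/

set_option autoImplicit false
set_option linter.unusedSectionVars false
set_option linter.style.haveILetI false

namespace Cfsg.Agent.TwoPointA5.GWFacts

open Subgroup
open scoped MatrixGroups commutatorElement

universe u

variable {X : Type u} [Group X] [Finite X]

/-- A dihedral group is generated by its involutions. -/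
theorem dihedral_le {S M : Subgroup X} {m : ℕ} (e : S ≃* DihedralGroup m)
    (hinv : ∀ z : X, orderOf z = 2 → z ∈ M) : S ≤ M := by
  have hsr : ∀ i : ZMod m, (e.symm (DihedralGroup.sr i) : X) ∈ M := fun i => hinv _ (by
    rw [Subgroup.orderOf_coe, MulEquiv.orderOf_eq]
    exact DihedralGroup.orderOf_sr i)
  intro s hs
  have h : s = (e.symm (e ⟨s, hs⟩) : X) := by rw [e.symm_apply_apply]
  rw [h]
  cases e ⟨s, hs⟩ with
  | sr i => exact hsr i
  | r i =>
    rw [show DihedralGroup.r i = DihedralGroup.sr 0 * DihedralGroup.sr i by simp, map_mul,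
      Subgroup.coe_mul]
    exact mul_mem (hsr 0) (hsr i)

/-- Commutators lie in a normal subgroup with trivial centralizer and abelian outer
automorphisms. -/
theorem commutator_mem {A : Type*} [Group A] {M : Subgroup X} [M.Normal] (ε : M ≃* A)
    (hC : centralizer (M : Set X) = ⊥) (hA : ∀ a b : MulAut A, ⁅a, b⁆ ∈ Cfsg.Inn A) (a b : X) :
    ⁅a, b⁆ ∈ M := by
  set ρ : X →* MulAut A := (MulAut.congr ε).toMonoidHom.comp MulAut.conjNormal with hρ
  have hinj : Function.Injective ρ := by
    rw [injective_iff_map_eq_one]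
    intro x hx
    rw [← mem_bot, ← hC]
    refine mem_centralizer_iff.2 fun m hm => ?_
    have h1 : MulAut.conjNormal (H := M) x = 1 := (MulAut.congr ε).injective (hx.trans (map_one _).symm)
    have h2 : x * m * x⁻¹ = m := by
      simpa using congrArg (fun f : MulAut M => (f ⟨m, hm⟩ : X)) h1
    exact (mul_inv_eq_iff_eq_mul.1 h2).symm
  obtain ⟨g, hg⟩ := hA (ρ a) (ρ b)
  have hρg : ρ (ε.symm g : M) = MulAut.conj g := by
    ext y
    show ε (MulAut.conjNormal ((ε.symm g : M) : X) (ε.symm y)) = g * y * g⁻¹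
    have h : MulAut.conjNormal ((ε.symm g : M) : X) (ε.symm y) = ε.symm (g * y * g⁻¹) := by
      apply Subtype.ext
      simp [MulAut.conjNormal_apply]
    rw [h, ε.apply_symm_apply]
  have h : ⁅a, b⁆ = ((ε.symm g : M) : X) :=
    hinj (by rw [map_commutatorElement, ← hg, hρg])
  exact h ▸ (ε.symm g).2

/-- Commutators of automorphisms of `A7` are inner. -/
theorem alt_seven_comm (a b : MulAut (alternatingGroup (Fin 7))) :
    ⁅a, b⁆ ∈ Cfsg.Inn (alternatingGroup (Fin 7)) := by
  have h := (S2119.result 7 (by norm_num) (by norm_num)).2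
  obtain ⟨x, rfl⟩ := h a
  obtain ⟨y, rfl⟩ := h b
  have hxy : ⁅x, y⁆ ∈ alternatingGroup (Fin 7) := by
    rw [Equiv.Perm.mem_alternatingGroup, map_commutatorElement, commutatorElement_eq_one_iff_mul_comm,
      mul_comm]
  refine ⟨⟨_, hxy⟩, ?_⟩
  exact (MulAut.conjNormal_val (H := alternatingGroup (Fin 7)) (h := ⟨_, hxy⟩)).symm.trans
    (map_commutatorElement _ x y)

/-- The socle of a group without core whose Sylow 2-subgroup is dihedral and not commutative, with
one class of involutions. -/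
theorem dihedral_socle (hO : Cfsg.oddCore X = ⊥) (S : Sylow 2 X) {m : ℕ} (hm : 2 ≤ m)
    (e : (S : Subgroup X) ≃* DihedralGroup m)
    (hnc : ∃ x ∈ (S : Subgroup X), ∃ y ∈ (S : Subgroup X), x * y ≠ y * x)
    (hone : ∀ y z : X, orderOf y = 2 → orderOf z = 2 → ∃ g : X, g * y * g⁻¹ = z) :
    ∃ M : Subgroup X, M.Normal ∧ (S : Subgroup X) ≤ M ∧ (∀ z : X, orderOf z = 2 → z ∈ M) ∧
      centralizer (M : Set X) = ⊥ ∧ (∀ a b : X, ⁅a, b⁆ ∈ M) ∧
      ((∃ (F : Type) (_ : Field F) (_ : Fintype F), Odd (Fintype.card F) ∧ 3 < Fintype.card F ∧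
        Nonempty (M ≃* Matrix.ProjectiveSpecialLinearGroup (Fin 2) F)) ∨
        Nonempty (M ≃* alternatingGroup (Fin 7))) := by
  classical
  haveI := Fact.mk Nat.prime_two
  obtain ⟨x₀, hx₀, y₀, hy₀, hxy⟩ := hnc
  -- a normal subgroup of even order contains all involutions and so `S`
  have heven : ∀ K : Subgroup X, K.Normal → K ≠ ⊥ → ∀ z : X, orderOf z = 2 → z ∈ K := by
    intro K hK hne z hz
    haveI := hK
    have h2 : 2 ∣ Nat.card K := by
      rw [Nat.dvd_iff_mod_eq_zero, ← Nat.even_iff]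
      by_contra hodd
      exact hne (normal_odd_eq_bot hO K (Nat.not_even_iff_odd.1 hodd))
    obtain ⟨y, hy⟩ := exists_prime_orderOf_dvd_card' (G := K) 2 h2
    obtain ⟨g, rfl⟩ := hone (y : X) z (by rw [Subgroup.orderOf_coe, hy]) hz
    exact hK.conj_mem _ y.2 g
  obtain ⟨M, hMn, -, hM, hmin⟩ := Hall.exists_minimal_normal (⊤ : Subgroup X) (fun h => by
    have : x₀ ∈ (⊥ : Subgroup X) := h ▸ mem_top x₀
    exact hxy (by rw [mem_bot.1 this, one_mul, mul_one]))
  haveI := hMn
  have hinvM := heven M hMn hM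
  have hSM : (S : Subgroup X) ≤ M := dihedral_le e hinvM
  by_cases hsol : Group.IsSolvable M
  · haveI := hsol
    haveI := Hall.minimal_normal_isMulCommutative hmin
    exact absurd (congrArg Subtype.val (mul_comm' (⟨x₀, hSM hx₀⟩ : M) ⟨y₀, hSM hy₀⟩)) hxy
  haveI := perfect_of_minimal hmin hsol
  have hOM : Cfsg.oddCore M = ⊥ := by
    haveI : (Cfsg.oddCore M).Characteristic := by
      unfold Cfsg.oddCore; infer_instance
    have h := normal_odd_eq_bot hO ((Cfsg.oddCore M).map M.subtype) (by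
      rw [card_subtype]; exact InvChar.Core.odd_card_oddCore)
    rwa [Subgroup.map_eq_bot_iff_of_injective _ M.subtype_injective] at h
  have hcent : centralizer (M : Set X) = ⊥ := by
    haveI : (centralizer (M : Set X)).Normal := by infer_instance
    by_contra hne
    have hall := heven _ inferInstance hne
    -- so an involution of `M` centralises `M`
    have hS := dihedral_le e hall
    exact hxy (mem_centralizer_iff.1 (hS hy₀) x₀ (hSM hx₀))
  let SM : Sylow 2 M := S.subtype hSM
  let eq : M ⧸ Cfsg.oddCore M ≃* M :=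
    (QuotientGroup.quotientMulEquivOfEq hOM).trans QuotientGroup.quotientBot
  refine ⟨M, hMn, hSM, hinvM, hcent, ?_⟩
  rcases GW.perfectGW SM m hm ⟨(subgroupOfEquivOfLe hSM).trans e⟩ with
    ⟨F, _, _, hodd, h3, ⟨eF⟩⟩ | ⟨⟨eA⟩⟩
  · exact ⟨commutator_mem (eq.symm.trans eF) hcent GW.ComponentPSL.commutator_mem_inn,
      Or.inl ⟨F, inferInstance, inferInstance, hodd, h3, ⟨eq.symm.trans eF⟩⟩⟩
  · exact ⟨commutator_mem (eq.symm.trans eA) hcent alt_seven_comm, Or.inr ⟨eq.symm.trans eA⟩⟩

end Cfsg.Agent.TwoPointA5.GWFacts
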