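import Cfsg.Agent.Lib.TwoPointA5.GWFacts

/-!
# An element of order four centralises the torus
-/

set_option autoImplicit false
set_option linter.unusedSectionVars false
set_option linter.style.haveILetI false

namespace Cfsg.Agent.TwoPointA5.GWFacts

open Subgroup
open scoped MatrixGroups
open Cfsg.Agent.GW

universe u

variable {F : Type} [Field F] [Fintype F]

local notation "PG" => Matrix.ProjectiveSpecialLinearGroup (Fin 2) F

/-- An automorphism whose square is the conjugation by `t` and which exchanges the two other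
involutions of a Sylow four-group fixes the elements of odd order of `C(t)`. -/
theorem fix_torus (hodd : Odd (Fintype.card F)) {P : Sylow 2 PG} (hP : Nat.card (P : Subgroup PG) = 4)
    {t w x : PG} (htP : t ∈ (P : Subgroup PG)) (hwP : w ∈ (P : Subgroup PG)) (ht : orderOf t = 2)
    (hw : orderOf w = 2) (hne : w ≠ t) (hc : Commute w t) (α : MulAut PG) (hαt : α t = t)
    (hαw : α w = w * t) (hα2 : α * α = MulAut.conj t) (hx : Commute x t)
    (hxo : Odd (orderOf x)) : α x = x := by
  classical
  haveI := Fact.mk Nat.prime_two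
  have h2 := ComponentPSL.two_ne_zero_of_odd hodd
  have hww : w * w = 1 := Forms.KleinPSL.mul_self_of_order_two hw
  have htt : t * t = 1 := Forms.KleinPSL.mul_self_of_order_two ht
  set γ := MulAut.conj w * α with hγ
  have hconjc : ∀ g : PG, α * MulAut.conj g = MulAut.conj (α g) * α := fun g => by
    ext a
    simp
  have hγ2 : γ * γ = 1 := by
    rw [hγ, show MulAut.conj w * α * (MulAut.conj w * α) = MulAut.conj w * (α * MulAut.conj w) * α by
      group, hconjc w, mul_assoc (MulAut.conj w), mul_assoc (MulAut.conj (α w)), hα2, ← map_mul,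
      ← map_mul, hαw, show w * (w * t * t) = 1 by rw [mul_assoc w t t, htt, mul_one, hww], map_one]
  have hγt : γ t = t := by
    rw [hγ, MulAut.mul_apply, hαt, MulAut.conj_apply, hc.eq, mul_inv_cancel_right]
  have hγw : γ w = w * t := by
    rw [hγ, MulAut.mul_apply, hαw, MulAut.conj_apply, show w * (w * t) * w⁻¹ = t * w⁻¹ by
      rw [← mul_assoc w, hww, one_mul], inv_eq_of_mul_eq_one_left hww, hc.eq]
  have hwt : w * t ≠ w := fun h => orderOf_eq_one_iff.not.1 (by rw [ht]; norm_num) (mul_eq_left.1 h)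
  have hγ1 : γ ≠ 1 := fun h => hwt (by rw [← hγw, h]; rfl)
  have hγo : orderOf γ = 2 := orderOf_eq_prime (by rw [pow_two]; exact hγ2) hγ1
  have hγne : γ ≠ MulAut.conj t := fun h => hwt (by
    rw [← hγw, h, MulAut.conj_apply, ← hc.eq, mul_inv_cancel_right])
  have hfour : ¬ ∃ a b : PG, orderOf a = 2 ∧ orderOf b = 2 ∧ a ≠ b ∧ Commute a b ∧ γ a = a ∧
      γ b = b ∧ γ ∉ Cfsg.Inn PG := by
    rintro ⟨a, b, ha, hb, hab, hcab, hga, hgb, hout⟩
    set I := Cfsg.Inn PG
    set K : Subgroup (MulAut PG) := I ⊔ zpowers γ with hK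
    have hIcard : Nat.card I = Nat.card PG :=
      Nat.card_congr (MonoidHom.ofInjective ComponentPSL.conj_injective).toEquiv.symm
    have hzγ : ∀ z ∈ zpowers γ, z = 1 ∨ z = γ := by
      intro z hz
      obtain ⟨n, rfl⟩ := mem_zpowers_iff.1 hz
      rcases Int.even_or_odd n with ⟨m, rfl⟩ | ⟨m, rfl⟩
      · left; rw [← two_mul, zpow_mul, zpow_two, hγ2, one_zpow]
      · right; rw [zpow_add_one, zpow_mul, zpow_two, hγ2, one_zpow, one_mul]
    haveI : I.Normal := ⟨by
      rintro _ ⟨g, rfl⟩ β
      exact ⟨β g, by ext y; simp⟩⟩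
    have hγK : γ ∈ K := mem_sup_right (mem_zpowers γ)
    have hIK : ∀ g : PG, MulAut.conj g ∈ K := fun g => mem_sup_left ⟨g, rfl⟩
    have hKcard : Nat.card K = 2 * Nat.card PG := by
      have h1 := (I.subgroupOf K).card_mul_index
      rw [Nat.card_congr (subgroupOfEquivOfLe (le_sup_left : I ≤ K)).toEquiv, hIcard] at h1
      have hidx : (I.subgroupOf K).index = 2 := by
        refine index_eq_two_iff.2 ⟨⟨γ, hγK⟩, fun y => ?_⟩
        have hy : (y : MulAut PG) ∈ ((I ⊔ zpowers γ : Subgroup _) : Set (MulAut PG)) := y.2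
        rw [Subgroup.normal_mul] at hy
        obtain ⟨i, hi, z, hz, hiz⟩ := hy
        have hiz' : i * z = y.1 := hiz
        simp only [mem_subgroupOf, Subgroup.coe_mul]
        rcases hzγ z hz with rfl | rfl
        · refine Or.inr ⟨?_, fun h => hout ?_⟩
          · rw [← hiz', mul_one]; exact hi
          · rw [← hiz', mul_one] at h
            simpa using mul_mem (inv_mem hi) h
        · refine Or.inl ⟨?_, fun h => hout ?_⟩
          · rw [← hiz', mul_assoc, hγ2, mul_one]; exact hi
          · rw [← hiz'] at h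
            simpa using mul_mem (inv_mem hi) h
      rw [hidx] at h1
      omega
    have hcardP : ∀ R : Sylow 2 K, Nat.card (R : Subgroup K) = 8 := by
      intro R
      have hP4 : 2 ^ (Nat.card PG).factorization 2 = 4 := by rw [← P.card_eq_multiplicity, hP]
      rw [R.card_eq_multiplicity, hKcard, Nat.factorization_mul two_ne_zero Nat.card_pos.ne',
        Finsupp.add_apply, Nat.prime_two.factorization_self, pow_add, hP4]
      rfl
    -- the fixed four-group with `γ` is an elementary Sylow group
    have hcγ : ∀ g, γ g = g → Commute (MulAut.conj g) γ := fun g hg => by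
      ext y
      simp [hg]
    let A : K := ⟨MulAut.conj a, hIK a⟩
    let B : K := ⟨MulAut.conj b, hIK b⟩
    let C : K := ⟨γ, hγK⟩
    have hAB : Commute A B := Subtype.ext (hcab.map MulAut.conj).eq
    have hAC : Commute A C := Subtype.ext (hcγ a hga).eq
    have hBC : Commute B C := Subtype.ext (hcγ b hgb).eq
    have hA : A ^ 2 = 1 := Subtype.ext (by
      show MulAut.conj a ^ 2 = 1
      rw [← map_pow, pow_two, Forms.KleinPSL.mul_self_of_order_two ha, map_one])
    have hB : B ^ 2 = 1 := Subtype.ext (by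
      show MulAut.conj b ^ 2 = 1
      rw [← map_pow, pow_two, Forms.KleinPSL.mul_self_of_order_two hb, map_one])
    have hC : C ^ 2 = 1 := Subtype.ext (by
      show γ ^ 2 = 1
      rw [pow_two, hγ2])
    set E : Subgroup K := closure {A, B, C}
    haveI hEc : IsMulCommutative E := isMulCommutative_closure (by
      intro u hu v hv
      simp only [Set.mem_insert_iff, Set.mem_singleton_iff] at hu hv
      rcases hu with rfl | rfl | rfl <;> rcases hv with rfl | rfl | rfl <;>
        first
        | rfl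
        | exact hAB.eq | exact hAB.eq.symm | exact hAC.eq | exact hAC.eq.symm
        | exact hBC.eq | exact hBC.eq.symm)
    have hEexp : ∀ e : E, e ^ 2 = 1 := by
      rintro ⟨e, he⟩
      induction he using closure_induction with
      | mem u hu =>
        simp only [Set.mem_insert_iff, Set.mem_singleton_iff] at hu
        rcases hu with rfl | rfl | rfl
        · exact Subtype.ext hA
        · exact Subtype.ext hB
        · exact Subtype.ext hC
      | one => exact one_pow _
      | mul u v hu hv ihu ihv =>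
        have : (⟨u * v, mul_mem hu hv⟩ : E) = ⟨u, hu⟩ * ⟨v, hv⟩ := rfl
        rw [this, Commute.mul_pow (mul_comm' _ _), ihu, ihv, one_mul]
      | inv u hu ih =>
        have : (⟨u⁻¹, inv_mem hu⟩ : E) = (⟨u, hu⟩ : E)⁻¹ := rfl
        rw [this, inv_pow, ih, inv_one]
    obtain ⟨R, hER⟩ := (show IsPGroup 2 E from fun e => ⟨1, by rw [pow_one]; exact hEexp e⟩).exists_le_sylow
    have hsix : 5 ≤ Nat.card E := by
      let f : Fin 5 → E := ![1, ⟨A, subset_closure (by simp)⟩, ⟨B, subset_closure (by simp)⟩,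
        ⟨A * B, mul_mem (subset_closure (by simp)) (subset_closure (by simp))⟩,
        ⟨C, subset_closure (by simp)⟩]
      have hf : Function.Injective f := by
        have hinj := ComponentPSL.conj_injective (F := F)
        have e1 : a ≠ 1 := fun h => by simp [h] at ha
        have e2 : b ≠ 1 := fun h => by simp [h] at hb
        have e3 : a * b ≠ 1 := fun h => hab (by
          rw [eq_inv_of_mul_eq_one_left h, inv_eq_of_mul_eq_one_left
            (Forms.KleinPSL.mul_self_of_order_two hb)])
        have e4 : a * b ≠ a := fun h => e2 (mul_eq_left.1 h)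
        have e5 : a * b ≠ b := fun h => e1 (mul_eq_right.1 h)
        have eg : ∀ g : PG, MulAut.conj g ≠ γ := fun g h => hout ⟨g, h⟩
        have e0 : γ ≠ 1 := hγ1
        intro i j hij
        have hij' : ((f i : E) : K).1 = ((f j : E) : K).1 := by rw [hij]
        fin_cases i <;> fin_cases j <;>
          simp [f, A, B, C, ← map_mul, hinj.eq_iff, eg, (eg _).symm, e1, e1.symm, e2, e2.symm, e3,
            e3.symm, e4, e4.symm, e5, e5.symm, hab, hab.symm, e0, e0.symm,
            map_eq_one_iff _ hinj, eq_comm (a := (1 : MulAut PG))] at hij' ⊢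
      have := Nat.card_le_card_of_injective f hf
      rwa [Nat.card_fin] at this
    have hRE : E = (R : Subgroup K) := by
      have hd : Nat.card E ∣ 8 := hcardP R ▸ card_dvd_of_le hER
      refine eq_of_le_of_card_ge hER ?_
      rw [hcardP R]
      obtain ⟨i, hi, hi'⟩ := (Nat.dvd_prime_pow Nat.prime_two).1 (show Nat.card E ∣ 2 ^ 3 from hd)
      rw [hi'] at hsix ⊢
      interval_cases i <;> omega
    -- but `⟨t, w, γ⟩` is a non-commutative 2-subgroup
    let J : Subgroup K := ((P : Subgroup PG).map MulAut.conj).subgroupOf K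
    have hJ : IsPGroup 2 J :=
      (P.2.map MulAut.conj).comap_of_injective K.subtype K.subtype_injective
    have hCp : IsPGroup 2 (zpowers C) := IsPGroup.of_card (n := 1) (by
      rw [Nat.card_zpowers, pow_one]
      exact orderOf_eq_prime hC fun h => hγ1 (congrArg Subtype.val h))
    have hPset : ∀ y ∈ (P : Subgroup PG), γ y ∈ (P : Subgroup PG) := by
      have hPe : (P : Subgroup PG) = closure {t, w} := by
        have hsub : closure ({t, w} : Set PG) ≤ (P : Subgroup PG) :=
          (closure_le _).2 (Set.pair_subset htP hwP)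
        refine (eq_of_le_of_card_ge hsub ?_).symm
        rw [hP]
        have h1 : Nat.card (closure ({t, w} : Set PG)) ∣ 4 :=
          hP ▸ card_dvd_of_le hsub
        have h3 : 3 ≤ Nat.card (closure ({t, w} : Set PG)) := by
          let f : Fin 3 → closure ({t, w} : Set PG) :=
            ![1, ⟨t, subset_closure (by simp)⟩, ⟨w, subset_closure (by simp)⟩]
          have hf : Function.Injective f := by
            have e1 : t ≠ 1 := fun h => by simp [h] at ht
            have e2 : w ≠ 1 := fun h => by simp [h] at hw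
            intro i j hij
            fin_cases i <;> fin_cases j <;>
              simp [f, e1, e1.symm, e2, e2.symm, hne, hne.symm, Subtype.ext_iff] at hij ⊢
          have := Nat.card_le_card_of_injective f hf
          rwa [Nat.card_fin] at this
        have := Nat.le_of_dvd (by norm_num) h1
        interval_cases hq : Nat.card (closure ({t, w} : Set PG)) <;> omega
      intro y hy
      rw [hPe] at hy
      induction hy using closure_induction with
      | mem u hu =>
        simp only [Set.mem_insert_iff, Set.mem_singleton_iff] at hu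
        rcases hu with rfl | rfl
        · rwa [hγt]
        · rw [hγw]; exact mul_mem hwP htP
      | one => rw [map_one]; exact one_mem _
      | mul u v _ _ ihu ihv => rw [map_mul]; exact mul_mem ihu ihv
      | inv u _ ih => rw [map_inv]; exact inv_mem ih
    have hnorm : zpowers C ≤ normalizer (J : Set K) := by
      have hfwd : ∀ u ∈ J, C * u * C⁻¹ ∈ J := by
        rintro ⟨_, hu⟩ ⟨y, hy, rfl⟩
        refine ⟨γ y, hPset y hy, ?_⟩
        show MulAut.conj (γ y) = γ * MulAut.conj y * γ⁻¹
        ext z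
        simp
      rw [zpowers_le, mem_normalizer_iff]
      intro u
      refine ⟨hfwd u, fun h => ?_⟩
      have h' := hfwd _ h
      have hC' : C * C = 1 := by rw [← pow_two]; exact hC
      rw [inv_eq_of_mul_eq_one_left hC'] at h'
      rwa [show C * (C * u * C) * C = (C * C) * u * (C * C) by group, hC', one_mul, mul_one] at h'
    obtain ⟨Q, hQ⟩ := (hCp.to_sup_of_normal_right' hJ hnorm).exists_le_sylow
    obtain ⟨g, rfl⟩ := MulAction.exists_smul_eq K R Q
    have hWQ : (⟨MulAut.conj w, hIK w⟩ : K) ∈ ((g • R : Sylow 2 K) : Subgroup K) :=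
      hQ (mem_sup_right ⟨w, hwP, rfl⟩)
    have hCQ : C ∈ ((g • R : Sylow 2 K) : Subgroup K) := hQ (mem_sup_left (mem_zpowers C))
    obtain ⟨u, hu, hu'⟩ := hWQ
    obtain ⟨v, hv, hv'⟩ := hCQ
    have huv : Commute u v := congrArg Subtype.val
      (mul_comm' (⟨u, hRE ▸ hu⟩ : E) ⟨v, hRE ▸ hv⟩)
    have hcom : Commute (⟨MulAut.conj w, hIK w⟩ : K) C := by
      rw [← hu', ← hv']
      exact huv.map _
    have h := congrArg (fun k : K => k.1 * γ⁻¹) hcom.eq
    simp only [Subgroup.coe_mul, C, mul_inv_cancel_right] at h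
    have h' : MulAut.conj w = MulAut.conj (γ w) := by
      conv_lhs => rw [h]
      ext z
      simp
    exact hwt (by rw [← hγw]; exact (ComponentPSL.conj_injective h').symm)
  have hinv : γ x = x⁻¹ := ComponentPSL.inverts_torus hodd ht γ hγo hγt hγne hfour hx hxo
  have hwx : w * x * w⁻¹ = x⁻¹ := OvergroupsPSL.inner_inverts h2 ht hw hne hc hx hxo
  apply (MulAut.conj w).injective
  rw [MulAut.conj_apply, MulAut.conj_apply, hwx, ← hinv, hγ, MulAut.mul_apply, MulAut.conj_apply]

/-- In a group with a fused four-group as Sylow 2-subgroup, an element of odd order commuting with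
`t` and inverted by `w` and by an automorphism with square `t` exchanging `w` and `w t` lies in the
odd core. -/
theorem torus_mem_core {X : Type u} [Group X] [Finite X] (S : Sylow 2 X)
    (hS4 : Nat.card (S : Subgroup X) = 4) (hsq : ∀ x ∈ (S : Subgroup X), x * x = 1)
    (hfus : ∃ r ∈ normalizer ((S : Subgroup X) : Set X), ∃ x ∈ (S : Subgroup X), r * x * r⁻¹ ≠ x)
    (α : MulAut X) {t w e : X} (htS : t ∈ (S : Subgroup X)) (hwS : w ∈ (S : Subgroup X)) (ht : t ≠ 1)
    (hw : w ≠ 1) (hne : w ≠ t) (hαt : α t = t) (hαw : α w = w * t)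
    (hα2 : ∀ x, α (α x) = t * x * t⁻¹) (het : Commute e t) (hwe : w * e * w⁻¹ = e⁻¹)
    (hαe : α e = e⁻¹) (heo : Odd (orderOf e)) : e ∈ Cfsg.oddCore X := by
  classical
  haveI := Fact.mk Nat.prime_two
  haveI hOc : (Cfsg.oddCore X).Characteristic := by
    unfold Cfsg.oddCore; infer_instance
  set O := Cfsg.oddCore X with hO
  set π := QuotientGroup.mk' O with hπ
  let β : MulAut (X ⧸ O) := QuotientGroup.congr O O α (characteristic_iff_map_eq.1 hOc α)
  have hβ : ∀ x, β (π x) = π (α x) := fun x => rfl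
  -- the elements of odd order in `S` are trivial
  have hdisj : ∀ x ∈ (S : Subgroup X), x ∈ O → x = 1 := by
    intro x hx hxO
    have h1 : orderOf x ∣ 2 := orderOf_dvd_of_pow_eq_one (by rw [pow_two]; exact hsq x hx)
    rcases (Nat.dvd_prime Nat.prime_two).1 h1 with h | h
    · exact orderOf_eq_one_iff.1 h
    · exfalso
      obtain ⟨k, hk⟩ : 2 ∣ Nat.card O := h ▸ (by
        rw [← Subgroup.orderOf_mk x hxO]; exact orderOf_dvd_natCard _)
      obtain ⟨j, hj⟩ := Agent.Cores.oddCore_odd (G := X)
      rw [← hO, hk] at hj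
      omega
  set T := S.mapSurjective (QuotientGroup.mk'_surjective O) with hT
  have hmem : ∀ x ∈ (S : Subgroup X), π x ∈ (T : Subgroup (X ⧸ O)) := fun x hx => ⟨x, hx, rfl⟩
  have hTsq : ∀ x ∈ (T : Subgroup (X ⧸ O)), x * x = 1 := by
    rintro _ ⟨x, hx, rfl⟩
    rw [← map_mul, hsq x hx, map_one]
  have hinj : ∀ x ∈ (S : Subgroup X), ∀ y ∈ (S : Subgroup X), π x = π y → x = y := by
    intro x hx y hy h
    refine (inv_mul_eq_one.1 (hdisj _ (mul_mem (inv_mem hy) hx) ?_)).symm
    exact QuotientGroup.eq.1 h.symm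
  have hT4 : Nat.card (T : Subgroup (X ⧸ O)) = 4 := by
    rw [← hS4]
    refine (Nat.card_congr (Equiv.ofBijective
      (fun x : (S : Subgroup X) => (⟨π x, hmem x x.2⟩ : (T : Subgroup (X ⧸ O))))
      ⟨fun x y h => Subtype.ext (hinj x x.2 y y.2 (congrArg Subtype.val h)), ?_⟩)).symm
    rintro ⟨_, x, hx, rfl⟩
    exact ⟨⟨x, hx⟩, rfl⟩
  have hTfus : ∃ r ∈ normalizer ((T : Subgroup (X ⧸ O)) : Set (X ⧸ O)),
      ∃ x ∈ (T : Subgroup (X ⧸ O)), r * x * r⁻¹ ≠ x := by
    obtain ⟨r, hr, x, hx, hrx⟩ := hfus
    refine ⟨π r, ?_, π x, hmem x hx, fun h => hrx ?_⟩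
    · rw [mem_normalizer_iff]
      intro y
      constructor
      · rintro ⟨z, hz, rfl⟩
        exact ⟨r * z * r⁻¹, (mem_normalizer_iff.1 hr z).1 hz, by simp [hπ]⟩
      · rintro ⟨z, hz, hzy⟩
        refine ⟨r⁻¹ * z * r, (mem_normalizer_iff''.1 hr z).1 hz, ?_⟩
        show π (r⁻¹ * z * r) = y
        rw [map_mul, map_mul, map_inv, show π z = π r * y * (π r)⁻¹ from hzy]
        group
    · exact hinj _ ((mem_normalizer_iff.1 hr x).1 hx) x hx (by simpa [hπ] using h)
  suffices he : π e = 1 from (QuotientGroup.eq_one_iff e).1 he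
  have heo' : Odd (orderOf (π e)) := heo.of_dvd_nat (orderOf_map_dvd π e)
  -- a normal subgroup containing the image of `w` contains the image of `e`
  have hgen : ∀ N : Subgroup (X ⧸ O), N.Normal → π w ∈ N → π e ∈ N := by
    intro N hN hwN
    have h2 : π e ^ 2 ∈ N := by
      have h : π e * π w * (π e)⁻¹ * (π w)⁻¹ ∈ N := mul_mem (hN.conj_mem _ hwN _) (inv_mem hwN)
      have hx : π w * (π e)⁻¹ * (π w)⁻¹ = π e := by
        rw [← map_inv π, ← map_inv π, ← map_mul, ← map_mul,
          show w * e⁻¹ * w⁻¹ = (w * e * w⁻¹)⁻¹ by group, hwe, inv_inv]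
      rwa [show π e * π w * (π e)⁻¹ * (π w)⁻¹ = π e * (π w * (π e)⁻¹ * (π w)⁻¹) by group, hx,
        ← pow_two] at h
    obtain ⟨m, hm⟩ := heo'
    have hp : (π e ^ 2) ^ (m + 1) = π e := by
      rw [← pow_mul, show 2 * (m + 1) = orderOf (π e) + 1 by omega, pow_succ, pow_orderOf_eq_one,
        one_mul]
    exact hp ▸ pow_mem h2 _
  rcases four_shape T hT4 hTsq hTfus InvChar.Core.oddCore_quotient_oddCore_eq_bot with
    ⟨hn, -, -⟩ | ⟨L, F, _, _, hLn, hodd, -, ⟨ε⟩, hTL, -, -, hmin⟩
  · have h := hTsq _ (hgen _ hn (hmem w hwS))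
    have h1 : orderOf (π e) ∣ 2 := orderOf_dvd_of_pow_eq_one (by rw [pow_two]; exact h)
    rcases (Nat.dvd_prime Nat.prime_two).1 h1 with h2 | h2
    · exact orderOf_eq_one_iff.1 h2
    · rw [h2] at heo'; exact absurd heo' (by decide)
  haveI := hLn
  have heL : π e ∈ L := hgen L hLn (hTL (hmem w hwS))
  have hβL : L.map β.toMonoidHom = L := by
    refine (eq_of_le_of_card_ge (hmin _ (hLn.map _ β.surjective) ?_) ?_).symm
    · rw [Ne, map_eq_bot_iff_of_injective _ β.injective]
      intro h
      have := hTL (hmem w hwS)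
      rw [h, mem_bot] at this
      exact hw (hinj w hwS 1 (one_mem _) (by rw [this, map_one]))
    · exact (card_map_of_injective β.injective).le
  let βL : MulAut L := (β.subgroupMap L).trans (MulEquiv.subgroupCongr hβL)
  let α' : MulAut (Matrix.ProjectiveSpecialLinearGroup (Fin 2) F) := ε.symm.trans (βL.trans ε)
  have hα' : ∀ y : L, α' (ε y) = ε (βL y) := fun y => by simp [α']
  have hβv : ∀ (x : X) (hx : π x ∈ L), (βL ⟨π x, hx⟩ : X ⧸ O) = π (α x) := fun x hx => hβ x
  let TL : Sylow 2 L := T.subtype hTL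
  let P := TL.mapSurjective (f := ε.toMonoidHom) ε.surjective
  have hP : Nat.card (P : Subgroup (Matrix.ProjectiveSpecialLinearGroup (Fin 2) F)) = 4 := by
    show Nat.card ((TL : Subgroup L).map ε.toMonoidHom) = 4
    rw [card_map_of_injective ε.injective]
    exact (Nat.card_congr (subgroupOfEquivOfLe hTL).toEquiv).trans hT4
  set tL : L := ⟨π t, hTL (hmem t htS)⟩ with htL
  set wL : L := ⟨π w, hTL (hmem w hwS)⟩ with hwL
  set eL : L := ⟨π e, heL⟩ with heLdef
  have ho : ∀ x ∈ (S : Subgroup X), x ≠ 1 → ∀ h : π x ∈ L, orderOf (ε ⟨π x, h⟩) = 2 := by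
    intro x hx hx1 h
    rw [MulEquiv.orderOf_eq]
    refine orderOf_eq_prime (Subtype.ext ?_) fun h' => hx1 (hinj x hx 1 (one_mem _) ?_)
    · rw [pow_two]; exact hTsq _ (hmem x hx)
    · rw [map_one]; exact congrArg Subtype.val h'
  have hfix : α' (ε eL) = ε eL := by
    refine fix_torus hodd hP (t := ε tL) (w := ε wL) ⟨tL, hmem t htS, rfl⟩ ⟨wL, hmem w hwS, rfl⟩
      (ho t htS ht _) (ho w hwS hw _) (fun h => hne (hinj w hwS t htS
        (congrArg Subtype.val (ε.injective h)))) ?_ α' ?_ ?_ ?_ ?_ ?_
    · refine (Commute.map (f := ε) ?_)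
      exact Subtype.ext (((comm_four S hS4 hsq hwS htS).map π).eq)
    · rw [hα']
      exact congrArg ε (Subtype.ext ((hβv t _).trans (by rw [hαt])))
    · rw [hα', ← map_mul]
      exact congrArg ε (Subtype.ext ((hβv w _).trans (by rw [hαw, map_mul]; rfl)))
    · ext y
      obtain ⟨⟨z, hz⟩, rfl⟩ := ε.surjective y
      obtain ⟨x, rfl⟩ := QuotientGroup.mk'_surjective O z
      rw [MulAut.mul_apply, hα', hα', MulAut.conj_apply, ← map_inv ε, ← map_mul, ← map_mul]
      refine congrArg ε (Subtype.ext ?_)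
      show β (β (π x)) = π t * π x * (π t)⁻¹
      rw [hβ, hβ, hα2, map_mul, map_mul, map_inv]
    · refine (Commute.map (f := ε) ?_)
      exact Subtype.ext (het.map π).eq
    · rw [MulEquiv.orderOf_eq, heLdef, Subgroup.orderOf_mk]
      exact heo'
  rw [hα', ε.injective.eq_iff] at hfix
  have h1 : π (α e) = π e := (hβv e heL).symm.trans (congrArg Subtype.val hfix)
  rw [hαe, map_inv] at h1
  have h2 : π e ^ 2 = 1 := by rw [pow_two]; nth_rewrite 1 [← h1]; exact inv_mul_cancel _
  rcases (Nat.dvd_prime Nat.prime_two).1 (orderOf_dvd_of_pow_eq_one h2) with h3 | h3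
  · exact orderOf_eq_one_iff.1 h3
  · rw [h3] at heo'; exact absurd heo' (by decide)

end Cfsg.Agent.TwoPointA5.GWFacts
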