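import Mathlib

/-!
# Facts on the alternating and symmetric groups of degree five
-/

set_option autoImplicit false
set_option synthInstance.maxSize 2000

namespace Cfsg.Agent.TwoPointA5

set_option quotPrecheck false in
local notation "A5" => ↥(alternatingGroup (Fin 5))

theorem alt_invol_conj : ∀ u v : A5, u * u = 1 → u ≠ 1 → v * v = 1 → v ≠ 1 → ∃ k : A5, k * u * k⁻¹ = v := by
  decide +kernel

theorem alt_invol_card : (Finset.univ.filter fun u : A5 => u * u = 1 ∧ u ≠ 1).card = 15 := by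
  decide +kernel

theorem alt_centralizer : ∀ t : A5, t * t = 1 → t ≠ 1 → ∃ t' : A5, t' * t' = 1 ∧ t' ≠ 1 ∧ t' ≠ t ∧
    t * t' = t' * t ∧ (∀ k : A5, k * t = t * k → k = 1 ∨ k = t ∨ k = t' ∨ k = t * t') ∧
    ∃ α : A5, α * α * α = 1 ∧ α * t * α⁻¹ = t' ∧ α * t' * α⁻¹ = t * t' := by
  decide +kernel

theorem alt_center : ∀ u : A5, (∀ k : A5, k * u = u * k) → u = 1 := by
  decide +kernel

theorem sym_swapper_conj : ∀ u v : Equiv.Perm (Fin 5), Equiv.Perm.sign u = -1 → u * u = 1 →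
    Equiv.Perm.sign v = -1 → v * v = 1 → ∃ k : A5, (k : Equiv.Perm (Fin 5)) * u * (k : Equiv.Perm (Fin 5))⁻¹ = v := by
  decide +kernel

theorem sym_swapper_card :
    (Finset.univ.filter fun u : Equiv.Perm (Fin 5) => Equiv.Perm.sign u = -1 ∧ u * u = 1).card = 10 := by
  decide +kernel

theorem sym_swapper_centralizer : ∀ t t' : A5, t * t = 1 → t ≠ 1 → t' * t' = 1 → t' ≠ 1 → t' ≠ t → t * t' = t' * t →
    ∃ u : Equiv.Perm (Fin 5), Equiv.Perm.sign u = -1 ∧ u * u = 1 ∧ u * t = (t : Equiv.Perm (Fin 5)) * u ∧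
      u * t' * u = (t : Equiv.Perm (Fin 5)) * t' ∧
      (u * t') * (u * t') = (t : Equiv.Perm (Fin 5)) ∧
      ∀ w : Equiv.Perm (Fin 5), Equiv.Perm.sign w = -1 → w * t = (t : Equiv.Perm (Fin 5)) * w →
        w = u ∨ w = u * t ∨ w = u * t' ∨ w = u * t' * t := by
  decide +kernel

end Cfsg.Agent.TwoPointA5
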