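import Mathlib
import Cfsg.Agent.Lib.TwoPointA5.Perm
import Cfsg.Agent.Lib.TwoPointA5.Alt
import Cfsg.Agent.S2119

/-!
# Two-transitive groups with two-point stabiliser `A₅`: the basic facts
-/

set_option autoImplicit false
set_option linter.unusedSectionVars false
set_option linter.unusedVariables false
set_option linter.style.haveILetI false
set_option synthInstance.maxSize 2000

namespace Cfsg.Agent.TwoPointA5

open MulAction

set_option quotPrecheck false in
local notation "A5" => ↥(alternatingGroup (Fin 5))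

variable {G Ω : Type*} [Group G] [Finite G] [Fintype Ω] [MulAction G Ω] [FaithfulSMul G Ω]

/-- the hypotheses: `G` two-transitive without regular normal subgroup, `G_{ab}` alternating of degree five -/
structure Cfg (G Ω : Type*) [Group G] [MulAction G Ω] where
  h2 : IsMultiplyPretransitive G Ω 2
  a : Ω
  b : Ω
  hab : a ≠ b
  hnr : ∀ N : Subgroup G, N.Normal → IsPretransitive ↥N Ω → (∀ x : Ω, stabilizer ↥N x = ⊥) → False
  e : ↥(stabilizer G a ⊓ stabilizer G b) ≃* A5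

variable (C : Cfg G Ω)
include C

/-- the two point stabiliser -/
abbrev Cfg.K : Subgroup G := stabilizer G C.a ⊓ stabilizer G C.b

theorem Cfg.mem_K {g : G} : g ∈ C.K ↔ g • C.a = C.a ∧ g • C.b = C.b := Iff.rfl

theorem Cfg.not_regular (N : Subgroup G) [hN : N.Normal] (h : Regular Ω N) : False :=
  C.hnr N hN h.1 fun x => (Subgroup.eq_bot_iff_forall _).2 fun g hg => Subtype.ext (h.2 x g g.2 hg)

theorem Cfg.solvable_normal_eq_bot (N : Subgroup G) [N.Normal] [Group.IsSolvable N] : N = ⊥ := by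
  by_contra h
  obtain ⟨E, p, hE, -, hr, -⟩ := exists_regular C.h2 N h
  haveI := hE
  exact C.not_regular E hr

theorem Cfg.oddCore_eq_bot : Cfsg.oddCore G = ⊥ := by
  haveI : (Cfsg.oddCore G).Normal := ZStar.Main.oddCore_normal
  haveI : Group.IsSolvable ↥(Cfsg.oddCore G) := S0205.result InvChar.Core.odd_card_oddCore
  exact C.solvable_normal_eq_bot _

theorem Cfg.card_K : Nat.card C.K = 60 := by
  rw [Nat.card_congr C.e.toEquiv, nat_card_alternatingGroup, Nat.card_eq_fintype_card, Fintype.card_fin]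
  rfl

theorem Cfg.card_G : Nat.card G = 60 * (Fintype.card Ω * (Fintype.card Ω - 1)) := by
  classical
  haveI : IsMultiplyPretransitive G Ω 2 := C.h2
  haveI : IsPretransitive G Ω := isPretransitive_of_is_two_pretransitive
  have h1 := (stabilizer G C.a).card_mul_index
  rw [index_stabilizer_of_transitive, Nat.card_eq_fintype_card (α := Ω)] at h1
  have horb : Nat.card (orbit (stabilizer G C.a) C.b) = Fintype.card Ω - 1 := by
    have : orbit (stabilizer G C.a) C.b = {x | x ≠ C.a} := by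
      ext x
      constructor
      · rintro ⟨⟨g, hg⟩, rfl⟩ h
        exact C.hab (MulAction.injective g ((show g • C.a = C.a from hg).trans h.symm))
      · intro hx
        obtain ⟨g, h1, h2⟩ := (is_two_pretransitive_iff.1 C.h2) C.hab (Ne.symm hx)
        exact ⟨⟨g, h1⟩, h2⟩
    rw [this, Nat.card_eq_fintype_card, ← Fintype.card_congr (Equiv.subtypeEquivRight (p := fun x : Ω => x ≠ C.a)
      (q := (· ∈ {x | x ≠ C.a})) fun x => Iff.rfl), Fintype.card_subtype_compl, Fintype.card_subtype_eq]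
  have h2 := Nat.card_congr (orbitProdStabilizerEquivGroup (stabilizer G C.a) C.b)
  rw [Nat.card_prod, horb] at h2
  have h3 : Nat.card (stabilizer (stabilizer G C.a) C.b) = 60 := by
    rw [← C.card_K]
    exact Nat.card_congr
      { toFun := fun g => ⟨g.1.1, g.1.2, g.2⟩
        invFun := fun g => ⟨⟨g.1, g.2.1⟩, g.2.2⟩ }
  rw [h3] at h2
  rw [← h1, ← h2]
  ring

theorem Cfg.three_le : 3 ≤ Fintype.card Ω := by
  classical
  by_contra h
  have h2 : Fintype.card Ω = 2 := by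
    have : Nontrivial Ω := ⟨⟨C.a, C.b, C.hab⟩⟩
    have := Fintype.one_lt_card (α := Ω)
    omega
  have hle : Nat.card G ≤ 2 := by
    have h1 := Nat.card_le_card_of_injective (toPermHom G Ω) fun g g' hg => eq_of_smul_eq_smul (α := Ω) fun x =>
      by simpa using congrArg (fun σ : Equiv.Perm Ω => σ x) hg
    rw [Nat.card_perm, Nat.card_eq_fintype_card (α := Ω), h2] at h1
    simpa using h1
  rw [C.card_G, h2] at hle
  omega

/-- transport of elements fixing `(a, b)` to an arbitrary pair -/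
theorem Cfg.exists_move {c d : Ω} (hcd : c ≠ d) : ∃ g : G, g • C.a = c ∧ g • C.b = d :=
  (is_two_pretransitive_iff.1 C.h2) C.hab hcd

theorem Cfg.invol_conj_K {u v : G} (hu : u ∈ C.K) (hu2 : u * u = 1) (hu1 : u ≠ 1) (hv : v ∈ C.K) (hv2 : v * v = 1)
    (hv1 : v ≠ 1) : ∃ k ∈ C.K, k * u * k⁻¹ = v := by
  obtain ⟨k, hk⟩ := alt_invol_conj (C.e ⟨u, hu⟩) (C.e ⟨v, hv⟩)
    (by rw [← map_mul, ← map_one C.e]; exact congrArg _ (Subtype.ext hu2))
    (fun h => hu1 (congrArg Subtype.val (C.e.injective (h.trans (map_one _).symm))))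
    (by rw [← map_mul, ← map_one C.e]; exact congrArg _ (Subtype.ext hv2))
    (fun h => hv1 (congrArg Subtype.val (C.e.injective (h.trans (map_one _).symm))))
  refine ⟨_, (C.e.symm k).2, ?_⟩
  have : C.e.symm k * ⟨u, hu⟩ * (C.e.symm k)⁻¹ = ⟨v, hv⟩ := C.e.injective (by simp [hk])
  exact congrArg Subtype.val this

theorem Cfg.exists_invol : ∃ t ∈ C.K, t * t = 1 ∧ t ≠ 1 := by
  haveI : Fact (Nat.Prime 2) := ⟨Nat.prime_two⟩
  obtain ⟨t, ht⟩ := exists_prime_orderOf_dvd_card' (G := C.K) 2 (by rw [C.card_K]; norm_num)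
  refine ⟨t, t.2, ?_, fun h => ?_⟩
  · have := congrArg Subtype.val (pow_orderOf_eq_one t)
    rwa [ht, SubmonoidClass.coe_pow, pow_two] at this
  · rw [show t = 1 from Subtype.ext h, orderOf_one] at ht
    norm_num at ht

/-- Witt's lemma for involutions fixing two points -/
theorem Cfg.witt {t : G} (ht : t * t = 1) (ht1 : t ≠ 1) {c d c' d' : Ω} (hcd : c ≠ d) (hcd' : c' ≠ d')
    (hc : t • c = c) (hd : t • d = d) (hc' : t • c' = c') (hd' : t • d' = d') :
    ∃ g : G, g * t = t * g ∧ g • c = c' ∧ g • d = d' := by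
  refine exists_commute_map C.h2 hcd hcd' hc hd hc' hd' fun u huc hud hu => ?_
  obtain ⟨g, hg⟩ := hu
  obtain ⟨m, hma, hmb⟩ := C.exists_move hcd
  have mem : ∀ z : G, z • c = c → z • d = d → m⁻¹ * z * m ∈ C.K := fun z h1 h2 =>
    ⟨show _ • C.a = C.a by rw [mul_smul, mul_smul, hma, h1, ← hma, inv_smul_smul],
      show _ • C.b = C.b by rw [mul_smul, mul_smul, hmb, h2, ← hmb, inv_smul_smul]⟩
  have hu2 : u * u = 1 := by
    rw [← hg, show g * t * g⁻¹ * (g * t * g⁻¹) = g * (t * t) * g⁻¹ by group, ht]; group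
  have hu1 : u ≠ 1 := fun h => ht1 (by
    rw [← hg] at h
    rw [show t = g⁻¹ * (g * t * g⁻¹) * g by group, h]; group)
  obtain ⟨k, ⟨hka, hkb⟩, hk⟩ := C.invol_conj_K (u := m⁻¹ * t * m) (v := m⁻¹ * u * m) (mem t hc hd)
    (by rw [show m⁻¹ * t * m * (m⁻¹ * t * m) = m⁻¹ * (t * t) * m by group, ht]; group)
    (fun h => ht1 (by rw [show t = m * (m⁻¹ * t * m) * m⁻¹ by group, h]; group))
    (mem u huc hud) (by rw [show m⁻¹ * u * m * (m⁻¹ * u * m) = m⁻¹ * (u * u) * m by group, hu2]; group)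
    (fun h => hu1 (by rw [show u = m * (m⁻¹ * u * m) * m⁻¹ by group, h]; group))
  refine ⟨m * k * m⁻¹, ?_, ?_, ?_⟩
  · rw [mul_smul, mul_smul, ← hma, inv_smul_smul, show k • C.a = C.a from hka]
  · rw [mul_smul, mul_smul, ← hmb, inv_smul_smul, show k • C.b = C.b from hkb]
  · rw [show m * k * m⁻¹ * t * (m * k * m⁻¹)⁻¹ = m * (k * (m⁻¹ * t * m) * k⁻¹) * m⁻¹ by group, hk]
    group

/-- the setwise stabiliser of the pair -/
def Cfg.B : Subgroup G where
  carrier := {g | (g • C.a = C.a ∧ g • C.b = C.b) ∨ (g • C.a = C.b ∧ g • C.b = C.a)}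
  one_mem' := Or.inl ⟨one_smul _ _, one_smul _ _⟩
  mul_mem' := by
    rintro g h (⟨g1, g2⟩ | ⟨g1, g2⟩) (⟨h1, h2⟩ | ⟨h1, h2⟩) <;>
      [left; right; right; left] <;> exact ⟨by rw [mul_smul, h1]; assumption, by rw [mul_smul, h2]; assumption⟩
  inv_mem' := by
    rintro g (⟨g1, g2⟩ | ⟨g1, g2⟩)
    · exact Or.inl ⟨inv_smul_eq_iff.2 g1.symm, inv_smul_eq_iff.2 g2.symm⟩
    · exact Or.inr ⟨inv_smul_eq_iff.2 g2.symm, inv_smul_eq_iff.2 g1.symm⟩

theorem Cfg.K_le_B : C.K ≤ C.B := fun _ hg => Or.inl hg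

instance Cfg.K_normal : (C.K.subgroupOf C.B).Normal := by
  constructor
  rintro ⟨n, hn⟩ ⟨hna, hnb⟩ ⟨g, hg⟩
  rcases hg with ⟨g1, g2⟩ | ⟨g1, g2⟩
  · exact ⟨show (g * n * g⁻¹) • C.a = C.a by
      rw [mul_smul, mul_smul, inv_smul_eq_iff.2 g1.symm, show n • C.a = C.a from hna, g1],
      show (g * n * g⁻¹) • C.b = C.b by
      rw [mul_smul, mul_smul, inv_smul_eq_iff.2 g2.symm, show n • C.b = C.b from hnb, g2]⟩
  · exact ⟨show (g * n * g⁻¹) • C.a = C.a by
      rw [mul_smul, mul_smul, inv_smul_eq_iff.2 g2.symm, show n • C.b = C.b from hnb, g2],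
      show (g * n * g⁻¹) • C.b = C.b by
      rw [mul_smul, mul_smul, inv_smul_eq_iff.2 g1.symm, show n • C.a = C.a from hna, g1]⟩

theorem Cfg.exists_swapper : ∃ σ : G, σ • C.a = C.b ∧ σ • C.b = C.a := C.exists_move C.hab.symm

/-- an element swapping `a` and `b` centralising `K` -/
def Cfg.IsTau (τ : G) : Prop := τ • C.a = C.b ∧ τ • C.b = C.a ∧ τ * τ = 1 ∧ ∀ k ∈ C.K, k * τ = τ * k

/-- `G_{\{a,b\}}` is `S₅`: a faithful extension of the isomorphism with `A₅` -/
def Cfg.IsSym (Φ : C.B →* Equiv.Perm (Fin 5)) : Prop :=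
  Function.Bijective Φ ∧ (∀ k : C.K, Φ ⟨k, C.K_le_B k.2⟩ = (C.e k : Equiv.Perm (Fin 5))) ∧
    ∀ g : C.B, Equiv.Perm.sign (Φ g) = 1 ↔ (g : G) ∈ C.K

/-- the two shapes of the stabiliser of the pair -/
theorem Cfg.swap_cases : (∃ τ, C.IsTau τ) ∨ ∃ Φ : C.B →* Equiv.Perm (Fin 5), C.IsSym Φ := by
  classical
  let K' := C.K.subgroupOf C.B
  let eK : K' ≃* A5 := (Subgroup.subgroupOfEquivOfLe C.K_le_B).trans C.e
  let e5 := MulEquiv.ofBijective _ (S2119.result 5 (by norm_num) (by norm_num))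
  let Φ : C.B →* Equiv.Perm (Fin 5) :=
    e5.symm.toMonoidHom.comp ((MulAut.congr eK).toMonoidHom.comp MulAut.conjNormal)
  have hΦ : ∀ g : C.B, ∀ k : K', eK (MulAut.conjNormal g k) = MulAut.conjNormal (Φ g) (eK k) := by
    intro g k
    have h1 : e5 (Φ g) = (MulAut.congr eK) (MulAut.conjNormal g) := e5.apply_symm_apply _
    have h2 := congrArg (fun φ : MulAut A5 => φ (eK k)) h1
    exact (h2.trans (by simp [MulAut.congr])).symm
  have hK : ∀ k : C.K, Φ ⟨k, C.K_le_B k.2⟩ = (C.e k : Equiv.Perm (Fin 5)) := fun k => e5.injective (by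
    refine MulEquiv.ext fun x => ?_
    have h2 := hΦ ⟨k, C.K_le_B k.2⟩ (eK.symm x)
    rw [eK.apply_symm_apply] at h2
    refine h2.symm.trans ?_
    obtain ⟨y, rfl⟩ := eK.surjective x
    rw [eK.symm_apply_apply]
    refine Subtype.ext ?_
    have h3 : (MulAut.conjNormal (⟨k, C.K_le_B k.2⟩ : C.B) y : K') =
        (⟨⟨k, C.K_le_B k.2⟩, k.2⟩ : K') * y * (⟨⟨k, C.K_le_B k.2⟩, k.2⟩ : K')⁻¹ := Subtype.ext rfl
    rw [h3, map_mul, map_mul, map_inv]
    rfl)
  by_cases hinj : Function.Injective Φ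
  · right
    refine ⟨Φ, ⟨hinj, ?_⟩, hK, ?_⟩
    · have hB : 120 ≤ Nat.card C.B := by
        obtain ⟨σ, hσ⟩ := C.exists_swapper
        have hlt : C.K.subgroupOf C.B ≠ ⊤ := fun h => C.hab (by
          have := (h ▸ Subgroup.mem_top (⟨σ, Or.inr hσ⟩ : C.B) : (⟨σ, Or.inr hσ⟩ : C.B) ∈ C.K.subgroupOf C.B)
          exact (this.1.symm.trans hσ.1))
        have h1 := (C.K.subgroupOf C.B).card_mul_index
        have h2 : (C.K.subgroupOf C.B).index ≠ 1 := fun h => hlt (Subgroup.index_eq_one.1 h)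
        have h3 : Nat.card (C.K.subgroupOf C.B) = 60 := by
          rw [Nat.card_congr (Subgroup.subgroupOfEquivOfLe C.K_le_B).toEquiv, C.card_K]
        have h4 : (C.K.subgroupOf C.B).index ≠ 0 := Subgroup.index_ne_zero_of_finite
        rw [h3] at h1
        omega
      have h5 : Nat.card (Equiv.Perm (Fin 5)) = 120 := by
        rw [Nat.card_perm, Nat.card_eq_fintype_card, Fintype.card_fin]; rfl
      have h6 := Nat.card_le_card_of_injective Φ hinj
      exact ((Nat.bijective_iff_injective_and_card Φ).2 ⟨hinj, by omega⟩).2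
    · intro g
      refine ⟨fun h => ?_, fun h => ?_⟩
      · obtain ⟨k, hk⟩ := C.e.surjective ⟨Φ g, h⟩
        have : g = ⟨k, C.K_le_B k.2⟩ := hinj (by rw [hK, hk])
        rw [this]; exact k.2
      · have := hK ⟨g, h⟩
        rw [show (⟨((⟨g, h⟩ : C.K) : G), _⟩ : C.B) = g from rfl] at this
        rw [this]; exact (C.e ⟨g, h⟩).2
  · left
    rw [injective_iff_map_eq_one] at hinj
    push Not at hinj
    obtain ⟨τ, hτ, hτ1⟩ := hinj
    have hcomm : ∀ k ∈ C.K, k * (τ : G) = τ * k := fun k hk => by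
      have h1 := hΦ τ ⟨⟨k, C.K_le_B hk⟩, hk⟩
      rw [hτ, map_one, MulAut.one_apply] at h1
      have h2 : (τ : G) * k * (τ : G)⁻¹ = k := congrArg (fun z : K' => ((z : C.B) : G)) (eK.injective h1)
      exact (mul_inv_eq_iff_eq_mul.1 h2).symm
    have center : ∀ z : G, z ∈ C.K → (∀ k ∈ C.K, k * z = z * k) → z = 1 := fun z hz h => by
      have := alt_center (C.e ⟨z, hz⟩) fun k => by
        obtain ⟨m, rfl⟩ := C.e.surjective k
        rw [← map_mul, ← map_mul]
        exact congrArg _ (Subtype.ext (h m m.2))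
      exact congrArg Subtype.val (C.e.injective (this.trans (map_one _).symm))
    rcases τ.2 with h | h
    · exact absurd (Subtype.ext (center _ h hcomm)) hτ1
    · refine ⟨τ, h.1, h.2, center _ ⟨show _ • C.a = C.a by rw [mul_smul, h.1, h.2],
        show _ • C.b = C.b by rw [mul_smul, h.2, h.1]⟩ fun k hk => ?_, hcomm⟩
      rw [← mul_assoc, hcomm k hk, mul_assoc, hcomm k hk, mul_assoc]

end Cfsg.Agent.TwoPointA5
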