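import Mathlib
import Cfsg.Agent.Lib.TwoPointA5.Setting
import Cfsg.Agent.Lib.TwoPointA5.Fix
import Cfsg.Agent.Lib.TwoPointA5.TwoTwo

/-!
# The class of the involutions fixing two points
-/

set_option autoImplicit false
set_option linter.unusedSectionVars false
set_option linter.unusedVariables false
set_option linter.style.haveILetI false

namespace Cfsg.Agent.TwoPointA5

open MulAction

variable {G Ω : Type*} [Group G] [Finite G] [Fintype Ω] [MulAction G Ω] [FaithfulSMul G Ω]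

/-- an involution of `K`, a second one commuting with it, an element of order three permuting them -/
structure Tri (C : Cfg G Ω) where
  t : G
  t' : G
  α : G
  ht : t ∈ C.K
  ht' : t' ∈ C.K
  hα : α ∈ C.K
  htt : t * t = 1
  ht1 : t ≠ 1
  ht't' : t' * t' = 1
  ht'1 : t' ≠ 1
  hne : t' ≠ t
  hcomm : t * t' = t' * t
  hcent : ∀ k ∈ C.K, k * t = t * k → k = 1 ∨ k = t ∨ k = t' ∨ k = t * t'
  hα3 : α * α * α = 1
  hαt : α * t * α⁻¹ = t'
  hαt' : α * t' * α⁻¹ = t * t'

theorem Cfg.exists_tri (C : Cfg G Ω) : Nonempty (Tri C) := by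
  obtain ⟨t, ht, htt, ht1⟩ := C.exists_invol
  obtain ⟨u, hu2, hu1, hne, hcomm, hcent, α, hα3, h1, h2⟩ := alt_centralizer (C.e ⟨t, ht⟩)
    (by rw [← map_mul, ← map_one C.e]; exact congrArg _ (Subtype.ext htt))
    (fun h => ht1 (congrArg Subtype.val (C.e.injective (h.trans (map_one _).symm))))
  have back : ∀ {x y : ↥(alternatingGroup (Fin 5))}, x = y → ((C.e.symm x : C.K) : G) = C.e.symm y :=
    fun h => by rw [h]
  refine ⟨{ t := t, t' := C.e.symm u, α := C.e.symm α, ht := ht, ht' := (C.e.symm u).2, hα := (C.e.symm α).2,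
            htt := htt, ht1 := ht1, ht't' := ?_, ht'1 := ?_, hne := ?_, hcomm := ?_, hcent := ?_, hα3 := ?_,
            hαt := ?_, hαt' := ?_ }⟩
  · simpa [← Subgroup.coe_mul, ← map_mul] using back hu2
  · exact fun h => hu1 (C.e.symm.injective (Subtype.ext (h.trans (by simp))))
  · exact fun h => hne ((C.e.apply_symm_apply u).symm.trans (congrArg C.e (Subtype.ext h)))
  · simpa using back hcomm
  · intro k hk hkt
    have h : ⟨k, hk⟩ * (⟨t, ht⟩ : C.K) = ⟨t, ht⟩ * ⟨k, hk⟩ := Subtype.ext hkt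
    rcases hcent (C.e ⟨k, hk⟩) (by rw [← map_mul, h, map_mul]) with e | e | e | e <;>
      have e' := back e <;> simp only [MulEquiv.symm_apply_apply, map_one, OneMemClass.coe_one, map_mul,
        Subgroup.coe_mul] at e'
    exacts [Or.inl e', Or.inr (Or.inl e'), Or.inr (Or.inr (Or.inl e')), Or.inr (Or.inr (Or.inr e'))]
  · simpa using back hα3
  · simpa using back h1
  · simpa using back h2

variable {C : Cfg G Ω} (T : Tri C)
include T

/-- the number of fixed points of the involutions of `K` -/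
noncomputable abbrev Tri.f : ℕ := fixCard Ω T.t

theorem Tri.two_le_f : 2 ≤ T.f := by
  classical
  show 2 ≤ Nat.card {x : Ω // T.t • x = x}
  rw [Nat.card_eq_fintype_card]
  exact Fintype.one_lt_card_iff.2 ⟨⟨C.a, T.ht.1⟩, ⟨C.b, T.ht.2⟩, fun h => C.hab (congrArg Subtype.val h)⟩

theorem Tri.f_lt : T.f < Fintype.card Ω := by
  classical
  show Nat.card {x : Ω // T.t • x = x} < _
  rw [Nat.card_eq_fintype_card]
  obtain ⟨x, hx⟩ : ∃ x : Ω, T.t • x ≠ x := by
    by_contra! h
    exact T.ht1 (eq_of_smul_eq_smul (α := Ω) fun x => by rw [h, one_smul])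
  exact Fintype.card_subtype_lt (p := fun x : Ω => T.t • x = x) hx

theorem Tri.fixCard_conj (g h : G) : fixCard Ω (h * g * h⁻¹) = fixCard Ω g := by
  refine Nat.card_congr ((MulAction.toPerm h : Equiv.Perm Ω).subtypeEquiv fun x => ?_).symm
  show g • x = x ↔ (h * g * h⁻¹) • h • x = h • x
  rw [mul_smul, mul_smul, inv_smul_smul, smul_left_cancel_iff]

/-- involutions fixing two points -/
theorem Tri.conj_of_fix {u : G} (hu : u * u = 1) (hu1 : u ≠ 1) {c d : Ω} (hcd : c ≠ d) (hc : u • c = c)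
    (hd : u • d = d) : ∃ g : G, u = g * T.t * g⁻¹ := by
  obtain ⟨m, hma, hmb⟩ := C.exists_move hcd
  obtain ⟨k, -, hk⟩ := C.invol_conj_K T.ht T.htt T.ht1 (v := m⁻¹ * u * m)
    ⟨show _ • C.a = C.a by rw [mul_smul, mul_smul, hma, hc, ← hma, inv_smul_smul],
      show _ • C.b = C.b by rw [mul_smul, mul_smul, hmb, hd, ← hmb, inv_smul_smul]⟩
    (by rw [show m⁻¹ * u * m * (m⁻¹ * u * m) = m⁻¹ * (u * u) * m by group, hu]; group)
    (fun h => hu1 (by rw [show u = m * (m⁻¹ * u * m) * m⁻¹ by group, h]; group))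
  exact ⟨m * k, by rw [show u = m * (m⁻¹ * u * m) * m⁻¹ by group, ← hk]; group⟩

/-- the class of `t` -/
noncomputable def Tri.cls : Finset G := by
  classical
  haveI := Fintype.ofFinite G
  exact Finset.univ.filter fun g => ∃ h : G, g = h * T.t * h⁻¹

theorem Tri.mem_cls {g : G} : g ∈ T.cls ↔ ∃ h : G, g = h * T.t * h⁻¹ := by
  classical simp [Tri.cls]

theorem Tri.cls_conj : ∀ g : G, ∀ u ∈ T.cls, g * u * g⁻¹ ∈ T.cls := fun g u hu => by
  obtain ⟨h, rfl⟩ := T.mem_cls.1 hu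
  exact T.mem_cls.2 ⟨g * h, by group⟩

theorem Tri.cls_sq : ∀ u ∈ T.cls, u * u = 1 := fun u hu => by
  obtain ⟨h, rfl⟩ := T.mem_cls.1 hu
  rw [show h * T.t * h⁻¹ * (h * T.t * h⁻¹) = h * (T.t * T.t) * h⁻¹ by group, T.htt]; group

theorem Tri.cls_fix : ∀ u ∈ T.cls, fixCard Ω u = T.f := fun u hu => by
  obtain ⟨h, rfl⟩ := T.mem_cls.1 hu
  exact T.fixCard_conj _ _

theorem Tri.not_mem_cls_of_fix {u : G} (h : fixCard Ω u ≠ T.f) : u ∉ T.cls := fun hu => h (T.cls_fix u hu)

theorem Tri.cls_pairs : T.cls.card * (T.f * (T.f - 1)) = Fintype.card Ω * (Fintype.card Ω - 1) * 15 := by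
  classical
  rw [card_fixed C.h2 T.cls T.cls_conj T.cls_fix C.hab]
  congr 1
  rw [← alt_invol_card]
  refine Finset.card_bij (fun u hu => C.e ⟨u, (Finset.mem_filter.1 hu).2⟩) ?_ ?_ ?_
  · intro u hu
    obtain ⟨hu1, hu2⟩ := Finset.mem_filter.1 hu
    refine Finset.mem_filter.2 ⟨Finset.mem_univ _, ?_, fun h => ?_⟩
    · rw [← map_mul, ← map_one C.e]; exact congrArg _ (Subtype.ext (T.cls_sq u hu1))
    · obtain ⟨g, hg⟩ := T.mem_cls.1 hu1
      have : u = 1 := congrArg Subtype.val (C.e.injective (h.trans (map_one _).symm))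
      exact T.ht1 (by rw [show T.t = g⁻¹ * (g * T.t * g⁻¹) * g by group, ← hg, this]; group)
  · intro u hu v hv h
    exact congrArg Subtype.val (C.e.injective h)
  · intro x hx
    obtain ⟨-, hx2, hx1⟩ := Finset.mem_filter.1 hx
    have h2 : (C.e.symm x : G) * (C.e.symm x : G) = 1 := by
      rw [← Subgroup.coe_mul, ← map_mul, hx2, map_one, OneMemClass.coe_one]
    have h1 : (C.e.symm x : G) ≠ 1 := fun h => hx1 (C.e.symm.injective (Subtype.ext (h.trans (by simp))))
    exact ⟨_, Finset.mem_filter.2 ⟨T.mem_cls.2 (T.conj_of_fix h2 h1 C.hab (C.e.symm x).2.1 (C.e.symm x).2.2),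
      (C.e.symm x).2⟩, C.e.apply_symm_apply x⟩

/-- the number of conjugates of `t` exchanging `a` and `b` -/
noncomputable def Tri.k : ℕ := by
  classical exact (T.cls.filter fun u => u • C.a = C.b ∧ u • C.b = C.a).card

theorem Tri.deg_eq : 15 * (Fintype.card Ω - T.f) = T.k * (T.f * (T.f - 1)) := by
  classical
  have h1 := card_swapped C.h2 T.cls T.cls_conj T.cls_sq T.cls_fix C.hab
  have h2 := T.cls_pairs
  have hpos : 0 < T.cls.card := Finset.card_pos.2 ⟨T.t, T.mem_cls.2 ⟨1, by group⟩⟩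
  refine Nat.eq_of_mul_eq_mul_left hpos ?_
  rw [mul_left_comm, h1, mul_left_comm T.cls.card T.k, h2]
  unfold Tri.k
  ring_nf

theorem Tri.witt {c d c' d' : Ω} (hcd : c ≠ d) (hcd' : c' ≠ d')
    (hc : T.t • c = c) (hd : T.t • d = d) (hc' : T.t • c' = c') (hd' : T.t • d' = d') :
    ∃ g : G, g * T.t = T.t * g ∧ g • c = c' ∧ g • d = d' :=
  C.witt T.htt T.ht1 hcd hcd' hc hd hc' hd'

theorem Tri.ind_two : IsMultiplyPretransitive (Ind Ω T.t) (FixSet Ω T.t) 2 :=
  ind_two_transitive fun a b c d h1 h2 h3 h4 h5 h6 => T.witt h1 h2 h3 h4 h5 h6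

theorem Tri.tt'_invol : T.t * T.t' * (T.t * T.t') = 1 ∧ T.t * T.t' ≠ 1 := by
  refine ⟨?_, fun h => T.hne ?_⟩
  · rw [mul_assoc, ← mul_assoc T.t', ← T.hcomm, mul_assoc, T.ht't', mul_one, T.htt]
  · rw [← one_mul T.t', ← T.htt, mul_assoc, h, mul_one]

theorem Tri.card_cent : Nat.card ↥(Subgroup.centralizer ({T.t} : Set G)) = 4 * (T.f * (T.f - 1)) := by
  classical
  rw [card_pairs (Subgroup.centralizer {T.t}) {x | T.t • x = x} (fun g hg x hx => smul_mem_fix hg hx)
    (fun a ha b hb c hc d hd hab hcd => by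
      obtain ⟨g, hg, h1, h2⟩ := T.witt hab hcd ha hb hc hd
      exact ⟨g, Subgroup.mem_centralizer_singleton_iff.2 hg, h1, h2⟩)
    (a := C.a) (b := C.b) T.ht.1 T.ht.2 C.hab]
  congr 1
  have h : ((Subgroup.centralizer {T.t} ⊓ C.K : Subgroup G) : Set G) =
      (({1, T.t, T.t', T.t * T.t'} : Finset G) : Set G) := by
    ext g
    simp only [Finset.coe_insert, Finset.coe_singleton, Set.mem_insert_iff, Set.mem_singleton_iff,
      SetLike.mem_coe, Subgroup.mem_inf, Subgroup.mem_centralizer_singleton_iff]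
    constructor
    · rintro ⟨h1, h2⟩
      exact T.hcent g h2 h1
    · rintro (rfl | rfl | rfl | rfl)
      · exact ⟨by simp, one_smul _ _, one_smul _ _⟩
      · exact ⟨rfl, T.ht⟩
      · exact ⟨T.hcomm.symm, T.ht'⟩
      · exact ⟨by rw [mul_assoc, ← T.hcomm], mul_mem T.ht T.ht'⟩
  calc Nat.card ↥(Subgroup.centralizer {T.t} ⊓ (stabilizer G C.a ⊓ stabilizer G C.b)) =
        Nat.card ↥((({1, T.t, T.t', T.t * T.t'} : Finset G) : Set G)) := Nat.card_congr (Equiv.setCongr h)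
    _ = 4 := by
        rw [Nat.card_eq_card_toFinset, Finset.toFinset_coe]
        have h1 : T.t * T.t' ≠ T.t := fun e => T.ht'1 (mul_eq_left.1 e)
        have h2 : T.t * T.t' ≠ T.t' := fun e => T.ht1 (mul_eq_right.1 e)
        simp [T.ht1.symm, T.ht'1.symm, T.tt'_invol.2.symm, T.hne.symm, h1.symm, h2.symm]

/-- every fixed point of `t` is fixed by `t'` -/
def Tri.Big : Prop := ∀ x : Ω, T.t • x = x → T.t' • x = x

theorem Tri.big_symm (h : T.Big) : ∀ x : Ω, T.t' • x = x → T.t • x = x := by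
  classical
  intro x hx
  have e : fixCard Ω T.t' = fixCard Ω T.t := by rw [← T.hαt, T.fixCard_conj]
  by_contra hne
  have hlt : (Finset.univ.filter fun y : Ω => T.t • y = y).card <
      (Finset.univ.filter fun y : Ω => T.t' • y = y).card := by
    refine Finset.card_lt_card ((Finset.ssubset_iff_of_subset fun y hy => ?_).2 ⟨x, by simp [hx], by simp [hne]⟩)
    simp only [Finset.mem_filter, Finset.mem_univ, true_and] at hy ⊢
    exact h y hy
  simp only [fixCard, Nat.card_eq_fintype_card, Fintype.card_subtype] at e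
  omega

/-- an element of the centraliser fixing two fixed points -/
theorem Tri.ind_fix {g : Ind Ω T.t} (ha : g • (⟨C.a, T.ht.1⟩ : FixSet Ω T.t) = ⟨C.a, T.ht.1⟩)
    (hb : g • (⟨C.b, T.ht.2⟩ : FixSet Ω T.t) = ⟨C.b, T.ht.2⟩) :
    g = 1 ∨ ∀ x : FixSet Ω T.t, ((g • x : FixSet Ω T.t) : Ω) = T.t' • (x : Ω) := by
  obtain ⟨k, hka, hkb, hkg⟩ := ind_fix_two ha hb
  obtain rfl : g = ⟨fixHom Ω T.t k, k, rfl⟩ := Subtype.ext hkg.symm
  have hk := T.hcent k ⟨hka, hkb⟩ (Subgroup.mem_centralizer_singleton_iff.1 k.2)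
  rcases hk with e | e | e | e
  · left
    refine Subtype.ext (Equiv.ext fun x => Subtype.ext ?_)
    rw [fixHom_apply, e, one_smul]; rfl
  · left
    refine Subtype.ext (Equiv.ext fun x => Subtype.ext ?_)
    rw [fixHom_apply, e, x.2]; rfl
  · right
    intro x
    show (k : G) • (x : Ω) = _
    rw [e]
  · right
    intro x
    show (k : G) • (x : Ω) = _
    rw [e, T.hcomm, mul_smul, x.2]

/-- if `t'` fixes all fixed points of `t`, the induced group is sharply two-transitive -/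
theorem Tri.sharp (hB : T.Big) {g : Ind Ω T.t} {c d : FixSet Ω T.t} (hcd : c ≠ d) (hc : g • c = c) (hd : g • d = d) :
    g = 1 := by
  obtain ⟨h, hha, hhb⟩ := (is_two_pretransitive_iff.1 T.ind_two)
    (show (⟨C.a, T.ht.1⟩ : FixSet Ω T.t) ≠ ⟨C.b, T.ht.2⟩ from fun e => C.hab (congrArg Subtype.val e)) hcd
  have hg : h⁻¹ * g * h = 1 := by
    rcases T.ind_fix (g := h⁻¹ * g * h) (by rw [mul_smul, mul_smul, hha, hc, ← hha, inv_smul_smul])
      (by rw [mul_smul, mul_smul, hhb, hd, ← hhb, inv_smul_smul]) with e | e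
    · exact e
    · refine Subtype.ext (Equiv.ext fun x => Subtype.ext ?_)
      exact (e x).trans (hB x x.2)
  rw [show g = h * (h⁻¹ * g * h) * h⁻¹ by group, hg]; group

/-- the image of `t'` -/
def Tri.sBar : Ind Ω T.t :=
  ⟨fixHom Ω T.t ⟨T.t', Subgroup.mem_centralizer_singleton_iff.2 T.hcomm.symm⟩, _, rfl⟩

theorem Tri.sBar_apply (x : FixSet Ω T.t) : ((T.sBar • x : FixSet Ω T.t) : Ω) = T.t' • (x : Ω) := rfl

/-- otherwise the induced group has two-point stabilisers of order two -/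
def Tri.twoTwo (hB : ¬ T.Big) : TwoTwo (Ind Ω T.t) (FixSet Ω T.t) where
  h2 := T.ind_two
  a := ⟨C.a, T.ht.1⟩
  b := ⟨C.b, T.ht.2⟩
  hab := fun e => C.hab (congrArg Subtype.val e)
  s := T.sBar
  hss := Subtype.ext (Equiv.ext fun x => Subtype.ext (by
    show T.t' • T.t' • (x : Ω) = _
    rw [← mul_smul, T.ht't', one_smul]; rfl))
  hs1 := fun h => hB fun x hx => by
    have := congrArg (fun g : Ind Ω T.t => ((g • (⟨x, hx⟩ : FixSet Ω T.t) : FixSet Ω T.t) : Ω)) h
    simpa [T.sBar_apply] using this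
  hsa := Subtype.ext (T.sBar_apply _ |>.trans T.ht'.1)
  hsb := Subtype.ext (T.sBar_apply _ |>.trans T.ht'.2)
  hstab := fun g ha hb => (T.ind_fix ha hb).imp id fun e =>
    Subtype.ext (Equiv.ext fun x => Subtype.ext ((e x).trans (T.sBar_apply x).symm))

end Cfsg.Agent.TwoPointA5
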