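import Mathlib
import Cfsg.Agent.Lib.TwoPointA5.GWFacts

/-!
# Fusion in an elementary abelian Sylow subgroup, and counting involutions
-/

set_option autoImplicit false
set_option linter.unusedSectionVars false
set_option linter.style.haveILetI false

namespace Cfsg.Agent.TwoPointA5

open Subgroup

variable {Y : Type*} [Group Y] [Finite Y]

/-- two-elements of a group without elements of order four -/
theorem sq_eq_one_of_no_four (h4 : ∀ g : Y, g * g * (g * g) = 1 → g * g = 1) :
    ∀ (i : ℕ) (g : Y), g ^ (2 ^ i) = 1 → g * g = 1 := by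
  intro i
  induction i with
  | zero =>
    intro g hg
    rw [pow_zero, pow_one] at hg
    rw [hg, one_mul]
  | succ i ih =>
    intro g hg
    refine h4 g (ih (g * g) ?_)
    rwa [← pow_two, ← pow_mul, ← pow_succ']

theorem sylow_fused (P : Sylow 2 Y) (hsq : ∀ x ∈ (P : Subgroup Y), x * x = 1)
    (hconj : ∀ x y : Y, orderOf x = 2 → orderOf y = 2 → ∃ g : Y, g * x * g⁻¹ = y) :
    ∀ x ∈ (P : Subgroup Y), x ≠ 1 → ∀ y ∈ (P : Subgroup Y), y ≠ 1 →
      ∃ n ∈ normalizer ((P : Subgroup Y) : Set Y), n * x * n⁻¹ = y := by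
  haveI : Fact (Nat.Prime 2) := ⟨Nat.prime_two⟩
  have hcomm : ∀ a ∈ (P : Subgroup Y), ∀ b ∈ (P : Subgroup Y), a * b = b * a := fun a ha b hb => by
    have h1 : (a * b)⁻¹ = a * b := inv_eq_of_mul_eq_one_left (hsq _ (mul_mem ha hb))
    rw [mul_inv_rev, inv_eq_of_mul_eq_one_left (hsq a ha), inv_eq_of_mul_eq_one_left (hsq b hb)] at h1
    exact h1.symm
  haveI : IsMulCommutative (P : Subgroup Y) := ⟨⟨fun a b => Subtype.ext (hcomm a a.2 b b.2)⟩⟩
  intro x hx hx1 y hy hy1
  obtain ⟨g, hg⟩ := hconj x y (orderOf_eq_prime (by rw [pow_two, hsq x hx]) hx1)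
    (orderOf_eq_prime (by rw [pow_two, hsq y hy]) hy1)
  obtain ⟨n, hn, h⟩ := P.conj_eq_normalizer_conj_of_mem_centralizer x g⁻¹
    (mem_centralizer_iff.2 fun z hz => hcomm z hz x hx)
    (mem_centralizer_iff.2 fun z hz => by rw [inv_inv, hg]; exact hcomm z hz y hy)
  refine ⟨n⁻¹, inv_mem hn, ?_⟩
  rw [inv_inv] at h ⊢
  rw [← h, hg]

/-- a group with fused elementary abelian Sylow subgroup of order `d + 1` has order divisible by `d` -/
theorem card_sub_one_dvd (P : Sylow 2 Y) (hsq : ∀ x ∈ (P : Subgroup Y), x * x = 1)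
    (hconj : ∀ x y : Y, orderOf x = 2 → orderOf y = 2 → ∃ g : Y, g * x * g⁻¹ = y)
    (hne : 1 < Nat.card (P : Subgroup Y)) : Nat.card (P : Subgroup Y) - 1 ∣ Nat.card Y := by
  classical
  haveI := Finite.one_lt_card_iff_nontrivial.1 hne
  obtain ⟨⟨x, hx⟩, hx'⟩ := exists_ne (1 : (P : Subgroup Y))
  have hx1 : x ≠ 1 := fun h => hx' (Subtype.ext h)
  set N := normalizer ((P : Subgroup Y) : Set Y)
  let xN : N := ⟨x, le_normalizer hx⟩
  have horb : MulAction.orbit (ConjAct N) xN = {z : N | (z : Y) ∈ (P : Subgroup Y) ∧ z ≠ 1} := by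
    ext z
    constructor
    · rintro ⟨g, rfl⟩
      exact ⟨(mem_normalizer_iff.1 (ConjAct.ofConjAct g).2 x).1 hx, fun h => hx1 (congrArg Subtype.val
        (conj_eq_one_iff.1 (show ConjAct.ofConjAct g * xN * (ConjAct.ofConjAct g)⁻¹ = 1 from h)))⟩
    · rintro ⟨hz, hz1⟩
      obtain ⟨n, hn, h⟩ := sylow_fused P hsq hconj x hx hx1 z hz fun e => hz1 (Subtype.ext e)
      exact ⟨ConjAct.toConjAct ⟨n, hn⟩, Subtype.ext h⟩
  haveI : Finite (ConjAct N) := inferInstanceAs (Finite N)
  have hcard : ({z : N | (z : Y) ∈ (P : Subgroup Y) ∧ z ≠ 1}).ncard = Nat.card (P : Subgroup Y) - 1 := by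
    rw [show {z : N | (z : Y) ∈ (P : Subgroup Y) ∧ z ≠ 1} =
      (((P : Subgroup Y).subgroupOf N : Subgroup N) : Set N) \ {1} from rfl,
      Set.ncard_sdiff_singleton_of_mem (one_mem _)]
    rw [← Nat.card_coe_set_eq, SetLike.coe_sort_coe,
      Nat.card_congr (subgroupOfEquivOfLe (le_normalizer (H := (P : Subgroup Y)))).toEquiv]
  rw [← hcard, ← horb, ← MulAction.index_stabilizer]
  refine (Subgroup.index_dvd_card _).trans ?_
  exact Subgroup.card_subgroup_dvd_card N

/-- the number of involutions when they are conjugate -/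
theorem card_invol_mul {s : Y} (hs : orderOf s = 2) (hconj : ∀ z : Y, orderOf z = 2 → ∃ g : Y, g * s * g⁻¹ = z) :
    Nat.card {z : Y // orderOf z = 2} * Nat.card (centralizer ({s} : Set Y)) = Nat.card Y := by
  classical
  haveI : Finite (ConjAct Y) := inferInstanceAs (Finite Y)
  have horb : MulAction.orbit (ConjAct Y) s = {z : Y | orderOf z = 2} := by
    ext z
    constructor
    · rintro ⟨g, rfl⟩
      exact ((MulAut.conj (ConjAct.ofConjAct g)).orderOf_eq s).trans hs
    · intro hz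
      obtain ⟨g, hg⟩ := hconj z hz
      exact ⟨ConjAct.toConjAct g, hg⟩
  have h := (MulAction.stabilizer (ConjAct Y) s).card_mul_index
  rw [MulAction.index_stabilizer, horb, ← Nat.card_coe_set_eq] at h
  have hst : Nat.card (MulAction.stabilizer (ConjAct Y) s) = Nat.card (centralizer ({s} : Set Y)) := by
    refine Nat.card_congr ((ConjAct.toConjAct (G := Y)).symm.toEquiv.subtypeEquiv fun a => ?_)
    show a • s = s ↔ ConjAct.ofConjAct a ∈ centralizer ({s} : Set Y)
    rw [ConjAct.smul_def, mul_inv_eq_iff_eq_mul, mem_centralizer_singleton_iff]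
  rw [hst] at h
  rw [mul_comm]
  exact h

end Cfsg.Agent.TwoPointA5
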