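import Mathlib
import Cfsg.Agent.Lib.TwoPointA5.Count
import Cfsg.Agent.Lib.TwoPointA5.Sharp

/-!
# The sharply two-transitive groups induced on fixed points
-/

set_option autoImplicit false
set_option linter.unusedSectionVars false
set_option linter.unusedVariables false
set_option linter.style.haveILetI false

namespace Cfsg.Agent.TwoPointA5

open MulAction

section General

variable {X Φ : Type*} [Group X] [Finite X] [Fintype Φ] [MulAction X Φ]

/-- an involution fixes as many points as there are, modulo two -/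
theorem fixCard_parity {u : X} (hu : u * u = 1) : fixCard Φ u % 2 = Fintype.card Φ % 2 := by
  classical
  have h : Even (Finset.univ.filter fun x : Φ => u • x ≠ x).card := by
    rw [← ZMod.natCast_eq_zero_iff_even, Finset.card_eq_sum_ones, Nat.cast_sum, Nat.cast_one]
    refine Finset.sum_involution (fun x _ => u • x) (fun x _ => by decide)
      (fun x hx _ => (Finset.mem_filter.1 hx).2)
      (fun x hx => Finset.mem_filter.2 ⟨Finset.mem_univ _, fun h => (Finset.mem_filter.1 hx).2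
        (MulAction.injective u h)⟩) (fun x _ => by show u • u • x = x; rw [← mul_smul, hu, one_smul])
  have h1 := Finset.card_filter_add_card_filter_not (s := (Finset.univ : Finset Φ)) fun x => u • x = x
  rw [Finset.card_univ] at h1
  rw [fixCard, Nat.card_eq_fintype_card, Fintype.card_subtype]
  obtain ⟨m, hm⟩ := h
  simp only [ne_eq] at hm
  omega

/-- even degree: a power of two -/
theorem SharpModKer.two_pow (h2 : IsMultiplyPretransitive X Φ 2) (hs : SharpModKer X Φ) [Nontrivial Φ]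
    (hev : Even (Fintype.card Φ)) : ∃ k, Fintype.card Φ = 2 ^ k ∧ 0 < k := by
  obtain ⟨T⟩ := exists_translations h2 hs
  have h : 2 ∣ T.p ^ T.k := T.card_eq ▸ hev.two_dvd
  have hp : T.p = 2 :=
    ((Nat.prime_dvd_prime_iff_eq Nat.prime_two T.prime).1 (Nat.prime_two.dvd_of_dvd_pow h)).symm
  exact ⟨T.k, hp ▸ T.card_eq, Nat.pos_of_ne_zero T.k_ne⟩

/-- a sharply two-transitive group has one involutive permutation fixing a given point -/
theorem SharpModKer.unique_invol (h2 : IsMultiplyPretransitive X Φ 2) (hs : SharpModKer X Φ) [Nontrivial Φ]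
    [FaithfulSMul X Φ] {g h : X} (hg : g * g = 1) (hh : h * h = 1) (hg1 : g ≠ 1) (hh1 : h ≠ 1) {x : Φ}
    (hgx : g • x = x) (hhx : h • x = x) : g = h := by
  obtain ⟨T⟩ := exists_translations h2 hs
  have hne : ∀ u : X, u ≠ 1 → ∃ y : Φ, u • y ≠ y := fun u hu => by
    by_contra! h'
    exact hu (eq_of_smul_eq_smul (α := Φ) fun y => by rw [h', one_smul])
  refine eq_of_smul_eq_smul (α := Φ) (T.invol_eq hs (fun y => ?_) (fun y => ?_) (hne g hg1) (hne h hh1) hgx hhx)
  · rw [← mul_smul, hg, one_smul]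
  · rw [← mul_smul, hh, one_smul]

end General

section TwoTwo

variable {X Φ : Type*} [Group X] [Finite X] [Fintype Φ] [MulAction X Φ] [FaithfulSMul X Φ] (D : TwoTwo X Φ)
include D

/-- an element fixing two fixed points of `s` -/
theorem TwoTwo.stab_pair {c d : Φ} (hcd : c ≠ d) (hc : D.s • c = c) (hd : D.s • d = d) {g : X}
    (hgc : g • c = c) (hgd : g • d = d) : g = 1 ∨ g = D.s := by
  obtain ⟨m, hma, hmb⟩ := (is_two_pretransitive_iff.1 D.h2) D.hab hcd
  have mem : ∀ z : X, z • c = c → z • d = d → m⁻¹ * z * m = 1 ∨ m⁻¹ * z * m = D.s := fun z h1 h2 =>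
    D.hstab _ (by rw [mul_smul, mul_smul, hma, h1, ← hma, inv_smul_smul])
      (by rw [mul_smul, mul_smul, hmb, h2, ← hmb, inv_smul_smul])
  have back : ∀ z : X, z = m * (m⁻¹ * z * m) * m⁻¹ := fun z => by group
  rcases mem g hgc hgd with e | e
  · left; rw [back g, e]; group
  · rcases mem D.s hc hd with e' | e'
    · exact absurd (by rw [back D.s, e']; group) D.hs1
    · right; exact (back g).trans ((congrArg (fun z => m * z * m⁻¹) (e.trans e'.symm)).trans (back D.s).symm)

theorem TwoTwo.sharpModKer : SharpModKer (Ind Φ D.s) (FixSet Φ D.s) := by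
  intro g c d hcd hc hd z
  obtain ⟨k, hkc, hkd, rfl'⟩ := ind_fix_two hc hd
  obtain rfl : g = ⟨fixHom Φ D.s k, k, rfl⟩ := Subtype.ext rfl'.symm
  refine Subtype.ext ?_
  show (k : X) • (z : Φ) = z
  rcases D.stab_pair (fun h => hcd (Subtype.ext h)) c.2 d.2 hkc hkd with e | e <;> rw [e]
  · exact one_smul _ _
  · exact z.2

theorem TwoTwo.fix_two_transitive : IsMultiplyPretransitive (Ind Φ D.s) (FixSet Φ D.s) 2 :=
  ind_two_transitive fun _ _ _ _ h1 h2 h3 h4 h5 h6 => D.cent_pairs h1 h2 h3 h4 h5 h6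

theorem TwoTwo.fix_nontrivial : Nontrivial (FixSet Φ D.s) :=
  ⟨⟨⟨D.a, D.hsa⟩, ⟨D.b, D.hsb⟩, fun h => D.hab (congrArg Subtype.val h)⟩⟩

theorem TwoTwo.r_two_pow (hev : Even D.r) : ∃ k, D.r = 2 ^ k ∧ 0 < k := by
  classical
  haveI := D.fix_nontrivial
  have e : Fintype.card (FixSet Φ D.s) = D.r := by rw [← Nat.card_eq_fintype_card]; rfl
  exact e ▸ D.sharpModKer.two_pow D.fix_two_transitive (e.symm ▸ hev)

theorem TwoTwo.card_group : Nat.card X = 2 * (Fintype.card Φ * (Fintype.card Φ - 1)) := by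
  classical
  have h := card_pairs (⊤ : Subgroup X) (Set.univ : Set Φ) (fun _ _ _ _ => trivial)
    (fun a _ b _ c _ d _ h1 h2 => by
      obtain ⟨g, e1, e2⟩ := (is_two_pretransitive_iff.1 D.h2) h1 h2
      exact ⟨g, Subgroup.mem_top g, e1, e2⟩) (a := D.a) (b := D.b) trivial trivial D.hab
  rw [Subgroup.card_top, Nat.card_congr (Equiv.Set.univ Φ), Nat.card_eq_fintype_card (α := Φ)] at h
  rw [h]
  congr 1
  have hs : ((⊤ ⊓ (stabilizer X D.a ⊓ stabilizer X D.b) : Subgroup X) : Set X) = {1, D.s} := by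
    ext g
    simp only [top_inf_eq, Subgroup.coe_inf, Set.mem_inter_iff, SetLike.mem_coe, mem_stabilizer_iff,
      Set.mem_insert_iff, Set.mem_singleton_iff]
    refine ⟨fun h => D.hstab g h.1 h.2, ?_⟩
    rintro (rfl | rfl)
    exacts [⟨one_smul _ _, one_smul _ _⟩, ⟨D.hsa, D.hsb⟩]
  rw [← SetLike.coe_sort_coe, Nat.card_coe_set_eq, hs, Set.ncard_pair D.hs1.symm]

theorem TwoTwo.card_cent : Nat.card ↥(Subgroup.centralizer ({D.s} : Set X)) = 2 * (D.r * (D.r - 1)) := by
  classical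
  rw [card_pairs (Subgroup.centralizer {D.s}) {x | D.s • x = x} (fun g hg x hx => smul_mem_fix hg hx)
    (fun a ha b hb c hc d hd hab hcd => by
      obtain ⟨g, hg, h1, h2⟩ := D.cent_pairs hab hcd ha hb hc hd
      exact ⟨g, Subgroup.mem_centralizer_singleton_iff.2 hg, h1, h2⟩)
    (a := D.a) (b := D.b) D.hsa D.hsb D.hab]
  congr 1
  have hs : ((Subgroup.centralizer {D.s} ⊓ (stabilizer X D.a ⊓ stabilizer X D.b) : Subgroup X) : Set X) =
      {1, D.s} := by
    ext g
    simp only [Subgroup.coe_inf, Set.mem_inter_iff, SetLike.mem_coe, mem_stabilizer_iff,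
      Subgroup.mem_centralizer_singleton_iff, Set.mem_insert_iff, Set.mem_singleton_iff]
    refine ⟨fun h => D.hstab g h.2.1 h.2.2, ?_⟩
    rintro (rfl | rfl)
    exacts [⟨by simp, one_smul _ _, one_smul _ _⟩, ⟨rfl, D.hsa, D.hsb⟩]
  rw [← SetLike.coe_sort_coe, Nat.card_coe_set_eq, hs, Set.ncard_pair D.hs1.symm]

theorem TwoTwo.deg_of_k_two (h : D.k = 2) : Fintype.card Φ = D.r * (2 * D.r - 1) := by
  rw [D.deg_eq, h]
  obtain ⟨m, hm⟩ : ∃ m, D.r = m + 1 := ⟨D.r - 1, by have := D.two_le_r; omega⟩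
  rw [hm, Nat.add_sub_cancel, show 2 * (m + 1) - 1 = 2 * m + 1 by omega]; ring

end TwoTwo

section Tri

variable {G Ω : Type*} [Group G] [Finite G] [Fintype Ω] [MulAction G Ω] [FaithfulSMul G Ω] {C : Cfg G Ω} (T : Tri C)
include T

theorem Tri.fix_nontrivial : Nontrivial (FixSet Ω T.t) :=
  ⟨⟨⟨C.a, T.ht.1⟩, ⟨C.b, T.ht.2⟩, fun h => C.hab (congrArg Subtype.val h)⟩⟩

theorem Tri.sharpModKer (hB : T.Big) : SharpModKer (Ind Ω T.t) (FixSet Ω T.t) :=
  fun g c d hcd hc hd z => by rw [T.sharp hB hcd hc hd, one_smul]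

theorem Tri.card_fixSet [Fintype (FixSet Ω T.t)] : Fintype.card (FixSet Ω T.t) = T.f := by
  rw [← Nat.card_eq_fintype_card]; rfl

theorem Tri.f_two_pow_of_big (hB : T.Big) (hev : Even T.f) : ∃ k, T.f = 2 ^ k ∧ 0 < k := by
  classical
  haveI := T.fix_nontrivial
  exact T.card_fixSet ▸ (T.sharpModKer hB).two_pow T.ind_two (T.card_fixSet.symm ▸ hev)

/-- the restriction of an element commuting with `t` -/
def Tri.res {g : G} (hg : g * T.t = T.t * g) : Ind Ω T.t :=
  ⟨fixHom Ω T.t ⟨g, Subgroup.mem_centralizer_singleton_iff.2 hg⟩, _, rfl⟩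

theorem Tri.res_apply {g : G} (hg : g * T.t = T.t * g) (x : FixSet Ω T.t) :
    ((T.res hg • x : FixSet Ω T.t) : Ω) = g • (x : Ω) := rfl

end Tri

end Cfsg.Agent.TwoPointA5
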