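import Mathlib
import Cfsg.Agent.Lib.TwoPointA5.SharpFix

/-!
# The symmetric case: the exchanging elements
-/

set_option autoImplicit false
set_option linter.unusedSectionVars false
set_option linter.unusedVariables false
set_option linter.style.haveILetI false
set_option synthInstance.maxSize 2000

namespace Cfsg.Agent.TwoPointA5

open MulAction

set_option quotPrecheck false in
local notation "A5" => ↥(alternatingGroup (Fin 5))

variable {G Ω : Type*} [Group G] [Finite G] [Fintype Ω] [MulAction G Ω] [FaithfulSMul G Ω]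

/-- the exchanging involution of a symmetric pair stabiliser -/
structure Sw {C : Cfg G Ω} (T : Tri C) where
  u : G
  hua : u • C.a = C.b
  hub : u • C.b = C.a
  huu : u * u = 1
  hut : u * T.t = T.t * u
  hut' : u * T.t' * u = T.t * T.t'
  hsq : (u * T.t') * (u * T.t') = T.t
  hall : ∀ w : G, w • C.a = C.b → w • C.b = C.a → w * T.t = T.t * w →
    w = u ∨ w = u * T.t ∨ w = u * T.t' ∨ w = u * T.t' * T.t
  hone : ∀ w : G, w • C.a = C.b → w • C.b = C.a → w * w = 1 → ∃ k ∈ C.K, k * u * k⁻¹ = w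
  hten : ∀ S : Finset G, (∀ w, w ∈ S ↔ w • C.a = C.b ∧ w • C.b = C.a ∧ w * w = 1) → S.card = 10

theorem Cfg.IsSym.exists_sw {C : Cfg G Ω} {Φ : C.B →* Equiv.Perm (Fin 5)} (hΦ : C.IsSym Φ) (T : Tri C) :
    Nonempty (Sw T) := by
  classical
  obtain ⟨hbij, hK, hsgn⟩ := hΦ
  let eK : G → A5 := fun k => if h : k ∈ C.K then C.e ⟨k, h⟩ else 1
  have heK : ∀ {k : G} (h : k ∈ C.K), Φ ⟨k, C.K_le_B h⟩ = ((C.e ⟨k, h⟩ : A5) : Equiv.Perm (Fin 5)) :=
    fun {k} h => hK ⟨k, h⟩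
  set t₀ := C.e ⟨T.t, T.ht⟩ with ht₀
  set t₀' := C.e ⟨T.t', T.ht'⟩ with ht₀'
  have inj1 : ∀ {k : G} (h : k ∈ C.K), C.e ⟨k, h⟩ = 1 → k = 1 := fun h e =>
    congrArg Subtype.val (C.e.injective (e.trans (map_one _).symm))
  obtain ⟨u₀, hsu, huu, hut, hut', hsq, hall⟩ := sym_swapper_centralizer t₀ t₀'
    (by rw [ht₀, ← map_mul, ← map_one C.e]; exact congrArg _ (Subtype.ext T.htt))
    (fun e => T.ht1 (inj1 T.ht e))
    (by rw [ht₀', ← map_mul, ← map_one C.e]; exact congrArg _ (Subtype.ext T.ht't'))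
    (fun e => T.ht'1 (inj1 T.ht' e))
    (fun e => T.hne (congrArg Subtype.val (C.e.injective e)))
    (by rw [ht₀, ht₀', ← map_mul, ← map_mul]; exact congrArg _ (Subtype.ext T.hcomm))
  obtain ⟨ub, hub⟩ := hbij.2 u₀
  set tb : C.B := ⟨T.t, C.K_le_B T.ht⟩ with htb
  set tb' : C.B := ⟨T.t', C.K_le_B T.ht'⟩ with htb'
  have hΦt : Φ tb = (t₀ : Equiv.Perm (Fin 5)) := heK T.ht
  have hΦt' : Φ tb' = (t₀' : Equiv.Perm (Fin 5)) := heK T.ht'
  -- odd elements exchange, exchanging elements are odd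
  have hswap : ∀ g : C.B, Equiv.Perm.sign (Φ g) = -1 ↔ (g : G) • C.a = C.b ∧ (g : G) • C.b = C.a := by
    intro g
    constructor
    · intro h
      refine g.2.resolve_left fun hg => ?_
      rw [(hsgn g).2 hg] at h
      exact absurd h (by decide)
    · intro h
      refine (Int.units_eq_one_or _).resolve_left fun h1 => C.hab ?_
      have h2 := ((hsgn g).1 h1).1
      exact h2.symm.trans h.1
  obtain ⟨hua, hub'⟩ := (hswap ub).1 (hub ▸ hsu)
  have back : ∀ {x y : C.B}, Φ x = Φ y → (x : G) = y := fun h => congrArg Subtype.val (hbij.1 h)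
  refine ⟨{ u := ub, hua := hua, hub := hub', huu := ?_, hut := ?_, hut' := ?_, hsq := ?_, hall := ?_,
            hone := ?_, hten := ?_ }⟩
  · exact back (x := ub * ub) (y := 1) (by rw [map_mul, hub, huu, map_one])
  · exact back (x := ub * tb) (y := tb * ub) (by rw [map_mul, map_mul, hub, hΦt, hut])
  · exact back (x := ub * tb' * ub) (y := tb * tb') (by rw [map_mul, map_mul, map_mul, hub, hΦt, hΦt', hut'])
  · exact back (x := ub * tb' * (ub * tb')) (y := tb) (by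
      rw [map_mul, map_mul, hub, hΦt, hΦt', hsq])
  · intro w hwa hwb hwt
    set wb : C.B := ⟨w, Or.inr ⟨hwa, hwb⟩⟩ with hwbdef
    rcases hall (Φ wb) ((hswap wb).2 ⟨hwa, hwb⟩) (by
      rw [← hΦt, ← map_mul, ← map_mul]; exact congrArg Φ (Subtype.ext hwt)) with e | e | e | e
    · exact Or.inl (back (x := wb) (y := ub) (e.trans hub.symm))
    · exact Or.inr (Or.inl (back (x := wb) (y := ub * tb) (by rw [e, map_mul, hub, hΦt])))
    · exact Or.inr (Or.inr (Or.inl (back (x := wb) (y := ub * tb') (by rw [e, map_mul, hub, hΦt']))))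
    · exact Or.inr (Or.inr (Or.inr (back (x := wb) (y := ub * tb' * tb) (by
        rw [e, map_mul, map_mul, hub, hΦt, hΦt']))))
  · intro w hwa hwb hww
    set wb : C.B := ⟨w, Or.inr ⟨hwa, hwb⟩⟩ with hwbdef
    obtain ⟨k, hk⟩ := sym_swapper_conj u₀ (Φ wb) hsu huu ((hswap wb).2 ⟨hwa, hwb⟩) (by
      rw [← map_mul, ← map_one Φ]; exact congrArg Φ (Subtype.ext hww))
    refine ⟨C.e.symm k, (C.e.symm k).2, ?_⟩
    set kb : C.B := ⟨C.e.symm k, C.K_le_B (C.e.symm k).2⟩
    have hΦk : Φ kb = (k : Equiv.Perm (Fin 5)) := by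
      rw [show Φ kb = ((C.e (C.e.symm k) : A5) : Equiv.Perm (Fin 5)) from hK (C.e.symm k), C.e.apply_symm_apply]
    exact back (x := kb * ub * kb⁻¹) (y := wb) (by rw [map_mul, map_mul, map_inv, hub, hΦk, hk])
  · intro S hS
    rw [← sym_swapper_card]
    refine Finset.card_bij (fun w hw => Φ ⟨w, Or.inr ⟨((hS w).1 hw).1, ((hS w).1 hw).2.1⟩⟩) ?_ ?_ ?_
    · intro w hw
      obtain ⟨h1, h2, h3⟩ := (hS w).1 hw
      refine Finset.mem_filter.2 ⟨Finset.mem_univ _, (hswap _).2 ⟨h1, h2⟩, ?_⟩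
      rw [← map_mul, ← map_one Φ]; exact congrArg Φ (Subtype.ext h3)
    · intro w _ v _ h
      exact back h
    · intro p hp
      obtain ⟨g, rfl⟩ := hbij.2 p
      obtain ⟨-, h1, h2⟩ := Finset.mem_filter.1 hp
      refine ⟨g, (hS g).2 ⟨((hswap g).1 h1).1, ((hswap g).1 h1).2, ?_⟩, rfl⟩
      exact back (x := g * g) (y := 1) (by rw [map_mul, h2, map_one])

variable {C : Cfg G Ω} {T : Tri C} (W : Sw T)
include W

theorem Sw.ne_one : W.u ≠ 1 := fun h => C.hab (by
  have := W.hua; rw [h, one_smul] at this; exact this)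

/-- all involutions are conjugate to `u`, hence to `t` -/
theorem Sw.conj_u {w : G} (hw : w * w = 1) (hw1 : w ≠ 1) : ∃ g : G, g * W.u * g⁻¹ = w := by
  obtain ⟨x, hx⟩ : ∃ x : Ω, w • x ≠ x := by
    by_contra! h
    exact hw1 (eq_of_smul_eq_smul (α := Ω) fun x => by rw [h, one_smul])
  obtain ⟨m, hma, hmb⟩ := C.exists_move hx.symm
  have hwx : w • w • x = x := by rw [← mul_smul, hw, one_smul]
  obtain ⟨k, -, hk⟩ := W.hone (m⁻¹ * w * m)
    (by rw [mul_smul, mul_smul, hma, ← hmb, inv_smul_smul])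
    (by rw [mul_smul, mul_smul, hmb, hwx, ← hma, inv_smul_smul])
    (by rw [show m⁻¹ * w * m * (m⁻¹ * w * m) = m⁻¹ * (w * w) * m by group, hw]; group)
  exact ⟨m * k, by rw [show m * k * W.u * (m * k)⁻¹ = m * (k * W.u * k⁻¹) * m⁻¹ by group, hk]; group⟩

theorem Sw.all_cls {w : G} (hw : w * w = 1) (hw1 : w ≠ 1) : w ∈ T.cls := by
  obtain ⟨g, hg⟩ := W.conj_u hw hw1
  obtain ⟨h, hh⟩ := W.conj_u T.htt T.ht1
  exact T.mem_cls.2 ⟨g * h⁻¹, by rw [← hh, ← hg]; group⟩

theorem Sw.deg : 3 * (Fintype.card Ω - T.f) = 2 * (T.f * (T.f - 1)) := by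
  classical
  have hk : T.k = 10 := by
    unfold Tri.k
    refine W.hten _ fun w => ?_
    rw [Finset.mem_filter]
    refine ⟨fun h => ⟨h.2.1, h.2.2, T.cls_sq w h.1⟩, fun h => ⟨W.all_cls h.2.2 fun e => C.hab ?_, h.1, h.2.1⟩⟩
    have := h.1
    rw [e, one_smul] at this
    exact this
  have := T.deg_eq
  rw [hk] at this
  omega

end Cfsg.Agent.TwoPointA5
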