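import Mathlib
import Cfsg.Agent.Lib.TwoPointA5.Sym
import Cfsg.Agent.Lib.TwoPointA5.GWSocle
import Cfsg.Agent.Lib.PSLBinary.Invol

/-!
# The symmetric case with a four-group fixing all fixed points: degree seven
-/

set_option autoImplicit false
set_option linter.unusedSectionVars false
set_option linter.unusedVariables false
set_option linter.style.haveILetI false
set_option synthInstance.maxSize 2000

namespace Cfsg.Agent.TwoPointA5

open MulAction DihedralGroup

/-- a dihedral group of order eight in the symmetric group -/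
def d8Fun : DihedralGroup 4 → Equiv.Perm (Fin 5)
  | .r i => (Equiv.swap 0 1 * Equiv.swap 1 2 * Equiv.swap 2 3) ^ i.val
  | .sr i => Equiv.swap 1 3 * (Equiv.swap 0 1 * Equiv.swap 1 2 * Equiv.swap 2 3) ^ i.val

theorem d8Fun_mul : ∀ x y : DihedralGroup 4, d8Fun (x * y) = d8Fun x * d8Fun y := by
  decide +kernel

theorem d8Fun_eq_one : ∀ x : DihedralGroup 4, d8Fun x = 1 → x = 1 := by
  decide +kernel

theorem dihedral_not_comm : ∃ x y : DihedralGroup 4, x * y ≠ y * x := by
  decide +kernel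

variable {G Ω : Type*} [Group G] [Finite G] [Fintype Ω] [MulAction G Ω] [FaithfulSMul G Ω] {C : Cfg G Ω} {T : Tri C}

theorem Tri.conj_t' (T : Tri C) (hB : T.Big) {g : G} (hg : g * T.t = T.t * g) :
    g * T.t' * g⁻¹ = T.t' ∨ g * T.t' * g⁻¹ = T.t * T.t' := by
  have hg' : g⁻¹ * T.t = T.t * g⁻¹ := ((show Commute g T.t from hg).inv_left).eq
  have hfix : ∀ x : Ω, T.t • x = x → (g * T.t' * g⁻¹) • x = x := fun x hx => by
    rw [mul_smul, mul_smul, hB (g⁻¹ • x) (by rw [← mul_smul, ← hg', mul_smul, hx]), smul_inv_smul]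
  rcases T.hcent (g * T.t' * g⁻¹) ⟨hfix C.a T.ht.1, hfix C.b T.ht.2⟩ (by
      calc g * T.t' * g⁻¹ * T.t = g * (T.t' * T.t) * g⁻¹ := by rw [mul_assoc _ g⁻¹, hg']; group
        _ = (g * T.t) * T.t' * g⁻¹ := by rw [← T.hcomm]; group
        _ = T.t * (g * T.t' * g⁻¹) := by rw [hg]; group) with e | e | e | e
  · exact absurd (conj_eq_one_iff.1 e) T.ht'1
  · refine absurd ?_ T.hne
    have : g * T.t * g⁻¹ = T.t := by rw [hg, mul_inv_cancel_right]
    exact mul_left_cancel (mul_right_cancel (e.trans this.symm))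
  · exact Or.inl e
  · exact Or.inr e

/-- elements exchanging two fixed points move `t'` -/
theorem Sw.flip (W : Sw T) (hB : T.Big) {g : G} (hg : g * T.t = T.t * g) {c d : Ω} (hcd : c ≠ d)
    (hc : T.t • c = c) (hd : T.t • d = d) (hgc : g • c = d) (hgd : g • d = c) :
    g * T.t' * g⁻¹ = T.t * T.t' := by
  obtain ⟨m, hm, hma, hmb⟩ := T.witt C.hab hcd T.ht.1 T.ht.2 hc hd
  have hm' : m⁻¹ * T.t = T.t * m⁻¹ := ((show Commute m T.t from hm).inv_left).eq
  have hui : W.u⁻¹ = W.u := inv_eq_of_mul_eq_one_right W.huu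
  have hti : T.t⁻¹ = T.t := inv_eq_of_mul_eq_one_right T.htt
  have ht'i : T.t'⁻¹ = T.t' := inv_eq_of_mul_eq_one_right T.ht't'
  have hu' : W.u * T.t' * W.u⁻¹ = T.t * T.t' := by rw [hui]; exact W.hut'
  have key : (m⁻¹ * g * m) * T.t' * (m⁻¹ * g * m)⁻¹ = T.t * T.t' := by
    have h1 : T.t * T.t' * T.t⁻¹ = T.t' := by rw [T.hcomm, mul_inv_cancel_right]
    rcases W.hall (m⁻¹ * g * m) (by rw [mul_smul, mul_smul, hma, hgc, ← hmb, inv_smul_smul])
      (by rw [mul_smul, mul_smul, hmb, hgd, ← hma, inv_smul_smul]) (by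
        calc m⁻¹ * g * m * T.t = m⁻¹ * (g * T.t) * m := by rw [mul_assoc _ m, hm]; group
          _ = (m⁻¹ * T.t) * g * m := by rw [hg]; group
          _ = T.t * (m⁻¹ * g * m) := by rw [hm']; group) with e | e | e | e <;> rw [e]
    · exact hu'
    · rw [show W.u * T.t * T.t' * (W.u * T.t)⁻¹ = W.u * (T.t * T.t' * T.t⁻¹) * W.u⁻¹ by group, h1, hu']
    · rw [show W.u * T.t' * T.t' * (W.u * T.t')⁻¹ = W.u * T.t' * W.u⁻¹ by group, hu']
    · rw [show W.u * T.t' * T.t * T.t' * (W.u * T.t' * T.t)⁻¹ =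
        W.u * (T.t' * (T.t * T.t' * T.t⁻¹) * T.t'⁻¹) * W.u⁻¹ by group, h1, mul_inv_cancel_right, hu']
  have htm : m * T.t * m⁻¹ = T.t := by rw [hm, mul_inv_cancel_right]
  have h2 : g * (m * T.t' * m⁻¹) * g⁻¹ = m * (T.t * T.t') * m⁻¹ := by rw [← key]; group
  rcases T.conj_t' hB hm with e | e
  · rw [e] at h2
    rw [h2, show m * (T.t * T.t') * m⁻¹ = (m * T.t * m⁻¹) * (m * T.t' * m⁻¹) by group, htm, e]
  · rw [e, show m * (T.t * T.t') * m⁻¹ = (m * T.t * m⁻¹) * (m * T.t' * m⁻¹) by group, htm, e,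
      ← mul_assoc T.t T.t, T.htt, one_mul,
      show g * (T.t * T.t') * g⁻¹ = (g * T.t * g⁻¹) * (g * T.t' * g⁻¹) by group, hg, mul_inv_cancel_right] at h2
    calc g * T.t' * g⁻¹ = T.t * (T.t * (g * T.t' * g⁻¹)) := by rw [← mul_assoc T.t T.t, T.htt, one_mul]
      _ = T.t * T.t' := by rw [h2]

theorem Tri.flip_ne (T : Tri C) : T.t * T.t' ≠ T.t' := fun h => T.ht1 (mul_eq_right.1 h)

/-- the case of even `f` -/
theorem Sw.f_odd (W : Sw T) (hB : T.Big) : Odd T.f := by
  classical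
  by_contra hodd
  rw [Nat.not_odd_iff_even] at hodd
  have hf2 : T.f ≠ 2 := fun h => by
    have := W.deg
    rw [h] at this
    omega
  haveI := T.fix_nontrivial
  obtain ⟨⟨c, hc⟩, hca, hcb⟩ : ∃ c : FixSet Ω T.t, (c : Ω) ≠ C.a ∧ (c : Ω) ≠ C.b := by
    by_contra! h
    refine hf2 (le_antisymm ?_ T.two_le_f)
    have hsub : (Finset.univ.image (fun x : FixSet Ω T.t => (x : Ω))) ⊆ {C.a, C.b} := fun x hx => by
      obtain ⟨y, -, rfl⟩ := Finset.mem_image.1 hx
      by_cases h' : (y : Ω) = C.a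
      · simp [h']
      · simp [h y h']
    have := (Finset.card_le_card hsub).trans Finset.card_le_two
    rwa [Finset.card_image_of_injective _ Subtype.val_injective, Finset.card_univ, T.card_fixSet] at this
  obtain ⟨m, hm, hma, hmb⟩ := T.witt C.hab (Ne.symm hca) T.ht.1 T.ht.2 T.ht.1 hc
  set u₂ := m * W.u * m⁻¹ with hu₂
  have hu₂t : u₂ * T.t = T.t * u₂ := by
    have hm' : m⁻¹ * T.t = T.t * m⁻¹ := ((show Commute m T.t from hm).inv_left).eq
    calc u₂ * T.t = m * (W.u * T.t) * m⁻¹ := by rw [hu₂, mul_assoc _ m⁻¹, hm']; group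
      _ = (m * T.t) * W.u * m⁻¹ := by rw [W.hut]; group
      _ = T.t * u₂ := by rw [hm, hu₂]; group
  have hu₂a : u₂ • C.a = c := by
    rw [hu₂, mul_smul, mul_smul, show m⁻¹ • C.a = C.a from inv_smul_eq_iff.2 hma.symm, W.hua, hmb]
  have hu₂c : u₂ • c = C.a := by
    rw [hu₂, mul_smul, mul_smul, show m⁻¹ • c = C.b from inv_smul_eq_iff.2 hmb.symm, W.hub, hma]
  have hu₂u₂ : u₂ * u₂ = 1 := by
    rw [hu₂, show m * W.u * m⁻¹ * (m * W.u * m⁻¹) = m * (W.u * W.u) * m⁻¹ by group, W.huu]; group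
  obtain ⟨R⟩ := exists_translations T.ind_two (T.sharpModKer hB)
  have hev : Even (Fintype.card (FixSet Ω T.t)) := T.card_fixSet.symm ▸ hodd
  have invo : ∀ {g : G} (hg : g * T.t = T.t * g), g * g = 1 → ∀ x : FixSet Ω T.t, T.res hg • T.res hg • x = x :=
    fun {g} hg hgg x => Subtype.ext (by
      rw [T.res_apply hg, T.res_apply hg, ← mul_smul, hgg, one_smul])
  have hcom := R.comm _ (R.invol_mem (T.sharpModKer hB) hev (invo W.hut W.huu)) _
    (R.invol_mem (T.sharpModKer hB) hev (invo hu₂t hu₂u₂)) ⟨C.b, T.ht.2⟩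
  have hcom' : W.u • u₂ • C.b = u₂ • W.u • C.b := congrArg Subtype.val hcom
  have hg : W.u * u₂ * T.t = T.t * (W.u * u₂) := by
    rw [mul_assoc, hu₂t, ← mul_assoc, W.hut, mul_assoc]
  have h1 := W.flip hB hg (c := c) (d := C.b) hcb hc T.ht.2
    (by rw [mul_smul, hu₂c, W.hua]) (by rw [mul_smul, hcom', W.hub, hu₂a])
  have hf1 := W.flip hB W.hut C.hab T.ht.1 T.ht.2 W.hua W.hub
  have hf2' := W.flip hB hu₂t (Ne.symm hca) T.ht.1 hc hu₂a hu₂c
  rw [show W.u * u₂ * T.t' * (W.u * u₂)⁻¹ = W.u * (u₂ * T.t' * u₂⁻¹) * W.u⁻¹ by group, hf2',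
    show W.u * (T.t * T.t') * W.u⁻¹ = (W.u * T.t * W.u⁻¹) * (W.u * T.t' * W.u⁻¹) by group, hf1, W.hut,
    mul_inv_cancel_right, ← mul_assoc, T.htt, one_mul] at h1
  exact T.flip_ne h1.symm

/-- the centraliser of the four-group -/
abbrev Tri.H (T : Tri C) : Subgroup G := Subgroup.centralizer {T.t} ⊓ Subgroup.centralizer {T.t'}

theorem Tri.mem_H {T : Tri C} {g : G} : g ∈ T.H ↔ g * T.t = T.t * g ∧ g * T.t' * g⁻¹ = T.t' := by
  simp [Tri.H, Subgroup.mem_centralizer_singleton_iff, mul_inv_eq_iff_eq_mul]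

theorem Sw.big_seven (W : Sw T) (hB : T.Big) {Φ : C.B →* Equiv.Perm (Fin 5)} (hΦ : C.IsSym Φ) :
    Fintype.card Ω = 7 ∧ Nat.card G = 2520 := by
  classical
  haveI : Fact (Nat.Prime 2) := ⟨Nat.prime_two⟩
  haveI := T.fix_nontrivial
  have hfodd := W.f_odd hB
  have hti : T.t⁻¹ = T.t := inv_eq_of_mul_eq_one_right T.htt
  have hoddF : Odd (Fintype.card (FixSet Ω T.t)) := T.card_fixSet.symm ▸ hfodd
  have hflipu := W.flip hB W.hut C.hab T.ht.1 T.ht.2 W.hua W.hub
  obtain ⟨o, ho, -⟩ := (fix_card_invol (T.sharpModKer hB) (g := T.res W.hut)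
    (fun x => Subtype.ext (by rw [T.res_apply W.hut, T.res_apply W.hut, ← mul_smul, W.huu, one_smul]))
    ⟨⟨C.a, T.ht.1⟩, fun h => C.hab ((congrArg Subtype.val h).symm.trans (show W.u • C.a = C.b from W.hua))⟩).1 hoddF
  have huo : W.u • (o : Ω) = o := (T.res_apply W.hut o).symm.trans (congrArg Subtype.val ho)
  -- flipping elements fixing a given point
  have hflipper : ∀ c : Ω, T.t • c = c → ∃ v : G, v * T.t = T.t * v ∧ v * v = 1 ∧ v • c = c ∧
      v * T.t' * v⁻¹ = T.t * T.t' ∧ ∃ x : Ω, T.t • x = x ∧ v • x ≠ x := by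
    intro c hc
    obtain ⟨d, hd⟩ := exists_ne (⟨c, hc⟩ : FixSet Ω T.t)
    obtain ⟨o', ho'⟩ := exists_ne o
    obtain ⟨m, hm, hmo, -⟩ := T.witt (c := (o : Ω)) (d := (o' : Ω)) (c' := c) (d' := (d : Ω))
      (fun h => ho' (Subtype.ext h.symm)) (fun h => hd (Subtype.ext h.symm)) o.2 o'.2 hc d.2
    have hm' : m⁻¹ * T.t = T.t * m⁻¹ := ((show Commute m T.t from hm).inv_left).eq
    have hvt : m * W.u * m⁻¹ * T.t = T.t * (m * W.u * m⁻¹) := by
      calc m * W.u * m⁻¹ * T.t = m * (W.u * T.t) * m⁻¹ := by rw [mul_assoc _ m⁻¹, hm']; group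
        _ = (m * T.t) * W.u * m⁻¹ := by rw [W.hut]; group
        _ = T.t * (m * W.u * m⁻¹) := by rw [hm]; group
    have hta : T.t • (m • C.a) = m • C.a := by rw [← mul_smul, ← hm, mul_smul, T.ht.1]
    have htb : T.t • (m • C.b) = m • C.b := by rw [← mul_smul, ← hm, mul_smul, T.ht.2]
    have h1 : (m * W.u * m⁻¹) • m • C.a = m • C.b := by rw [mul_smul, inv_smul_smul, mul_smul, W.hua]
    have h2 : (m * W.u * m⁻¹) • m • C.b = m • C.a := by rw [mul_smul, inv_smul_smul, mul_smul, W.hub]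
    refine ⟨m * W.u * m⁻¹, hvt, ?_, ?_, W.flip hB hvt (fun h => C.hab (MulAction.injective m h)) hta htb h1 h2,
      m • C.a, hta, ?_⟩
    · rw [show m * W.u * m⁻¹ * (m * W.u * m⁻¹) = m * (W.u * W.u) * m⁻¹ by group, W.huu]; group
    · rw [← hmo, mul_smul, inv_smul_smul, mul_smul, huo]
    · rw [h1]; exact fun h => C.hab (MulAction.injective m h).symm
  have hVfix : ∀ g : G, g = 1 ∨ g = T.t ∨ g = T.t' ∨ g = T.t * T.t' → ∀ x : Ω, T.t • x = x → g • x = x := by
    rintro g (rfl | rfl | rfl | rfl) x hx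
    · exact one_smul _ _
    · exact hx
    · exact hB x hx
    · rw [mul_smul, hB x hx, hx]
  have hVH : ∀ g : G, g = 1 ∨ g = T.t ∨ g = T.t' ∨ g = T.t * T.t' → g ∈ T.H := by
    have h1 : T.t ∈ T.H := Tri.mem_H.2 ⟨rfl, by rw [T.hcomm, mul_inv_cancel_right]⟩
    have h2 : T.t' ∈ T.H := Tri.mem_H.2 ⟨T.hcomm.symm, by group⟩
    rintro g (rfl | rfl | rfl | rfl)
    exacts [one_mem _, h1, h2, mul_mem h1 h2]
  -- two-elements of `H` lie in the four-group
  have htwo : ∀ (i : ℕ) (h : G), h ∈ T.H → h ^ 2 ^ i = 1 → h = 1 ∨ h = T.t ∨ h = T.t' ∨ h = T.t * T.t' := by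
    intro i
    induction i with
    | zero =>
      intro h _ hh
      left; rwa [pow_zero, pow_one] at hh
    | succ i ih =>
      intro h hh hpow
      have hsq := ih (h * h) (mul_mem hh hh) (by rwa [← pow_two, ← pow_mul, ← pow_succ'])
      have hht := (Tri.mem_H.1 hh).1
      have hinv : ∀ x : FixSet Ω T.t, T.res hht • T.res hht • x = x := fun x => Subtype.ext (by
        rw [T.res_apply hht, T.res_apply hht, ← mul_smul, hVfix _ hsq x x.2])
      by_cases htriv : ∀ x : FixSet Ω T.t, T.res hht • x = x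
      · exact T.hcent h ⟨(T.res_apply hht _).symm.trans (congrArg Subtype.val (htriv ⟨C.a, T.ht.1⟩)),
          (T.res_apply hht _).symm.trans (congrArg Subtype.val (htriv ⟨C.b, T.ht.2⟩))⟩ hht
      · push Not at htriv
        exfalso
        obtain ⟨x, hx, -⟩ := (fix_card_invol (T.sharpModKer hB) hinv htriv).1 hoddF
        obtain ⟨v, hvt, hvv, hvx, hvflip, y, hy, hvy⟩ := hflipper x x.2
        obtain ⟨R⟩ := exists_translations T.ind_two (T.sharpModKer hB)
        have heq := R.invol_eq (T.sharpModKer hB) (g := T.res hht) (h := T.res hvt) (a := x) hinv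
          (fun z => Subtype.ext (by rw [T.res_apply hvt, T.res_apply hvt, ← mul_smul, hvv, one_smul])) htriv
          ⟨⟨y, hy⟩, fun e => hvy ((T.res_apply hvt ⟨y, hy⟩).symm.trans (congrArg Subtype.val e))⟩ hx
          (Subtype.ext ((T.res_apply hvt x).trans hvx))
        have hfix : ∀ z : Ω, T.t • z = z → (v⁻¹ * h) • z = z := fun z hz => by
          have e : h • z = v • z := by
            simpa [T.res_apply] using congrArg Subtype.val (heq ⟨z, hz⟩)
          rw [mul_smul, e, inv_smul_smul]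
        have hw := hVH _ (T.hcent (v⁻¹ * h) ⟨hfix C.a T.ht.1, hfix C.b T.ht.2⟩ (by
          rw [mul_assoc, hht, ← mul_assoc, ((show Commute v T.t from hvt).inv_left).eq, mul_assoc]))
        have hv : v ∈ T.H := by
          have := mul_mem hh (inv_mem hw)
          rwa [show h * (v⁻¹ * h)⁻¹ = v by group] at this
        exact T.flip_ne (hvflip.symm.trans (Tri.mem_H.1 hv).2)
  have hH8 : ¬ 2 ^ 3 ∣ Nat.card T.H := by
    intro h8
    obtain ⟨P⟩ : Nonempty (Sylow 2 T.H) := inferInstance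
    have h1 : 2 ^ 3 ≤ Nat.card (P : Subgroup T.H) := by
      rw [P.card_eq_multiplicity]
      exact Nat.pow_le_pow_right two_pos ((Nat.prime_two.pow_dvd_iff_le_factorization Nat.card_pos.ne').1 h8)
    have hsub : (fun z : T.H => (z : G)) '' ((P : Subgroup T.H) : Set T.H) ⊆
        ({1, T.t, T.t', T.t * T.t'} : Set G) := by
      rintro _ ⟨⟨h, hh⟩, hP, rfl⟩
      obtain ⟨i, hi⟩ := P.2 ⟨⟨h, hh⟩, hP⟩
      rcases htwo i h hh (by
        have := congrArg (fun z : (P : Subgroup T.H) => ((z : T.H) : G)) hi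
        simpa using this) with e | e | e | e <;> simp [e]
    have h2 := Set.ncard_le_ncard hsub (Set.toFinite _)
    rw [Set.ncard_image_of_injective _ Subtype.val_injective, ← Nat.card_coe_set_eq] at h2
    have h3 : ({1, T.t, T.t', T.t * T.t'} : Set G).ncard ≤ 4 := by
      refine (Set.ncard_insert_le _ _).trans (Nat.succ_le_succ ?_)
      refine (Set.ncard_insert_le _ _).trans (Nat.succ_le_succ ?_)
      exact (Set.ncard_insert_le _ _).trans (Nat.succ_le_succ (Set.ncard_singleton _).le)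
    rw [SetLike.coe_sort_coe] at h2
    omega
  -- index two in the centraliser of `t`
  have hCt : Nat.card ↥(Subgroup.centralizer ({T.t} : Set G)) = 2 * Nat.card T.H := by
    have hle : T.H ≤ Subgroup.centralizer {T.t} := inf_le_left
    have h := (T.H.subgroupOf (Subgroup.centralizer {T.t})).card_mul_index
    rw [Nat.card_congr (Subgroup.subgroupOfEquivOfLe hle).toEquiv] at h
    have hidx : (T.H.subgroupOf (Subgroup.centralizer {T.t})).index = 2 := by
      refine Subgroup.index_eq_two_iff.2 ⟨⟨W.u, Subgroup.mem_centralizer_singleton_iff.2 W.hut⟩, fun y => ?_⟩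
      have hyt : (y : G) * T.t = T.t * y := Subgroup.mem_centralizer_singleton_iff.1 y.2
      simp only [Subgroup.mem_subgroupOf, Subgroup.coe_mul]
      rcases T.conj_t' hB hyt with e | e
      · refine Or.inr ⟨Tri.mem_H.2 ⟨hyt, e⟩, fun h' => T.flip_ne ?_⟩
        have hu : W.u ∈ T.H := by
          have := mul_mem (inv_mem (Tri.mem_H.2 ⟨hyt, e⟩)) h'
          rwa [inv_mul_cancel_left] at this
        exact hflipu.symm.trans (Tri.mem_H.1 hu).2
      · refine Or.inl ⟨Tri.mem_H.2 ⟨?_, ?_⟩, fun h' => T.flip_ne (e.symm.trans (Tri.mem_H.1 h').2)⟩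
        · rw [mul_assoc, W.hut, ← mul_assoc, hyt, mul_assoc]
        · rw [show (y : G) * W.u * T.t' * ((y : G) * W.u)⁻¹ = y * (W.u * T.t' * W.u⁻¹) * (y : G)⁻¹ by group, hflipu,
            show (y : G) * (T.t * T.t') * (y : G)⁻¹ = (y * T.t * (y : G)⁻¹) * (y * T.t' * (y : G)⁻¹) by group, e,
            hyt, mul_inv_cancel_right, ← mul_assoc, T.htt, one_mul]
    rw [hidx] at h
    rw [← h, mul_comm]
  rw [T.card_cent] at hCt
  -- the two-part of the order
  set n := Fintype.card Ω with hn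
  have hdeg := W.deg
  have hflt := T.f_lt
  obtain ⟨q, hq⟩ : ∃ q, T.f = 4 * q + 3 := by
    obtain ⟨k, hk⟩ := hfodd
    rcases Nat.even_or_odd k with ⟨l, hl⟩ | ⟨l, hl⟩
    · refine absurd ?_ hH8
      refine ⟨T.f * l, Nat.eq_of_mul_eq_mul_left two_pos ?_⟩
      rw [← hCt, show T.f - 1 = 4 * l by omega]; ring
    · exact ⟨l, by omega⟩
  obtain ⟨p, hp⟩ : ∃ p, n = 4 * p + 3 := by
    refine ⟨n / 4, ?_⟩
    rw [← hn, hq, show 4 * q + 3 - 1 = 4 * q + 2 by omega] at hdeg
    rw [hq] at hflt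
    ring_nf at hdeg
    omega
  have hG : Nat.card G = 2 ^ 3 * (15 * (4 * p + 3) * (2 * p + 1)) := by
    rw [C.card_G, ← hn, hp, show 4 * p + 3 - 1 = 2 * (2 * p + 1) by omega]; ring
  have hodd15 : ¬ 2 ∣ 15 * (4 * p + 3) * (2 * p + 1) := by
    intro h
    rcases (Nat.Prime.dvd_mul Nat.prime_two).1 h with h | h <;> omega
  have hfac : (Nat.card G).factorization 2 = 3 := by
    rw [hG, Nat.factorization_mul (by norm_num) (by positivity), Finsupp.add_apply,
      Nat.prime_two.factorization_pow, Finsupp.single_eq_same, Nat.factorization_eq_zero_of_not_dvd hodd15]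
  -- the Sylow subgroup
  let e5 := MulEquiv.ofBijective Φ hΦ.1
  let ρ₀ : DihedralGroup 4 →* Equiv.Perm (Fin 5) := MonoidHom.mk' d8Fun d8Fun_mul
  let ρ : DihedralGroup 4 →* G := C.B.subtype.comp (e5.symm.toMonoidHom.comp ρ₀)
  have hρ : Function.Injective ρ := by
    rw [injective_iff_map_eq_one]
    intro x hx
    have h : e5.symm (ρ₀ x) = 1 := Subtype.ext hx
    exact d8Fun_eq_one x ((e5.apply_symm_apply (ρ₀ x)).symm.trans ((congrArg e5 h).trans (map_one e5)))
  have hR : Nat.card ρ.range = 2 ^ (Nat.card G).factorization 2 := by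
    rw [hfac, ← Nat.card_congr (MonoidHom.ofInjective hρ).toEquiv, DihedralGroup.nat_card]
    norm_num
  obtain ⟨x₀, y₀, hxy⟩ := dihedral_not_comm
  obtain ⟨M, hMn, hSM, hinv, hcent, hcom, hshape⟩ := GWFacts.dihedral_socle C.oddCore_eq_bot
    (Sylow.ofCard ρ.range hR) (m := 4) (by norm_num)
    ((MulEquiv.subgroupCongr (Sylow.coe_ofCard _ _)).trans (MonoidHom.ofInjective hρ).symm)
    ⟨ρ x₀, by rw [Sylow.coe_ofCard]; exact ⟨x₀, rfl⟩, ρ y₀, by rw [Sylow.coe_ofCard]; exact ⟨y₀, rfl⟩,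
      fun h => hxy (hρ (by rw [map_mul, map_mul, h]))⟩
    fun y z hy hz => by
      obtain ⟨g, hg⟩ := W.conj_u (by rw [← pow_two, ← hy, pow_orderOf_eq_one])
        (fun e => by rw [e, orderOf_one] at hy; omega)
      obtain ⟨g', hg'⟩ := W.conj_u (by rw [← pow_two, ← hz, pow_orderOf_eq_one])
        (fun e => by rw [e, orderOf_one] at hz; omega)
      exact ⟨g' * g⁻¹, by rw [← hg, ← hg']; group⟩
  haveI := hMn
  have hseven : Nat.card G = 2520 → Fintype.card Ω = 7 := fun h => by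
    rw [C.card_G, ← hn, hp, show 4 * p + 3 - 1 = 2 * (2 * p + 1) by omega] at h
    have : p = 1 := by
      rcases Nat.lt_or_ge p 2 with h' | h'
      · interval_cases p <;> omega
      · nlinarith
    rw [← hn, hp, this]
  rcases hshape with ⟨F, _, _, hFodd, hF3, ⟨ε⟩⟩ | ⟨⟨eA⟩⟩
  · have h2F : (2 : F) ≠ 0 := GW.ComponentPSL.two_ne_zero_of_odd hFodd
    have hot : orderOf T.t = 2 := orderOf_eq_prime (by rw [pow_two, T.htt]) T.ht1
    have hot' : orderOf T.t' = 2 := orderOf_eq_prime (by rw [pow_two, T.ht't']) T.ht'1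
    have hV : ∀ h ∈ T.H, h ∈ M → h = 1 ∨ h = T.t ∨ h = T.t' ∨ h = T.t * T.t' := by
      intro h hh hM
      obtain ⟨hh1, hh2⟩ := Tri.mem_H.1 hh
      let hm : M := ⟨h, hM⟩
      let tm : M := ⟨T.t, hinv _ hot⟩
      let tm' : M := ⟨T.t', hinv _ hot'⟩
      rcases PSLBinary.mem_four h2F (x := ε tm) (a := ε tm') (g := ε hm)
        (by rw [ε.orderOf_eq, Subgroup.orderOf_mk, hot]) (by rw [ε.orderOf_eq, Subgroup.orderOf_mk, hot'])
        (fun e => T.hne (congrArg Subtype.val (ε.injective e)).symm)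
        ((show Commute tm tm' from Subtype.ext T.hcomm).map ε)
        ((show Commute hm tm from Subtype.ext hh1).map ε)
        ((show Commute hm tm' from Subtype.ext (mul_inv_eq_iff_eq_mul.1 hh2)).map ε) with e | e | e | e
      · exact Or.inl (congrArg Subtype.val (ε.injective (e.trans (map_one ε).symm)))
      · exact Or.inr (Or.inl (congrArg Subtype.val (ε.injective e)))
      · exact Or.inr (Or.inr (Or.inl (congrArg Subtype.val (ε.injective e))))
      · exact Or.inr (Or.inr (Or.inr (congrArg Subtype.val (ε.injective (e.trans (map_mul ε tm tm').symm)))))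
    have hinvar : ∀ g ∈ T.H, ∀ x : Ω, T.t • x = x → T.t • g • x = g • x := fun g hg x hx => by
      rw [← mul_smul, ← (Tri.mem_H.1 hg).1, mul_smul, hx]
    -- the stabiliser of `a` in `H`
    have htrans : ∀ c : Ω, T.t • c = c → ∃ h ∈ T.H, h • C.a = c := by
      intro c hc
      obtain ⟨d, hd⟩ := exists_ne (⟨c, hc⟩ : FixSet Ω T.t)
      obtain ⟨g, hg, hga, -⟩ := T.witt C.hab (c' := c) (d' := (d : Ω)) (fun h => hd (Subtype.ext h.symm))
        T.ht.1 T.ht.2 hc d.2
      rcases T.conj_t' hB hg with e | e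
      · exact ⟨g, Tri.mem_H.2 ⟨hg, e⟩, hga⟩
      · obtain ⟨v, hvt, -, hva, hv, -⟩ := hflipper C.a T.ht.1
        refine ⟨g * v, Tri.mem_H.2 ⟨by rw [mul_assoc, hvt, ← mul_assoc, hg, mul_assoc], ?_⟩,
          by rw [mul_smul, hva, hga]⟩
        rw [show g * v * T.t' * (g * v)⁻¹ = g * (v * T.t' * v⁻¹) * g⁻¹ by group, hv,
          show g * (T.t * T.t') * g⁻¹ = (g * T.t * g⁻¹) * (g * T.t' * g⁻¹) by group, e, hg, mul_inv_cancel_right,
          ← mul_assoc, T.htt, one_mul]
    have hstab : ∀ h ∈ T.H, h • C.a = C.a → h = 1 ∨ h = T.t ∨ h = T.t' ∨ h = T.t * T.t' := by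
      intro h hh hha
      refine T.hcent h ⟨hha, ?_⟩ (Tri.mem_H.1 hh).1
      obtain ⟨k, hk, hka⟩ := htrans C.b T.ht.2
      have hc := hV _ (mul_mem (mul_mem (mul_mem hh hk) (inv_mem hh)) (inv_mem hk)) (hcom h k)
      show h • C.b = C.b
      calc h • C.b = (h * k * h⁻¹ * k⁻¹) • k • h • C.a := by
            rw [← hka, ← mul_smul, ← mul_smul, ← mul_smul]; congr 1; group
        _ = C.b := by rw [hha, hka, hVfix _ hc C.b T.ht.2]
    have hcardH : Nat.card T.H = 4 * T.f := by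
      have h1 := Nat.card_congr (orbitProdStabilizerEquivGroup T.H C.a)
      have horb : orbit T.H C.a = {x : Ω | T.t • x = x} := by
        ext x
        refine ⟨?_, fun hx => ?_⟩
        · rintro ⟨g, rfl⟩
          exact hinvar g g.2 C.a T.ht.1
        · obtain ⟨h, hh, e⟩ := htrans x hx
          exact ⟨⟨h, hh⟩, e⟩
      have hst : Nat.card (stabilizer T.H C.a) = 4 := by
        have himg : (fun z : T.H => (z : G)) '' (stabilizer T.H C.a : Set T.H) = {1, T.t, T.t', T.t * T.t'} := by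
          ext g
          constructor
          · rintro ⟨⟨h, hh⟩, hs, rfl⟩
            simpa using hstab h hh hs
          · intro hg
            simp only [Set.mem_insert_iff, Set.mem_singleton_iff] at hg
            exact ⟨⟨g, hVH g hg⟩, hVfix g hg C.a T.ht.1, rfl⟩
        have h4 := congrArg Set.ncard himg
        rw [Set.ncard_image_of_injective _ Subtype.val_injective, ← Nat.card_coe_set_eq, SetLike.coe_sort_coe] at h4
        rw [h4, Set.ncard_insert_of_notMem, Set.ncard_insert_of_notMem, Set.ncard_pair]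
        · exact T.flip_ne.symm
        · simp only [Set.mem_insert_iff, Set.mem_singleton_iff, not_or]
          exact ⟨T.hne.symm, fun h => T.ht'1 (mul_eq_left.1 h.symm)⟩
        · simp only [Set.mem_insert_iff, Set.mem_singleton_iff, not_or]
          exact ⟨T.ht1.symm, T.ht'1.symm, T.tt'_invol.2.symm⟩
      rw [Nat.card_prod, horb, hst] at h1
      rw [← h1, mul_comm]
      rfl
    rw [hcardH] at hCt
    have hf3 : T.f = 3 := by
      have h2 := T.two_le_f
      have : T.f * (T.f - 1) = T.f * 2 := by omega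
      have := Nat.eq_of_mul_eq_mul_left (by omega) this
      omega
    have h7 : Fintype.card Ω = 7 := by
      rw [hf3] at hdeg hflt
      omega
    exact ⟨h7, by rw [C.card_G, h7]⟩
  · have hGdvd : Nat.card G ∣ 5040 := by
      let ψ : G →* MulAut (alternatingGroup (Fin 7)) := (MulAut.congr eA).toMonoidHom.comp MulAut.conjNormal
      have hψ : Function.Injective ψ := by
        rw [injective_iff_map_eq_one]
        intro x hx
        rw [← Subgroup.mem_bot, ← hcent]
        refine Subgroup.mem_centralizer_iff.2 fun m hm => ?_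
        have h1 : MulAut.conjNormal (H := M) x = 1 := (MulAut.congr eA).injective (hx.trans (map_one _).symm)
        have h2 : x * m * x⁻¹ = m := by
          simpa using congrArg (fun f : MulAut M => (f ⟨m, hm⟩ : G)) h1
        exact (mul_inv_eq_iff_eq_mul.1 h2).symm
      have h := Subgroup.card_dvd_of_injective ψ hψ
      rwa [← Nat.card_congr (MulEquiv.ofBijective _ (S2119.result 7 (by norm_num) (by norm_num))).toEquiv,
        Nat.card_perm, Nat.card_eq_fintype_card (α := Fin 7), Fintype.card_fin,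
        show Nat.factorial 7 = 5040 from rfl] at h
    have hMdvd : 2520 ∣ Nat.card G := by
      have hM7 : Nat.card M = 2520 := by
        rw [Nat.card_congr eA.toEquiv, nat_card_alternatingGroup]
        simp [Nat.card_eq_fintype_card, Nat.factorial]
      exact hM7 ▸ M.card_subgroup_dvd_card
    have h : Nat.card G = 2520 := by
      have h16 : ¬ 16 ∣ Nat.card G := by rw [hG]; omega
      obtain ⟨c, hc⟩ := hMdvd
      have : c ∣ 2 := Nat.dvd_of_mul_dvd_mul_left (show 0 < 2520 by norm_num) (hc ▸ hGdvd)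
      rcases (Nat.dvd_prime Nat.prime_two).1 this with rfl | rfl
      · rw [hc]
      · exact absurd ⟨315, by rw [hc]⟩ h16
    exact ⟨hseven h, h⟩

/-- the alternating group of degree seven -/
theorem Sw.big_alt (W : Sw T) (hB : T.Big) {Φ : C.B →* Equiv.Perm (Fin 5)} (hΦ : C.IsSym Φ) :
    Fintype.card Ω = 7 ∧ Nonempty (G ≃* alternatingGroup (Fin 7)) := by
  classical
  obtain ⟨h7, hG⟩ := W.big_seven hB hΦ
  refine ⟨h7, ?_⟩
  let φ : G →* Equiv.Perm (Fin 7) :=
    (Fintype.equivFinOfCardEq h7).permCongrHom.toMonoidHom.comp (toPermHom G Ω)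
  have hinj : Function.Injective φ := fun g g' h => eq_of_smul_eq_smul (α := Ω) fun x => by
    have h1 : toPermHom G Ω g = toPermHom G Ω g' := (Fintype.equivFinOfCardEq h7).permCongrHom.injective h
    simpa using congrArg (fun σ : Equiv.Perm Ω => σ x) h1
  have hidx : φ.range.index = 2 := by
    have h := φ.range.card_mul_index
    rw [← Nat.card_congr (MonoidHom.ofInjective hinj).toEquiv, hG, Nat.card_perm, Nat.card_eq_fintype_card (α := Fin 7),
      Fintype.card_fin, show Nat.factorial 7 = 5040 from rfl] at h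
    omega
  exact ⟨(MonoidHom.ofInjective hinj).trans (MulEquiv.subgroupCongr (Equiv.Perm.eq_alternatingGroup_of_index_eq_two hidx))⟩

end Cfsg.Agent.TwoPointA5
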