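import Mathlib
import Cfsg.Agent.Lib.TwoPointA5.Sym
import Cfsg.Agent.Lib.SuzukiElementary.Eleven

/-!
# The symmetric case with two-point stabilisers of order two on the fixed points
-/

set_option autoImplicit false
set_option linter.unusedSectionVars false
set_option linter.unusedVariables false
set_option linter.style.haveILetI false
set_option synthInstance.maxSize 2000

namespace Cfsg.Agent.TwoPointA5

open MulAction

variable {G Ω : Type*} [Group G] [Finite G] [Fintype Ω] [MulAction G Ω] [FaithfulSMul G Ω] {C : Cfg G Ω} {T : Tri C}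

theorem Tri.fix_smul (T : Tri C) {g : G} (hg : g * T.t = T.t * g) {x : Ω} (hx : T.t • x = x) :
    T.t • g • x = g • x := by
  rw [← mul_smul, ← hg, mul_smul, hx]

theorem Tri.res_eq (T : Tri C) {g h : G} (hg : g * T.t = T.t * g) (hh : h * T.t = T.t * h)
    (he : ∀ x : Ω, T.t • x = x → g • x = h • x) : T.res hg = T.res hh :=
  Subtype.ext (Equiv.ext fun x => Subtype.ext (he x x.2))

theorem Tri.res_mul (T : Tri C) {g h : G} (hg : g * T.t = T.t * g) (hh : h * T.t = T.t * h)
    (hgh : g * h * T.t = T.t * (g * h)) : T.res hgh = T.res hg * T.res hh :=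
  Subtype.ext (Equiv.ext fun x => Subtype.ext (mul_smul g h (x : Ω)))

theorem Tri.res_surjective (T : Tri C) (x : Ind Ω T.t) : ∃ (g : G) (hg : g * T.t = T.t * g), T.res hg = x := by
  obtain ⟨_, k, rfl⟩ := x
  exact ⟨k, Subgroup.mem_centralizer_singleton_iff.1 k.2, rfl⟩

theorem Tri.comm_mul (T : Tri C) {g h : G} (hg : g * T.t = T.t * g) (hh : h * T.t = T.t * h) :
    g * h * T.t = T.t * (g * h) := by rw [mul_assoc, hh, ← mul_assoc, hg, mul_assoc]

theorem Tri.comm_inv (T : Tri C) {g : G} (hg : g * T.t = T.t * g) : g⁻¹ * T.t = T.t * g⁻¹ :=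
  ((show Commute g T.t from hg).inv_left).eq

/-- the kernel on the fixed points -/
theorem Tri.kernel (T : Tri C) (hB : ¬ T.Big) {g : G} (hg : g * T.t = T.t * g)
    (hfix : ∀ x : Ω, T.t • x = x → g • x = x) : g = 1 ∨ g = T.t := by
  rcases T.hcent g ⟨hfix C.a T.ht.1, hfix C.b T.ht.2⟩ hg with e | e | e | e
  · exact Or.inl e
  · exact Or.inr e
  · exact absurd (fun x hx => by have := hfix x hx; rwa [e] at this) hB
  · refine absurd (fun x hx => ?_) hB
    have := hfix x hx
    rwa [e, T.hcomm, mul_smul, hx] at this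

theorem Tri.eq_of_res (T : Tri C) (hB : ¬ T.Big) {g h : G} (hg : g * T.t = T.t * g) (hh : h * T.t = T.t * h)
    (he : T.res hg = T.res hh) : g = h ∨ g = h * T.t := by
  rcases T.kernel hB (T.comm_mul (T.comm_inv hh) hg) fun x hx => by
      rw [mul_smul, show g • x = h • x from congrArg (fun w : Ind Ω T.t => ((w • (⟨x, hx⟩ : FixSet Ω T.t) :
        FixSet Ω T.t) : Ω)) he, inv_smul_smul] with e | e
  · exact Or.inl (inv_mul_eq_one.1 e).symm
  · exact Or.inr (by rw [← e, mul_inv_cancel_left])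

variable (W : Sw T)
include W

theorem Sw.j_comm : W.u * T.t' * T.t = T.t * (W.u * T.t') := T.comm_mul W.hut T.hcomm.symm

variable [Fintype (FixSet Ω T.t)]

/-- the image of `u` is conjugate to `s`, that of `u t'` is not -/
theorem Sw.res_cls (hB : ¬ T.Big) :
    T.res W.hut ∈ (T.twoTwo hB).cls ∧ T.res W.j_comm ∉ (T.twoTwo hB).cls := by
  constructor
  · obtain ⟨x, hx, hx'⟩ : ∃ x : Ω, T.t • x = x ∧ T.t' • x ≠ x := by
      simpa [Tri.Big, not_forall] using hB
    have hy : T.t • T.t' • x = T.t' • x := T.fix_smul T.hcomm.symm hx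
    obtain ⟨m, hm, hma, hmb⟩ := T.witt C.hab (Ne.symm hx') T.ht.1 T.ht.2 hx hy
    have hwa : (m⁻¹ * T.t' * m) • C.a = C.b := by rw [mul_smul, mul_smul, hma, ← hmb, inv_smul_smul]
    have hwb : (m⁻¹ * T.t' * m) • C.b = C.a := by
      rw [mul_smul, mul_smul, hmb, ← mul_smul T.t', T.ht't', one_smul, ← hma, inv_smul_smul]
    have hwt : m⁻¹ * T.t' * m * T.t = T.t * (m⁻¹ * T.t' * m) :=
      T.comm_mul (T.comm_mul (T.comm_inv hm) T.hcomm.symm) hm
    have hsq : (m⁻¹ * T.t' * m) * (m⁻¹ * T.t' * m) = 1 := by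
      rw [show m⁻¹ * T.t' * m * (m⁻¹ * T.t' * m) = m⁻¹ * (T.t' * T.t') * m by group, T.ht't']; group
    have hres : T.res hwt = (T.res hm)⁻¹ * T.sBar * T.res hm := Subtype.ext (Equiv.ext fun z => Subtype.ext (by
      show (m⁻¹ * T.t' * m) • (z : Ω) = m⁻¹ • T.t' • m • (z : Ω)
      rw [mul_smul, mul_smul]))
    refine (T.twoTwo hB).mem_cls.2 ⟨(T.res hm)⁻¹, ?_⟩
    rw [inv_inv, show (T.twoTwo hB).s = T.sBar from rfl, ← hres]
    rcases W.hall _ hwa hwb hwt with e | e | e | e
    · exact T.res_eq _ _ fun z _ => by rw [e]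
    · exact T.res_eq _ _ fun z hz => by rw [e, mul_smul, hz]
    · refine absurd ?_ T.ht1
      rw [← W.hsq, ← e, hsq]
    · refine absurd ?_ T.ht1
      rw [← hsq, e, mul_assoc (W.u * T.t'), ← mul_assoc T.t (W.u * T.t'), ← W.j_comm, mul_assoc (W.u * T.t') T.t,
        T.htt, mul_one, W.hsq]
  · intro hc
    obtain ⟨h, hh⟩ := (T.twoTwo hB).mem_cls.1 hc
    obtain ⟨H, hH, rfl⟩ := T.res_surjective h
    have hc' : H * T.t' * H⁻¹ * T.t = T.t * (H * T.t' * H⁻¹) :=
      T.comm_mul (T.comm_mul hH T.hcomm.symm) (T.comm_inv hH)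
    have hr : T.res W.j_comm = T.res hc' := by
      rw [hh]
      exact Subtype.ext (Equiv.ext fun z => Subtype.ext (by
        show H • T.t' • H⁻¹ • (z : Ω) = (H * T.t' * H⁻¹) • (z : Ω)
        rw [mul_smul, mul_smul]))
    have hsq : H * T.t' * H⁻¹ * (H * T.t' * H⁻¹) = 1 := by
      rw [show H * T.t' * H⁻¹ * (H * T.t' * H⁻¹) = H * (T.t' * T.t') * H⁻¹ by group, T.ht't']; group
    refine T.ht1 (W.hsq.symm.trans ?_)
    rcases T.eq_of_res hB W.j_comm hc' hr with e | e <;> rw [e]
    · exact hsq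
    · rw [mul_assoc, ← mul_assoc T.t, ← hc', mul_assoc _ T.t T.t, T.htt, mul_one, hsq]

theorem Sw.k_one (hB : ¬ T.Big) : (T.twoTwo hB).k = 1 := by
  set D := T.twoTwo hB with hD
  by_contra h
  have hk : D.k = 2 := by have := D.k_bounds; omega
  have hjj : T.res W.j_comm * T.res W.j_comm = 1 := Subtype.ext (Equiv.ext fun z => Subtype.ext (by
    show (W.u * T.t') • (W.u * T.t') • (z : Ω) = _
    rw [← mul_smul, W.hsq, z.2]; rfl))
  have hj1 : T.res W.j_comm ≠ 1 := fun e => C.hab (by
    have h1 : (W.u * T.t') • C.a = C.a := by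
      rw [← T.res_apply W.j_comm ⟨C.a, T.ht.1⟩, e, one_smul]
    exact h1.symm.trans (by rw [mul_smul, T.ht'.1, W.hua]))
  exact (W.res_cls hB).2 (D.mem_cls.2 (D.all_conj_of_k_two hk hjj hj1))

/-- the elements inducing involutions outside the class have order four -/
theorem Sw.jays_lift (hB : ¬ T.Big) {g : G} (hg : g * T.t = T.t * g)
    (hj : T.res hg ∈ (T.twoTwo hB).jays) : g * g = T.t := by
  obtain ⟨hsq, hne, hnc⟩ := (T.twoTwo hB).mem_jays.1 hj
  obtain ⟨z, hz⟩ : ∃ z : FixSet Ω T.t, T.res hg • z ≠ z := by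
    by_contra! h
    exact hne (eq_of_smul_eq_smul (α := FixSet Ω T.t) fun x => by rw [h, one_smul])
  have hzz : g • g • (z : Ω) = z := by
    have := congrArg (fun w : Ind Ω T.t => ((w • z : FixSet Ω T.t) : Ω)) hsq
    simp only [mul_smul, one_smul, T.res_apply] at this
    exact this
  obtain ⟨m, hm, hma, hmb⟩ := T.witt C.hab (c' := (z : Ω)) (d' := g • (z : Ω))
    (fun h => hz (Subtype.ext h.symm)) T.ht.1 T.ht.2 z.2 (T.fix_smul hg z.2)
  have hwt : m⁻¹ * g * m * T.t = T.t * (m⁻¹ * g * m) := T.comm_mul (T.comm_mul (T.comm_inv hm) hg) hm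
  have hres : T.res hwt = (T.res hm)⁻¹ * T.res hg * T.res hm := Subtype.ext (Equiv.ext fun x => Subtype.ext (by
    show (m⁻¹ * g * m) • (x : Ω) = m⁻¹ • g • m • (x : Ω)
    rw [mul_smul, mul_smul]))
  have bad : T.res hwt ≠ T.res W.hut := fun e => hnc (by
    have h := (T.twoTwo hB).cls_conj (T.res hm) _ (e.trans rfl ▸ (W.res_cls hB).1)
    rwa [hres, show T.res hm * ((T.res hm)⁻¹ * T.res hg * T.res hm) * (T.res hm)⁻¹ = T.res hg by group] at h)
  have hg2 : m⁻¹ * g * m * (m⁻¹ * g * m) = T.t := by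
    rcases W.hall (m⁻¹ * g * m) (by rw [mul_smul, mul_smul, hma, ← hmb, inv_smul_smul])
      (by rw [mul_smul, mul_smul, hmb, hzz, ← hma, inv_smul_smul]) hwt with e | e | e | e
    · exact absurd (T.res_eq _ _ fun x _ => by rw [e]) bad
    · exact absurd (T.res_eq _ _ fun x hx => by rw [e, mul_smul, hx]) bad
    · rw [e, W.hsq]
    · rw [e, mul_assoc (W.u * T.t'), ← mul_assoc T.t (W.u * T.t'), ← W.j_comm, mul_assoc (W.u * T.t') T.t,
        T.htt, mul_one, W.hsq]
  calc g * g = m * (m⁻¹ * g * m * (m⁻¹ * g * m)) * m⁻¹ := by group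
    _ = T.t := by rw [hg2, hm, mul_inv_cancel_right]

theorem Sw.f_sq (hB : ¬ T.Big) : T.f = (T.twoTwo hB).r * (T.twoTwo hB).r := by
  rw [← T.card_fixSet]; exact (T.twoTwo hB).deg_of_k_one (W.k_one hB)

theorem Sw.small_even (hB : ¬ T.Big) (hev : Even (T.twoTwo hB).r) :
    Fintype.card Ω = 12 ∧ Nat.card G = 7920 := by
  classical
  set D := T.twoTwo hB with hD
  have hk := W.k_one hB
  have hf := W.f_sq hB
  have hdegX : Fintype.card (FixSet Ω T.t) = D.r * D.r := D.deg_of_k_one hk
  obtain ⟨m, hm, hm0⟩ := D.r_two_pow hev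
  obtain ⟨E, hE, hr, hc, he, -⟩ := D.regular_of_even hk (m := m + m) (by rw [hdegX, hm, pow_add])
  haveI := hE
  haveI := hr.1
  have hjay : ∀ e ∈ E, e ≠ 1 → e ∈ D.jays := fun e heE he1 => D.mem_jays.2 ⟨he e heE, he1, fun hec => by
    have h3 := D.cls_fix e hec
    have h4 : fixCard (FixSet Ω T.t) e = 0 := by
      rw [fixCard, Nat.card_eq_zero]
      exact Or.inl ⟨fun x => he1 (hr.2 x.1 e heE x.2)⟩
    have := D.two_le_r
    omega⟩
  have anti : ∀ x y : G, x * x = T.t → y * y = T.t → x * y * (x * y) = T.t → x * T.t = T.t * x →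
      x * y = T.t * (y * x) := by
    intro x y hx hy hxy hxt
    calc x * y = x⁻¹ * (x * x) * y := by group
      _ = x⁻¹ * (x * y * (x * y)) * y := by rw [hx, hxy]
      _ = y * x * (y * y) := by group
      _ = y * x * T.t := by rw [hy]
      _ = T.t * (y * x) := T.comm_mul (by rw [← hy, mul_assoc]) hxt
  have hr2 : D.r = 2 := by
    by_contra hne
    have h4 : 4 < Nat.card E := by
      rw [hr.card D.a, hdegX]
      have : 2 ^ 2 ≤ D.r := by
        rw [hm]
        refine Nat.pow_le_pow_right two_pos ?_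
        by_contra h
        rw [show m = 1 by omega] at hm
        exact hne hm
      nlinarith
    haveI := Finite.one_lt_card_iff_nontrivial.1 (show 1 < Nat.card E by omega)
    obtain ⟨a, ha⟩ := exists_ne (1 : E)
    have big : ∀ s : Finset E, s.card ≤ 4 → ∃ z : E, z ∉ s := fun s hs => by
      by_contra! h
      have : Nat.card E ≤ s.card := by
        rw [Nat.card_eq_fintype_card, ← Finset.card_univ]; exact Finset.card_le_card fun z _ => h z
      omega
    obtain ⟨b, hb⟩ := big {1, a} (Finset.card_le_two.trans (by norm_num))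
    obtain ⟨c, hc'⟩ := big {1, a, b, a * b} ((Finset.card_le_four))
    simp only [Finset.mem_insert, Finset.mem_singleton, not_or] at hb hc'
    have hcm : ∀ x y : E, x * y = y * x := fun x y => mul_comm' x y
    have hinv : ∀ x : E, x⁻¹ = x := fun x => inv_eq_of_mul_eq_one_right (Subtype.ext (he x x.2))
    obtain ⟨x, hx, hxa⟩ := T.res_surjective (a : Ind Ω T.t)
    obtain ⟨y, hy, hyb⟩ := T.res_surjective (b : Ind Ω T.t)
    obtain ⟨z, hz, hzc⟩ := T.res_surjective (c : Ind Ω T.t)
    have sq : ∀ {g : G} (hg : g * T.t = T.t * g) (e : E), T.res hg = (e : Ind Ω T.t) → e ≠ 1 → g * g = T.t :=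
      fun {g} hg e h1 h2 => W.jays_lift hB hg (h1 ▸ hjay _ e.2 fun h => h2 (Subtype.ext h))
    have hab : a * b ≠ 1 := fun h => hb.2 (by rw [← hinv a]; exact (inv_eq_of_mul_eq_one_right h).symm)
    have hxy := T.comm_mul hx hy
    have hresxy : T.res hxy = ((a * b : E) : Ind Ω T.t) := by rw [T.res_mul hx hy, hxa, hyb]; rfl
    have sxy := sq hxy _ hresxy hab
    have sx := sq hx _ hxa ha
    have sy := sq hy _ hyb hb.1
    have sz := sq hz _ hzc hc'.1
    have sxz := sq (T.comm_mul hx hz) (a * c) (by rw [T.res_mul hx hz, hxa, hzc]; rfl)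
      (fun h => hc'.2.1 (by rw [← hinv a]; exact (inv_eq_of_mul_eq_one_right h).symm))
    have syz := sq (T.comm_mul hy hz) (b * c) (by rw [T.res_mul hy hz, hyb, hzc]; rfl)
      (fun h => hc'.2.2.1 (by rw [← hinv b]; exact (inv_eq_of_mul_eq_one_right h).symm))
    have sxyz := sq (T.comm_mul hxy hz) (a * b * c) (by rw [T.res_mul hxy hz, hresxy, hzc]; rfl)
      (fun h => hc'.2.2.2 (by rw [← hinv (a * b)]; exact (inv_eq_of_mul_eq_one_right h).symm))
    have e1 := anti (x * y) z sxy sz sxyz hxy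
    have e2 := anti x z sx sz sxz hx
    have e3 := anti y z sy sz syz hy
    have e4 : x * y * z = z * (x * y) := by
      calc x * y * z = x * (T.t * (z * y)) := by rw [mul_assoc, e3]
        _ = (T.t * x) * (z * y) := by rw [← mul_assoc, hx]
        _ = T.t * (x * z) * y := by group
        _ = (T.t * T.t) * (z * (x * y)) := by rw [e2]; group
        _ = z * (x * y) := by rw [T.htt, one_mul]
    rw [e4] at e1
    exact T.ht1 (mul_eq_right.1 e1.symm)
  have hdeg := W.deg
  have hlt := T.f_lt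
  rw [hf, hr2] at hdeg hlt
  have h12 : Fintype.card Ω = 12 := by omega
  exact ⟨h12, by rw [C.card_G, h12]⟩

theorem Sw.small_simple (h12 : Fintype.card Ω = 12) : IsSimpleGroup G := by
  classical
  haveI : IsMultiplyPretransitive G Ω 2 := C.h2
  haveI := alternatingGroup.isSimpleGroup_five
  haveI : Nontrivial G := ⟨⟨W.u, 1, W.ne_one⟩⟩
  refine ⟨fun N hN => or_iff_not_imp_left.2 fun hne => ?_⟩
  haveI := hN
  haveI := transitive_of_normal C.h2 N hne
  haveI : Fact (Nat.Prime 2) := ⟨Nat.prime_two⟩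
  have heven : 2 ∣ Nat.card N := by
    have h := (stabilizer N C.a).card_mul_index
    rw [index_stabilizer_of_transitive, Nat.card_eq_fintype_card (α := Ω), h12] at h
    rw [← h]; exact dvd_mul_of_dvd_right (by norm_num) _
  obtain ⟨z, hz⟩ := exists_prime_orderOf_dvd_card' (G := N) 2 heven
  have hz2 : (z : G) * z = 1 := by rw [← pow_two, ← hz, ← Subgroup.orderOf_coe, pow_orderOf_eq_one]
  have hz1 : (z : G) ≠ 1 := fun h => by
    rw [show z = 1 from Subtype.ext h, orderOf_one] at hz; omega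
  obtain ⟨g, hg⟩ := T.mem_cls.1 (W.all_cls hz2 hz1)
  have htN : T.t ∈ N := by
    have h := hN.conj_mem _ z.2 g⁻¹
    rwa [hg, show g⁻¹ * (g * T.t * g⁻¹) * g⁻¹⁻¹ = T.t by group] at h
  let e : ↥C.K →* G := C.K.subtype
  have hKN : C.K ≤ N := by
    let ι : ↥(alternatingGroup (Fin 5)) →* G := C.K.subtype.comp C.e.symm.toMonoidHom
    rcases IsSimpleGroup.eq_bot_or_eq_top_of_normal (N.comap ι) inferInstance with h | h
    · refine absurd ?_ T.ht1
      have h1 : C.e ⟨T.t, T.ht⟩ ∈ N.comap ι := by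
        show ι (C.e ⟨T.t, T.ht⟩) ∈ N
        simpa [ι] using htN
      rw [h, Subgroup.mem_bot] at h1
      exact congrArg Subtype.val (C.e.injective (h1.trans (map_one _).symm))
    · intro k hk
      have h1 : C.e ⟨k, hk⟩ ∈ N.comap ι := h ▸ Subgroup.mem_top _
      simpa [ι] using h1
  -- the stabiliser of `a` in `N`
  set A := stabilizer G C.a with hA
  have hidx : (C.K.subgroupOf A).index = 11 := by
    have h := (C.K.subgroupOf A).card_mul_index
    rw [Nat.card_congr (Subgroup.subgroupOfEquivOfLe (inf_le_left : C.K ≤ A)).toEquiv, C.card_K] at h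
    have h2 := A.card_mul_index
    haveI : IsPretransitive G Ω := isPretransitive_of_is_two_pretransitive
    rw [hA, index_stabilizer_of_transitive, Nat.card_eq_fintype_card (α := Ω), C.card_G, h12] at h2
    rw [← hA] at h2
    omega
  have hle : C.K.subgroupOf A ≤ N.subgroupOf A := fun x hx => hKN hx
  have hdvd : (N.subgroupOf A).index ∣ 11 := hidx ▸ Subgroup.index_dvd_of_le hle
  have hAN : A ≤ N := by
    rcases (Nat.dvd_prime (by norm_num : Nat.Prime 11)).1 hdvd with h1 | h1
    · intro x hx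
      exact (Subgroup.index_eq_one.1 h1 ▸ Subgroup.mem_top (⟨x, hx⟩ : A) : (⟨x, hx⟩ : A) ∈ N.subgroupOf A)
    · exfalso
      have heq : C.K.subgroupOf A = N.subgroupOf A := by
        refine Subgroup.eq_of_le_of_card_ge hle ?_
        have e1 := (N.subgroupOf A).card_mul_index
        have e2 := (C.K.subgroupOf A).card_mul_index
        rw [h1] at e1
        rw [hidx] at e2
        omega
      -- so `K` is normal in `A` and fixes everything
      have hfix : ∀ k ∈ C.K, ∀ x : Ω, k • x = x := by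
        intro k hk x
        by_cases hx : x = C.a
        · rw [hx]; exact hk.1
        · obtain ⟨g, hga, hgb⟩ := C.exists_move (Ne.symm hx)
          have hgA : g ∈ A := hga
          have h1 : g⁻¹ * k * g ∈ C.K := by
            have : (⟨g⁻¹ * k * g, mul_mem (mul_mem (inv_mem hgA) hk.1) hgA⟩ : A) ∈ C.K.subgroupOf A := by
              rw [heq, Subgroup.mem_subgroupOf]
              have := hN.conj_mem k (hKN hk) g⁻¹
              rwa [inv_inv] at this
            exact this
          calc k • x = g • (g⁻¹ * k * g) • C.b := by rw [mul_smul, mul_smul, hgb, smul_inv_smul]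
            _ = x := by rw [show (g⁻¹ * k * g) • C.b = C.b from h1.2, hgb]
      exact T.ht1 (eq_of_smul_eq_smul (α := Ω) fun x => by rw [hfix T.t T.ht x, one_smul])
  rw [eq_top_iff]
  intro g _
  obtain ⟨n, hn⟩ := exists_smul_eq N C.a (g • C.a)
  have : (n : G)⁻¹ * g ∈ A := show _ • C.a = C.a by rw [mul_smul, ← hn]; exact inv_smul_smul (n : G) C.a
  have h := mul_mem n.2 (hAN this)
  rwa [mul_inv_cancel_left] at h

theorem Sw.small_eleven (hB : ¬ T.Big) (hev : Even (T.twoTwo hB).r) :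
    Fintype.card Ω = 12 ∧ Cfsg.Spor.IsoM11 G := by
  obtain ⟨h12, hG⟩ := W.small_even hB hev
  exact ⟨h12, SuzukiElementary.isoM11_of_isM11 ⟨W.small_simple h12, hG⟩⟩

end Cfsg.Agent.TwoPointA5
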