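import Mathlib
import Cfsg.Agent.Lib.TwoPointA5.SymSmall
import Cfsg.Agent.Lib.TwoPointA5.GWTorus
import Cfsg.Agent.Lib.Jordan4.KleinCount

/-!
# The symmetric case with `r` odd does not occur
-/

set_option autoImplicit false
set_option linter.unusedSectionVars false
set_option linter.unusedVariables false
set_option linter.style.haveILetI false
set_option synthInstance.maxSize 2000

namespace Cfsg.Agent.TwoPointA5

open MulAction

section General

variable {M : Type*} [Group M] [Finite M]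

/-- the odd core of the centraliser -/
noncomputable def centCore (y : M) : Subgroup M :=
  (Cfsg.oddCore ↥(Subgroup.centralizer ({y} : Set M))).map (Subgroup.subtype _)

theorem centCore_le (y : M) : centCore y ≤ Subgroup.centralizer {y} := Subgroup.map_subtype_le _

theorem centCore_odd (y : M) : Odd (Nat.card (centCore y)) := by
  rw [centCore, Subgroup.card_subtype]; exact InvChar.Core.odd_card_oddCore

theorem centCore_norm {y g : M} (hg : g * y = y * g) : ∀ x ∈ centCore y, g * x * g⁻¹ ∈ centCore y := by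
  rintro _ ⟨x, hx, rfl⟩
  exact ⟨⟨g, Subgroup.mem_centralizer_singleton_iff.2 hg⟩ * x * ⟨g, Subgroup.mem_centralizer_singleton_iff.2 hg⟩⁻¹,
    (ZStar.Main.oddCore_normal).conj_mem x hx _, rfl⟩

theorem centCore_max {y : M} {N : Subgroup M} (hN : N ≤ Subgroup.centralizer {y})
    (hn : ∀ g : M, g * y = y * g → ∀ x ∈ N, g * x * g⁻¹ ∈ N) (hodd : Odd (Nat.card N)) : N ≤ centCore y := by
  intro x hx
  haveI : (N.subgroupOf (Subgroup.centralizer ({y} : Set M))).Normal :=
    ⟨fun z hz g => hn g (Subgroup.mem_centralizer_singleton_iff.1 g.2) z hz⟩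
  have h : N.subgroupOf (Subgroup.centralizer ({y} : Set M)) ≤ Cfsg.oddCore _ :=
    Agent.Cores.le_oddCore (by rwa [Nat.card_congr (Subgroup.subgroupOfEquivOfLe hN).toEquiv])
  exact ⟨⟨x, hN hx⟩, h hx, rfl⟩

theorem centCore_conj (y g : M) : centCore (g * y * g⁻¹) = (centCore y).map (MulAut.conj g).toMonoidHom := by
  have key : ∀ y g : M, (centCore y).map (MulAut.conj g).toMonoidHom ≤ centCore (g * y * g⁻¹) := by
    intro y g
    refine centCore_max ?_ ?_ ?_
    · rintro _ ⟨x, hx, rfl⟩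
      refine Subgroup.mem_centralizer_singleton_iff.2 ?_
      have h := Subgroup.mem_centralizer_singleton_iff.1 (centCore_le y hx)
      show g * x * g⁻¹ * (g * y * g⁻¹) = g * y * g⁻¹ * (g * x * g⁻¹)
      rw [show g * x * g⁻¹ * (g * y * g⁻¹) = g * (x * y) * g⁻¹ by group, h]; group
    · rintro k hk _ ⟨x, hx, rfl⟩
      refine ⟨g⁻¹ * k * g * x * (g⁻¹ * k * g)⁻¹, centCore_norm ?_ x hx, ?_⟩
      · calc g⁻¹ * k * g * y = g⁻¹ * (k * (g * y * g⁻¹)) * g := by group
          _ = y * (g⁻¹ * k * g) := by rw [hk]; group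
      · show g * (g⁻¹ * k * g * x * (g⁻¹ * k * g)⁻¹) * g⁻¹ = k * (g * x * g⁻¹) * k⁻¹
        group
    · rw [Subgroup.card_map_of_injective (f := (MulAut.conj g).toMonoidHom) (MulAut.conj g).injective]; exact centCore_odd y
  refine le_antisymm (fun x hx => ?_) (key y g)
  have h := key (g * y * g⁻¹) g⁻¹ ⟨x, hx, rfl⟩
  rw [show g⁻¹ * (g * y * g⁻¹) * g⁻¹⁻¹ = y by group] at h
  exact ⟨_, h, show g * (g⁻¹ * x * g⁻¹⁻¹) * g⁻¹ = x by group⟩

theorem card_cent_conj (y w g : M) :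
    Nat.card ↥(Subgroup.centralizer ({g * y * g⁻¹} : Set M) ⊓ Subgroup.centralizer {g * w * g⁻¹}) =
      Nat.card ↥(Subgroup.centralizer ({y} : Set M) ⊓ Subgroup.centralizer {w}) := by
  rw [← Subgroup.card_map_of_injective (K := Subgroup.centralizer ({y} : Set M) ⊓ Subgroup.centralizer {w})
    (f := (MulAut.conj g).toMonoidHom) (MulAut.conj g).injective]
  congr 1
  refine congrArg (fun H : Subgroup M => ↥H) ?_
  ext x
  simp only [Subgroup.mem_inf, Subgroup.mem_centralizer_singleton_iff, Subgroup.mem_map]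
  constructor
  · rintro ⟨h1, h2⟩
    refine ⟨g⁻¹ * x * g, ⟨?_, ?_⟩, show g * (g⁻¹ * x * g) * g⁻¹ = x by group⟩
    · calc g⁻¹ * x * g * y = g⁻¹ * (x * (g * y * g⁻¹)) * g := by group
        _ = y * (g⁻¹ * x * g) := by rw [h1]; group
    · calc g⁻¹ * x * g * w = g⁻¹ * (x * (g * w * g⁻¹)) * g := by group
        _ = w * (g⁻¹ * x * g) := by rw [h2]; group
  · rintro ⟨z, ⟨h1, h2⟩, rfl⟩
    constructor
    · show g * z * g⁻¹ * (g * y * g⁻¹) = g * y * g⁻¹ * (g * z * g⁻¹)
      rw [show g * z * g⁻¹ * (g * y * g⁻¹) = g * (z * y) * g⁻¹ by group, h1]; group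
    · show g * z * g⁻¹ * (g * w * g⁻¹) = g * w * g⁻¹ * (g * z * g⁻¹)
      rw [show g * z * g⁻¹ * (g * w * g⁻¹) = g * (z * w) * g⁻¹ by group, h2]; group

theorem two_pow_dvd_four {i m : ℕ} (hm : Odd m) (h : 2 ^ i ∣ 4 * m) : 2 ^ i ≤ 4 :=
  Nat.le_of_dvd (by norm_num)
    ((Nat.Coprime.pow_left i (Nat.coprime_two_left.2 hm)).dvd_of_dvd_mul_right h)

end General

variable {G Ω : Type*} [Group G] [Finite G] [Fintype Ω] [MulAction G Ω] [FaithfulSMul G Ω] {C : Cfg G Ω} {T : Tri C}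

/-- the four-group -/
abbrev Tri.V (T : Tri C) : Subgroup G := C.K ⊓ Subgroup.centralizer {T.t}

theorem Tri.mem_V (T : Tri C) {g : G} : g ∈ T.V ↔ g = 1 ∨ g = T.t ∨ g = T.t' ∨ g = T.t * T.t' := by
  rw [Subgroup.mem_inf, Subgroup.mem_centralizer_singleton_iff]
  refine ⟨fun h => T.hcent g h.1 h.2, ?_⟩
  rintro (rfl | rfl | rfl | rfl)
  · exact ⟨one_mem _, by simp⟩
  · exact ⟨T.ht, rfl⟩
  · exact ⟨T.ht', T.hcomm.symm⟩
  · exact ⟨mul_mem T.ht T.ht', by rw [mul_assoc, ← T.hcomm]⟩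

theorem Tri.V_sq (T : Tri C) {g : G} (hg : g ∈ T.V) : g * g = 1 := by
  rcases T.mem_V.1 hg with rfl | rfl | rfl | rfl
  exacts [one_mul 1, T.htt, T.ht't', T.tt'_invol.1]

theorem Tri.V_card (T : Tri C) : Nat.card T.V = 4 := by
  have h : (T.V : Set G) = {1, T.t, T.t', T.t * T.t'} := by
    ext g
    simp only [SetLike.mem_coe, Set.mem_insert_iff, Set.mem_singleton_iff]
    exact T.mem_V
  rw [← SetLike.coe_sort_coe, Nat.card_coe_set_eq, h, Set.ncard_insert_of_notMem, Set.ncard_insert_of_notMem,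
    Set.ncard_pair]
  · exact fun h => T.ht1 (mul_eq_right.1 h.symm)
  · simp only [Set.mem_insert_iff, Set.mem_singleton_iff, not_or]
    exact ⟨T.hne.symm, fun h => T.ht'1 (mul_eq_left.1 h.symm)⟩
  · simp only [Set.mem_insert_iff, Set.mem_singleton_iff, not_or]
    exact ⟨T.ht1.symm, T.ht'1.symm, T.tt'_invol.2.symm⟩

/-- commuting lifts -/
theorem Tri.lift_comm (T : Tri C) (hB : ¬ T.Big) {p : ℕ} (hp : Odd p) {g h : G} (hg : g * T.t = T.t * g)
    (hh : h * T.t = T.t * h) (he : T.res hg * T.res hh = T.res hh * T.res hg) (hgp : g ^ p = 1) : g * h = h * g := by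
  rw [← T.res_mul hg hh (T.comm_mul hg hh), ← T.res_mul hh hg (T.comm_mul hh hg)] at he
  rcases T.eq_of_res hB _ _ he with e | e
  · exact e
  · exfalso
    have key : ∀ i : ℕ, g ^ i * h = h * g ^ i * T.t ^ i := by
      intro i
      induction i with
      | zero => simp
      | succ i ih =>
        have hti : T.t ^ i * g = g * T.t ^ i := ((show Commute g T.t from hg).pow_right i).eq.symm
        calc g ^ (i + 1) * h = g ^ i * (g * h) := by rw [pow_succ, mul_assoc]
          _ = (g ^ i * h) * g * T.t := by rw [e]; group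
          _ = h * g ^ i * (T.t ^ i * g) * T.t := by rw [ih]; group
          _ = h * g ^ i * (g * T.t ^ i) * T.t := by rw [hti]
          _ = h * g ^ (i + 1) * T.t ^ (i + 1) := by rw [pow_succ, pow_succ]; group
    obtain ⟨k, hk⟩ := hp
    have h1 := key p
    rw [hgp, one_mul, mul_one, hk, pow_succ, pow_mul, show T.t ^ 2 = 1 by rw [pow_two, T.htt], one_pow, one_mul] at h1
    exact T.ht1 (mul_eq_left.1 h1.symm)

/-- the facts used about a fixed prime -/
structure OddData (T : Tri C) where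
  p : ℕ
  k : ℕ
  r : ℕ
  hp : p.Prime
  hp2 : p ≠ 2
  hrk : r = p ^ k
  hr3 : 3 ≤ r
  hf : T.f = r * r
  Et : Subgroup G
  J : G
  hEt_pow : ∀ g ∈ Et, g ^ p = 1
  hEt_card : Nat.card Et = r * r
  hEt_t : ∀ g ∈ Et, g * T.t = T.t * g
  hEt_t' : ∀ g ∈ Et, T.t' * g * T.t'⁻¹ ∈ Et
  hEt_cent : Nat.card ↥(Et ⊓ Subgroup.centralizer ({T.t'} : Set G)) = r
  hJJ : J * J = T.t
  hJt' : J * T.t' * J⁻¹ = T.t' * T.t
  hJinv : ∀ g ∈ Et, J * g * J⁻¹ = g⁻¹
  hgood : ∀ y : G, y * T.t = T.t * y → y * T.t' = T.t' * y → y ^ p = 1 → y ≠ 1 → y ∈ Et ∧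
    Nat.card ↥(Subgroup.centralizer ({y} : Set G) ⊓ Subgroup.centralizer {T.t}) = 4 * (r * r) ∧
    ∀ g ∈ Et, g * y = y * g

theorem Sw.exists_oddData (W : Sw T) (hB : ¬ T.Big) [Fintype (FixSet Ω T.t)] (hrodd : Odd (T.twoTwo hB).r) :
    Nonempty (OddData T) := by
  classical
  set D := T.twoTwo hB with hD
  have hk := W.k_one hB
  have hdegX : Fintype.card (FixSet Ω T.t) = D.r * D.r := D.deg_of_k_one hk
  have hodd : Odd (Fintype.card (FixSet Ω T.t)) := by rw [hdegX]; exact hrodd.mul hrodd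
  obtain ⟨E, p, hE, hr, hc, hp, hp2, hpg, hel, hpd, hone⟩ := D.regular_of_odd hk hodd
  haveI := hE
  haveI := hr.1
  haveI : Fact p.Prime := ⟨hp⟩
  have hpodd : Odd p := hp.odd_of_ne_two hp2
  have hpr : p ∣ D.r := by rw [hdegX] at hpd; exact (hp.dvd_mul.1 hpd).elim id id
  obtain ⟨i, hi⟩ := IsPGroup.iff_card.1 hpg
  rw [hr.card D.a, hdegX] at hi
  obtain ⟨k, -, hrk⟩ := (Nat.dvd_prime_pow hp).1 (hi ▸ dvd_mul_right D.r D.r : D.r ∣ p ^ i)
  have hr3 : 3 ≤ D.r := by
    have := D.two_le_r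
    obtain ⟨c, hc'⟩ := hrodd
    omega
  -- `j` and its fixed point
  set j := T.res W.j_comm with hj
  have hjj : j * j = 1 := Subtype.ext (Equiv.ext fun z => Subtype.ext (by
    show (W.u * T.t') • (W.u * T.t') • (z : Ω) = _
    rw [← mul_smul, W.hsq, z.2]; rfl))
  have hj1 : j ≠ 1 := fun e => C.hab (by
    have h1 : (W.u * T.t') • C.a = C.a := by
      rw [← T.res_apply W.j_comm ⟨C.a, T.ht.1⟩, ← hj, e, one_smul]
    exact h1.symm.trans (by rw [mul_smul, T.ht'.1, W.hua]))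
  have hjJ : j ∈ D.jays := D.mem_jays.2 ⟨hjj, hj1, (W.res_cls hB).2⟩
  obtain ⟨hjsub, ⟨⟨o, ho⟩⟩⟩ := Nat.card_eq_one_iff_unique.1
    ((D.jays_fix j hjJ).trans (Nat.odd_iff.1 hodd))
  have ht'res : T.sBar = T.res T.hcomm.symm := rfl
  have hjs : j * D.s = D.s * j := by
    rw [show D.s = T.res T.hcomm.symm from rfl, hj, ← T.res_mul W.j_comm T.hcomm.symm (T.comm_mul W.j_comm T.hcomm.symm),
      ← T.res_mul T.hcomm.symm W.j_comm (T.comm_mul T.hcomm.symm W.j_comm)]
    refine T.res_eq _ _ fun z hz => ?_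
    have h1 : T.t' * (W.u * T.t') = W.u * T.t' * T.t' * T.t := by
      calc T.t' * (W.u * T.t') = (W.u * W.u) * (T.t' * W.u * T.t') := by rw [W.huu]; group
        _ = W.u * (W.u * T.t' * W.u) * T.t' := by group
        _ = W.u * T.t * (T.t' * T.t') := by rw [W.hut']; group
        _ = W.u * T.t' * T.t' * T.t := by rw [mul_assoc W.u T.t', T.ht't']; simp
    rw [h1, mul_smul (W.u * T.t' * T.t'), hz]
  have hos : D.s • o = o := congrArg Subtype.val (@Subsingleton.elim _ hjsub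
    (⟨D.s • o, by rw [← mul_smul, hjs, mul_smul, ho]⟩ : {z : FixSet Ω T.t // j • z = z}) ⟨o, ho⟩)
  -- the lift of the regular subgroup
  have hcommE : ∀ a ∈ E, ∀ b ∈ E, a * b = b * a := fun a ha b hb =>
    congrArg Subtype.val (mul_comm' (⟨a, ha⟩ : E) ⟨b, hb⟩)
  let Et : Subgroup G :=
    { carrier := {g | g ^ p = 1 ∧ ∃ hg : g * T.t = T.t * g, T.res hg ∈ E}
      one_mem' := ⟨one_pow _, by simp, by
        convert one_mem E
        exact Subtype.ext (Equiv.ext fun z => Subtype.ext (one_smul G (z : Ω)))⟩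
      mul_mem' := by
        rintro g h ⟨hgp, hg, hgE⟩ ⟨hhp, hh, hhE⟩
        refine ⟨?_, T.comm_mul hg hh, by rw [T.res_mul hg hh]; exact mul_mem hgE hhE⟩
        rw [Commute.mul_pow (T.lift_comm hB hpodd hg hh (hcommE _ hgE _ hhE) hgp), hgp, hhp, one_mul]
      inv_mem' := by
        rintro g ⟨hgp, hg, hgE⟩
        refine ⟨by rw [inv_pow, hgp, inv_one], T.comm_inv hg, ?_⟩
        have : T.res (T.comm_inv hg) = (T.res hg)⁻¹ :=
          Subtype.ext (Equiv.ext fun z => Subtype.ext rfl)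
        rw [this]; exact inv_mem hgE }
  have hEt : ∀ {g : G}, g ∈ Et ↔ g ^ p = 1 ∧ ∃ hg : g * T.t = T.t * g, T.res hg ∈ E := Iff.rfl
  have htp : T.t ^ p = T.t := by
    obtain ⟨c, hc'⟩ := hpodd
    rw [hc', pow_succ, pow_mul, show T.t ^ 2 = 1 by rw [pow_two, T.htt], one_pow, one_mul]
  have hinj : ∀ {g h : G} (hg : g * T.t = T.t * g) (hh : h * T.t = T.t * h), g ^ p = 1 → h ^ p = 1 →
      T.res hg = T.res hh → g = h := by
    intro g h hg hh hgp hhp he
    refine (T.eq_of_res hB hg hh he).resolve_right fun e => T.ht1 ?_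
    rw [e, Commute.mul_pow hh, hhp, one_mul, htp] at hgp
    exact hgp
  have hlift : ∀ e ∈ E, ∃ (g : G) (hg : g * T.t = T.t * g), g ^ p = 1 ∧ T.res hg = e := by
    intro e he
    obtain ⟨g, hg, rfl⟩ := T.res_surjective e
    have hres : ∀ x : Ω, T.t • x = x → g ^ p • x = x := fun x hx => by
      have hpow : ∀ (i : ℕ) (y : FixSet Ω T.t), (((T.res hg) ^ i • y : FixSet Ω T.t) : Ω) = g ^ i • (y : Ω) := by
        intro i
        induction i with
        | zero => intro y; simp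
        | succ i ih => intro y; rw [pow_succ', mul_smul, T.res_apply, ih, ← mul_smul, ← pow_succ']
      have := hpow p ⟨x, hx⟩
      rw [hel _ he, one_smul] at this
      exact this.symm
    rcases T.kernel hB ((show Commute g T.t from hg).pow_left p).eq hres with e1 | e1
    · exact ⟨g, hg, e1, rfl⟩
    · refine ⟨g * T.t, T.comm_mul hg rfl, by rw [Commute.mul_pow hg, e1, htp, T.htt], ?_⟩
      exact T.res_eq _ _ fun x hx => by rw [mul_smul, hx]
  have hcardEt : Nat.card Et = D.r * D.r := by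
    rw [← hdegX, ← hr.card o]
    refine Nat.card_congr (Equiv.ofBijective (fun g : Et => (⟨T.res (hEt.1 g.2).2.1, (hEt.1 g.2).2.2⟩ : E)) ⟨?_, ?_⟩)
    · intro g h e
      exact Subtype.ext (hinj (hEt.1 g.2).2.1 (hEt.1 h.2).2.1 (hEt.1 g.2).1 (hEt.1 h.2).1 (congrArg Subtype.val e))
    · rintro ⟨e, he⟩
      obtain ⟨g, hg, hgp, hge⟩ := hlift e he
      exact ⟨⟨g, hEt.2 ⟨hgp, hg, hge ▸ he⟩⟩, Subtype.ext hge⟩
  -- elements of `E` determined by the image of `o`
  have hreg : ∀ e ∈ E, ∀ e' ∈ E, e • o = e' • o → e = e' := fun e he e' he' h =>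
    (inv_mul_eq_one.1 (hr.2 o _ (mul_mem (inv_mem he') he) (by rw [mul_smul, h, inv_smul_smul]))).symm
  have hEs : ∀ e ∈ E, D.s • e • o = e • o → e * D.s = D.s * e := fun e he h => by
    have h' := hreg _ (hE.conj_mem e he D.s) e he (by
      rw [mul_smul, mul_smul, inv_smul_eq_iff.2 hos.symm, h])
    exact ((mul_inv_eq_iff_eq_mul.1 h')).symm
  have hcentcard : Nat.card ↥(Et ⊓ Subgroup.centralizer ({T.t'} : Set G)) = D.r := by
    let φ : ↥(Et ⊓ Subgroup.centralizer ({T.t'} : Set G)) → {x : FixSet Ω T.t // D.s • x = x} := fun g =>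
      ⟨T.res (hEt.1 g.2.1).2.1 • o, by
        refine Subtype.ext ?_
        have hso : T.t' • (o : Ω) = o := congrArg Subtype.val hos
        show T.t' • (g : G) • (o : Ω) = (g : G) • (o : Ω)
        rw [← mul_smul, ← Subgroup.mem_centralizer_singleton_iff.1 g.2.2, mul_smul, hso]⟩
    refine Nat.card_congr (Equiv.ofBijective φ ⟨?_, ?_⟩)
    · intro g h e
      exact Subtype.ext (hinj (hEt.1 g.2.1).2.1 (hEt.1 h.2.1).2.1 (hEt.1 g.2.1).1 (hEt.1 h.2.1).1
        (hreg _ (hEt.1 g.2.1).2.2 _ (hEt.1 h.2.1).2.2 (congrArg Subtype.val e)))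
    · rintro ⟨x, hx⟩
      obtain ⟨⟨e, he⟩, hex⟩ := exists_smul_eq E o x
      have hex' : e • o = x := hex
      obtain ⟨g, hg, hgp, hge⟩ := hlift e he
      have hgt' : g * T.t' = T.t' * g := T.lift_comm hB hpodd hg T.hcomm.symm (by
        rw [hge]; exact hEs e he (by rw [hex']; exact hx)) hgp
      exact ⟨⟨g, hEt.2 ⟨hgp, hg, hge ▸ he⟩, Subgroup.mem_centralizer_singleton_iff.2 hgt'⟩,
        Subtype.ext (by show T.res _ • o = x; rw [hge, hex'])⟩
  have hYcard : ∀ x : Ind Ω T.t, x * D.s = D.s * x → x • o = o → x ^ p = 1 → x = 1 := by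
    intro x hxs hxo hxp
    let Cs := Subgroup.centralizer ({D.s} : Set (Ind Ω T.t))
    have h1 := Nat.card_congr (orbitProdStabilizerEquivGroup Cs o)
    have horb : orbit Cs o = {z : FixSet Ω T.t | D.s • z = z} := by
      ext z
      constructor
      · rintro ⟨g, rfl⟩
        show D.s • (g : Ind Ω T.t) • o = (g : Ind Ω T.t) • o
        rw [← mul_smul, ← Subgroup.mem_centralizer_singleton_iff.1 g.2, mul_smul, hos]
      · intro hz
        by_cases hzo : z = o
        · exact ⟨1, (one_smul Cs o).trans hzo.symm⟩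
        · obtain ⟨g, hg, h1, -⟩ := D.cent_pairs (c := o) (d := z) (c' := z) (d' := o) (Ne.symm hzo) hzo hos hz hz hos
          exact ⟨⟨g, Subgroup.mem_centralizer_singleton_iff.2 hg⟩, h1⟩
    rw [Nat.card_prod, horb, D.card_cent] at h1
    have hY : Nat.card (stabilizer Cs o) = 2 * (D.r - 1) := by
      refine Nat.eq_of_mul_eq_mul_left (show 0 < D.r by omega) ?_
      calc D.r * Nat.card (stabilizer Cs o) = 2 * (D.r * (D.r - 1)) := h1
        _ = _ := by ring
    let xs : stabilizer Cs o := ⟨⟨x, Subgroup.mem_centralizer_singleton_iff.2 hxs⟩, hxo⟩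
    have hxs1 : orderOf xs ∣ p := orderOf_dvd_of_pow_eq_one (Subtype.ext (Subtype.ext (by simpa [xs] using hxp)))
    have hxs2 : orderOf xs ∣ 2 * (D.r - 1) := hY ▸ orderOf_dvd_natCard xs
    rcases (Nat.dvd_prime hp).1 hxs1 with h | h
    · exact congrArg (fun z : stabilizer Cs o => ((z : Cs) : Ind Ω T.t)) (orderOf_eq_one_iff.1 h)
    · exfalso
      rw [h] at hxs2
      rcases hp.dvd_mul.1 hxs2 with h' | h'
      · exact hp2 ((Nat.prime_dvd_prime_iff_eq hp Nat.prime_two).1 h')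
      · exact hp.not_dvd_one (by
          have := Nat.dvd_sub hpr h'
          rwa [show D.r - (D.r - 1) = 1 by omega] at this)
  refine ⟨{ p := p, k := k, r := D.r, hp := hp, hp2 := hp2, hrk := hrk, hr3 := hr3, hf := W.f_sq hB, Et := Et,
            J := W.u * T.t', hEt_pow := fun g hg => (hEt.1 hg).1, hEt_card := hcardEt,
            hEt_t := fun g hg => (hEt.1 hg).2.1, hEt_t' := ?_, hEt_cent := hcentcard, hJJ := W.hsq,
            hJt' := ?_, hJinv := ?_, hgood := ?_ }⟩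
  · intro g hg
    obtain ⟨hgp, hgt, hgE⟩ := hEt.1 hg
    refine hEt.2 ⟨by rw [conj_pow, hgp]; group, T.comm_mul (T.comm_mul T.hcomm.symm hgt) (T.comm_inv T.hcomm.symm), ?_⟩
    convert hE.conj_mem _ hgE D.s using 1
    exact Subtype.ext (Equiv.ext fun z => Subtype.ext (by
      show (T.t' * g * T.t'⁻¹) • (z : Ω) = T.t' • g • T.t'⁻¹ • (z : Ω)
      rw [mul_smul, mul_smul]))
  · rw [show W.u * T.t' * T.t' * (W.u * T.t')⁻¹ = W.u * T.t' * W.u⁻¹ by group,
      inv_eq_of_mul_eq_one_right W.huu, W.hut', T.hcomm]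
  · intro g hg
    obtain ⟨hgp, hgt, hgE⟩ := hEt.1 hg
    have hct : W.u * T.t' * g * (W.u * T.t')⁻¹ * T.t = T.t * (W.u * T.t' * g * (W.u * T.t')⁻¹) :=
      T.comm_mul (T.comm_mul W.j_comm hgt) (T.comm_inv W.j_comm)
    refine hinj hct (T.comm_inv hgt) (by rw [conj_pow, hgp]; group) (by rw [inv_pow, hgp, inv_one]) ?_
    set e := T.res hgt with he
    have e1 : T.res hct = j * e * j⁻¹ := Subtype.ext (Equiv.ext fun z => Subtype.ext (by
      show (W.u * T.t' * g * (W.u * T.t')⁻¹) • (z : Ω) = (W.u * T.t') • g • (W.u * T.t')⁻¹ • (z : Ω)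
      rw [mul_smul, mul_smul]))
    have e2 : T.res (T.comm_inv hgt) = e⁻¹ := Subtype.ext (Equiv.ext fun z => Subtype.ext rfl)
    rw [e1, e2]
    have hji : j⁻¹ = j := inv_eq_of_mul_eq_one_right hjj
    have hce := hcommE e hgE _ (hE.conj_mem e hgE j)
    set z := e * (j * e * j⁻¹) with hz
    have hzE : z ∈ E := mul_mem hgE (hE.conj_mem e hgE j)
    have hzj : j * z = z * j := by
      calc j * z = (j * e * j⁻¹) * (j * j) * e * j⁻¹ := by rw [hz]; group
        _ = (j * e * j⁻¹) * e * j := by rw [hjj, mul_one, hji]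
        _ = z * j := by rw [← hce]
    have hzo : z • o = o := congrArg Subtype.val (@Subsingleton.elim _ hjsub
      (⟨z • o, by rw [← mul_smul, hzj, mul_smul, ho]⟩ : {w : FixSet Ω T.t // j • w = w}) ⟨o, ho⟩)
    exact eq_inv_of_mul_eq_one_right (hr.2 o z hzE hzo)
  · intro y hyt hyt' hyp hy1
    set x := T.res hyt with hx
    have hxs : x * D.s = D.s * x := by
      rw [hx, show D.s = T.res T.hcomm.symm from rfl, ← T.res_mul hyt T.hcomm.symm (T.comm_mul hyt T.hcomm.symm),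
        ← T.res_mul T.hcomm.symm hyt (T.comm_mul T.hcomm.symm hyt)]
      exact T.res_eq _ _ fun z _ => by rw [hyt']
    have hxp : x ^ p = 1 := Subtype.ext (by
      show (fixHom Ω T.t ⟨y, _⟩) ^ p = 1
      rw [← map_pow, ← map_one (fixHom Ω T.t)]
      exact congrArg _ (Subtype.ext (by rw [SubgroupClass.coe_pow, hyp]; rfl)))
    have hxE : x ∈ E := by
      obtain ⟨⟨e', he'⟩, hex⟩ := exists_smul_eq E o (x • o)
      have hex' : e' • o = x • o := hex
      have he's : e' * D.s = D.s * e' := hEs e' he' (by rw [hex', ← mul_smul, ← hxs, mul_smul, hos])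
      have h0o : (e'⁻¹ * x) • o = o := by rw [mul_smul, ← hex', inv_smul_smul]
      have h0s : e'⁻¹ * x * D.s = D.s * (e'⁻¹ * x) :=
        (((show Commute e' D.s from he's).inv_left).mul_left (show Commute x D.s from hxs)).eq
      have h0p : (e'⁻¹ * x) ^ p = 1 := by
        refine hr.2 o _ ((QuotientGroup.eq_one_iff _).1 ?_) ?_
        · rw [QuotientGroup.mk_pow, QuotientGroup.mk_mul, (QuotientGroup.eq_one_iff _).2 (inv_mem he'), one_mul,
            ← QuotientGroup.mk_pow, hxp, QuotientGroup.mk_one]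
        · exact (Subgroup.pow_mem (stabilizer (Ind Ω T.t) o) (h0o : e'⁻¹ * x ∈ stabilizer (Ind Ω T.t) o) p)
      rw [← inv_mul_eq_one.1 (hYcard _ h0s h0o h0p)]
      exact he'
    have hyEt : y ∈ Et := hEt.2 ⟨hyp, hyt, hxE⟩
    have hEty : ∀ g ∈ Et, g * y = y * g := fun g hg =>
      T.lift_comm hB hpodd (hEt.1 hg).2.1 hyt (hcommE _ (hEt.1 hg).2.2 _ hxE) (hEt.1 hg).1
    refine ⟨hyEt, ?_, hEty⟩
    have hVy : ∀ v ∈ T.V, v * y = y * v := by
      intro v hv
      rcases T.mem_V.1 hv with rfl | rfl | rfl | rfl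
      · simp
      · exact hyt.symm
      · exact hyt'.symm
      · exact ((show Commute T.t y from hyt.symm).mul_left (show Commute T.t' y from hyt'.symm)).eq
    let μ : Et × T.V → ↥(Subgroup.centralizer ({y} : Set G) ⊓ Subgroup.centralizer {T.t}) := fun q =>
      ⟨q.1 * q.2, mul_mem
        ⟨Subgroup.mem_centralizer_singleton_iff.2 (hEty _ q.1.2),
          Subgroup.mem_centralizer_singleton_iff.2 (hEt.1 q.1.2).2.1⟩
        ⟨Subgroup.mem_centralizer_singleton_iff.2 (hVy _ q.2.2), q.2.2.2⟩⟩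
    rw [mul_comm, ← hcardEt, ← T.V_card, ← Nat.card_prod]
    refine (Nat.card_congr (Equiv.ofBijective μ ⟨?_, ?_⟩)).symm
    · rintro ⟨⟨a, ha⟩, ⟨v, hv⟩⟩ ⟨⟨a', ha'⟩, ⟨v', hv'⟩⟩ h
      have h' : a * v = a' * v' := congrArg Subtype.val h
      have hw : a'⁻¹ * a = v' * v⁻¹ := by
        rw [eq_mul_inv_iff_mul_eq, mul_assoc, h', inv_mul_cancel_left]
      have h1 : a'⁻¹ * a = 1 := by
        have hwp := (hEt.1 (mul_mem (inv_mem ha') ha)).1
        have hw2 : (a'⁻¹ * a) ^ 2 = 1 := by rw [hw, pow_two]; exact T.V_sq (mul_mem hv' (inv_mem hv))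
        rw [← orderOf_eq_one_iff]
        exact Nat.eq_one_of_dvd_coprimes (Nat.coprime_two_left.2 hpodd) (orderOf_dvd_of_pow_eq_one hw2)
          (orderOf_dvd_of_pow_eq_one hwp)
      obtain rfl : a' = a := inv_mul_eq_one.1 h1
      exact Prod.ext rfl (Subtype.ext (mul_left_cancel h'))
    · rintro ⟨g, hgy, hgt⟩
      have hgy' : g * y = y * g := Subgroup.mem_centralizer_singleton_iff.1 hgy
      have hgt' : g * T.t = T.t * g := Subgroup.mem_centralizer_singleton_iff.1 hgt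
      set xg := T.res hgt' with hxg
      have hxgx : xg * x = x * xg := by
        rw [hxg, hx, ← T.res_mul hgt' hyt (T.comm_mul hgt' hyt), ← T.res_mul hyt hgt' (T.comm_mul hyt hgt')]
        exact T.res_eq _ _ fun z _ => by rw [hgy']
      have hx1 : x ≠ 1 := fun e => hy1 (hinj hyt (by simp : (1 : G) * T.t = T.t * 1) hyp (one_pow p) (by
        rw [← hx, e]; exact Subtype.ext (Equiv.ext fun z => Subtype.ext (one_smul G (z : Ω)).symm)))
      obtain ⟨⟨e', he'⟩, hex⟩ := exists_smul_eq E o (xg • o)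
      have hex' : e' • o = xg • o := hex
      have h0o : (e'⁻¹ * xg) • o = o := by rw [mul_smul, ← hex', inv_smul_smul]
      have h0x : e'⁻¹ * xg * x = x * (e'⁻¹ * xg) :=
        (((show Commute e' x from hcommE _ he' _ hxE).inv_left).mul_left (show Commute xg x from hxgx)).eq
      have hne : o ≠ x • o := fun h => hx1 (hr.2 o x hxE h.symm)
      obtain ⟨a, hat, hap, hae⟩ := hlift e' he'
      have haEt : a ∈ Et := hEt.2 ⟨hap, hat, hae ▸ he'⟩
      have hv : a⁻¹ * g ∈ T.V := by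
        have hc' := T.comm_mul (T.comm_inv hat) hgt'
        have hres : T.res hc' = e'⁻¹ * xg := by
          rw [← hae]; exact Subtype.ext (Equiv.ext fun z => Subtype.ext (mul_smul a⁻¹ g (z : Ω)))
        rcases D.stab_pair hne hos (by rw [← mul_smul, ← hxs, mul_smul, hos]) h0o
          (by rw [← mul_smul, h0x, mul_smul, h0o]) with e | e
        · rcases T.eq_of_res hB hc' (by simp : (1 : G) * T.t = T.t * 1) (by
            rw [hres, e]; exact Subtype.ext (Equiv.ext fun z => Subtype.ext (one_smul G (z : Ω)).symm)) with h | h <;>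
            rw [T.mem_V, h] <;> simp
        · rcases T.eq_of_res hB hc' T.hcomm.symm (by rw [hres, e]; rfl) with h | h <;>
            rw [T.mem_V, h]
          · simp
          · exact Or.inr (Or.inr (Or.inr T.hcomm.symm))
      exact ⟨(⟨a, haEt⟩, ⟨a⁻¹ * g, hv⟩), Subtype.ext (mul_inv_cancel_left a g)⟩

variable (R : OddData T)
include R

/-- elements of order `p` centralising the four-group -/
def OddData.Good (y : G) : Prop := y * T.t = T.t * y ∧ y * T.t' = T.t' * y ∧ y ^ R.p = 1 ∧ y ≠ 1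

theorem OddData.good_conj {y : G} (hy : R.Good y) : R.Good (T.α⁻¹ * y * T.α) := by
  obtain ⟨h1, h2, h3, h4⟩ := hy
  have h12 : y * (T.t * T.t') = T.t * T.t' * y := by rw [← mul_assoc, h1, mul_assoc, h2, mul_assoc]
  refine ⟨?_, ?_, ?_, fun h => h4 ?_⟩
  · calc T.α⁻¹ * y * T.α * T.t = T.α⁻¹ * (y * (T.α * T.t * T.α⁻¹)) * T.α := by group
      _ = T.α⁻¹ * ((T.α * T.t * T.α⁻¹) * y) * T.α := by rw [T.hαt, h2]
      _ = _ := by group
  · calc T.α⁻¹ * y * T.α * T.t' = T.α⁻¹ * (y * (T.α * T.t' * T.α⁻¹)) * T.α := by group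
      _ = T.α⁻¹ * ((T.α * T.t' * T.α⁻¹) * y) * T.α := by rw [T.hαt', h12]
      _ = _ := by group
  · have h : (T.α⁻¹ * y * T.α⁻¹⁻¹) ^ R.p = 1 := by rw [conj_pow, h3]; group
    rwa [inv_inv] at h
  · rw [show y = T.α * (T.α⁻¹ * y * T.α) * T.α⁻¹ by group, h]; group

theorem OddData.card_cent {y : G} (hy : R.Good y) {w : G} (hw : w = T.t ∨ w = T.t' ∨ w = T.t * T.t') :
    Nat.card ↥(Subgroup.centralizer ({y} : Set G) ⊓ Subgroup.centralizer {w}) = 4 * (R.r * R.r) := by
  have h0 : ∀ z, R.Good z → Nat.card ↥(Subgroup.centralizer ({z} : Set G) ⊓ Subgroup.centralizer {T.t}) =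
      4 * (R.r * R.r) := fun z hz => (R.hgood z hz.1 hz.2.1 hz.2.2.1 hz.2.2.2).2.1
  have h1 : ∀ z, R.Good z → Nat.card ↥(Subgroup.centralizer ({z} : Set G) ⊓ Subgroup.centralizer {T.t'}) =
      4 * (R.r * R.r) := fun z hz => by
    rw [← T.hαt, show z = T.α * (T.α⁻¹ * z * T.α) * T.α⁻¹ by group, card_cent_conj]
    exact h0 _ (R.good_conj hz)
  rcases hw with rfl | rfl | rfl
  · exact h0 y hy
  · exact h1 y hy
  · rw [← T.hαt', show y = T.α * (T.α⁻¹ * y * T.α) * T.α⁻¹ by group, card_cent_conj]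
    exact h1 _ (R.good_conj hy)

theorem OddData.r_odd : Odd R.r := R.hrk ▸ (R.hp.odd_of_ne_two R.hp2).pow

theorem OddData.inv_le {y : G} (hy : R.Good y) {e : G} (he : e ∈ R.Et) (hte : T.t' * e * T.t'⁻¹ = e⁻¹) :
    e ∈ centCore y := by
  classical
  haveI : Fact (Nat.Prime 2) := ⟨Nat.prime_two⟩
  obtain ⟨hy1, hy2, hy3, hy4⟩ := id hy
  obtain ⟨hyEt, -, hEty⟩ := R.hgood y hy1 hy2 hy3 hy4
  set Y := Subgroup.centralizer ({y} : Set G) with hY
  have hVY : T.V ≤ Y := fun v hv => Subgroup.mem_centralizer_singleton_iff.2 (by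
    rcases T.mem_V.1 hv with rfl | rfl | rfl | rfl
    · simp
    · exact hy1.symm
    · exact hy2.symm
    · exact ((show Commute T.t y from hy1.symm).mul_left (show Commute T.t' y from hy2.symm)).eq)
  have hVp : IsPGroup 2 T.V := IsPGroup.of_card (n := 2) (by rw [T.V_card]; norm_num)
  obtain ⟨S, hS⟩ := (hVp.comap_of_injective Y.subtype Y.subtype_injective).exists_le_sylow
  have hoddr : Odd (R.r * R.r) := R.r_odd.mul R.r_odd
  -- `V` is a Sylow subgroup of the centraliser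
  have hQ : (S : Subgroup Y).map Y.subtype = T.V := by
    set Q := (S : Subgroup Y).map Y.subtype with hQdef
    have hQp : IsPGroup 2 Q := S.2.map _
    have hVQ : T.V ≤ Q := fun v hv => ⟨⟨v, hVY hv⟩, hS hv, rfl⟩
    refine (Subgroup.eq_of_le_of_card_ge hVQ ?_).symm
    rw [T.V_card]
    have small : ∀ H : Subgroup G, IsPGroup 2 H → ∀ w, (w = T.t ∨ w = T.t' ∨ w = T.t * T.t') →
        H ≤ Y ⊓ Subgroup.centralizer {w} → Nat.card H ≤ 4 := fun H hH w hw hle => by
      obtain ⟨i, hi⟩ := IsPGroup.iff_card.1 hH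
      rw [hi]
      refine two_pow_dvd_four hoddr ?_
      rw [← hi, ← R.card_cent hy hw]
      exact Subgroup.card_dvd_of_le hle
    have htQ : T.t ∈ Q := hVQ (T.mem_V.2 (Or.inr (Or.inl rfl)))
    haveI : Nontrivial Q := ⟨⟨⟨T.t, htQ⟩, 1, fun h => T.ht1 (congrArg Subtype.val h)⟩⟩
    haveI := hQp.center_nontrivial
    obtain ⟨⟨z, hz⟩, hz1⟩ := exists_ne (1 : Subgroup.center Q)
    have hzc : ∀ q ∈ Q, q * (z : G) = z * q := fun q hq =>
      congrArg Subtype.val (Subgroup.mem_center_iff.1 hz ⟨q, hq⟩)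
    set Qt := Q ⊓ (Y ⊓ Subgroup.centralizer {T.t}) with hQt
    have hVQt : T.V ≤ Qt := fun v hv => ⟨hVQ hv, hVY hv, hv.2⟩
    have hQtV : T.V = Qt := Subgroup.eq_of_le_of_card_ge hVQt (by
      rw [T.V_card]; exact small Qt (hQp.to_le inf_le_left) T.t (Or.inl rfl) inf_le_right)
    have hzY : (z : G) ∈ Y := Subgroup.map_subtype_le _ z.2
    have hzV : (z : G) ∈ T.V := by
      rw [hQtV]
      exact ⟨z.2, hzY, Subgroup.mem_centralizer_singleton_iff.2 (hzc T.t htQ).symm⟩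
    have hzne : (z : G) ≠ 1 := fun h => hz1 (Subtype.ext (Subtype.ext h))
    refine small Q hQp z ((T.mem_V.1 hzV).resolve_left hzne) fun q hq =>
      ⟨Subgroup.map_subtype_le _ hq, Subgroup.mem_centralizer_singleton_iff.2 (hzc q hq)⟩
  have hSV : ∀ s : Y, s ∈ (S : Subgroup Y) ↔ (s : G) ∈ T.V := fun s => by
    rw [← hQ]
    exact ⟨fun h => ⟨s, h, rfl⟩, fun ⟨s', h, e⟩ => Subtype.ext e ▸ h⟩
  have hS4 : Nat.card (S : Subgroup Y) = 4 := by
    rw [← T.V_card, ← hQ, Subgroup.card_map_of_injective Y.subtype_injective]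
  have hsq : ∀ x ∈ (S : Subgroup Y), x * x = 1 := fun x hx => Subtype.ext (T.V_sq ((hSV x).1 hx))
  have heY : e ∈ Y := Subgroup.mem_centralizer_singleton_iff.2 (hEty e he)
  set eY : Y := ⟨e, heY⟩ with heYdef
  have heo : Odd (orderOf eY) := by
    rw [heYdef, Subgroup.orderOf_mk]
    exact (R.hp.odd_of_ne_two R.hp2).of_dvd_nat (orderOf_dvd_of_pow_eq_one (R.hEt_pow e he))
  suffices h : eY ∈ Cfsg.oddCore Y from ⟨eY, h, rfl⟩
  by_cases hfus : ∃ g ∈ Subgroup.normalizer ((S : Subgroup Y) : Set Y), ∃ x ∈ (S : Subgroup Y), g * x * g⁻¹ ≠ x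
  · have hmap : Y.map (MulAut.conj R.J).toMonoidHom = Y := by
      refine Subgroup.eq_of_le_of_card_ge ?_ (Subgroup.card_map_of_injective (MulAut.conj R.J).injective).ge
      rintro _ ⟨x, hx, rfl⟩
      refine Subgroup.mem_centralizer_singleton_iff.2 ?_
      have hx' : x * y = y * x := Subgroup.mem_centralizer_singleton_iff.1 hx
      show R.J * x * R.J⁻¹ * y = y * (R.J * x * R.J⁻¹)
      have hJy : R.J * y⁻¹ * R.J⁻¹ = y := by
        rw [R.hJinv y⁻¹ (inv_mem hyEt), inv_inv]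
      calc R.J * x * R.J⁻¹ * y = R.J * x * R.J⁻¹ * (R.J * y⁻¹ * R.J⁻¹) := by rw [hJy]
        _ = R.J * (x * y⁻¹) * R.J⁻¹ := by group
        _ = R.J * (y⁻¹ * x) * R.J⁻¹ := by rw [((show Commute x y from hx').inv_right).eq]
        _ = (R.J * y⁻¹ * R.J⁻¹) * (R.J * x * R.J⁻¹) := by group
        _ = _ := by rw [hJy]
    let α : MulAut Y := ((MulAut.conj R.J).subgroupMap Y).trans (MulEquiv.subgroupCongr hmap)
    have hα : ∀ x : Y, (α x : G) = R.J * x * R.J⁻¹ := fun x => rfl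
    refine GWFacts.torus_mem_core S hS4 hsq hfus α (t := ⟨T.t, hVY (T.mem_V.2 (Or.inr (Or.inl rfl)))⟩)
      (w := ⟨T.t', hVY (T.mem_V.2 (Or.inr (Or.inr (Or.inl rfl))))⟩) ?_ ?_ ?_ ?_ ?_ ?_ ?_ ?_ ?_ ?_ ?_ heo
    · exact (hSV _).2 (T.mem_V.2 (Or.inr (Or.inl rfl)))
    · exact (hSV _).2 (T.mem_V.2 (Or.inr (Or.inr (Or.inl rfl))))
    · exact fun h => T.ht1 (congrArg Subtype.val h)
    · exact fun h => T.ht'1 (congrArg Subtype.val h)
    · exact fun h => T.hne (congrArg Subtype.val h)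
    · refine Subtype.ext ((hα _).trans ?_)
      show R.J * T.t * R.J⁻¹ = T.t
      rw [← R.hJJ]; group
    · exact Subtype.ext ((hα _).trans R.hJt')
    · intro x
      refine Subtype.ext ?_
      show R.J * (R.J * x * R.J⁻¹) * R.J⁻¹ = T.t * x * T.t⁻¹
      rw [← R.hJJ]; group
    · exact Subtype.ext (R.hEt_t e he)
    · exact Subtype.ext hte
    · exact Subtype.ext ((hα _).trans (R.hJinv e he))
  · push Not at hfus
    have hle : Subgroup.normalizer ((S : Subgroup Y) : Set Y) ≤ Subgroup.centralizer ((S : Subgroup Y) : Set Y) :=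
      fun g hg => Subgroup.mem_centralizer_iff.2 fun x hx => (mul_inv_eq_iff_eq_mul.1 (hfus g hg x hx)).symm
    set N := (MonoidHom.transferSylow S hle).ker
    have hN : Odd (Nat.card N) := by
      rw [Nat.odd_iff, ← Nat.two_dvd_ne_zero]
      exact MonoidHom.not_dvd_card_ker_transferSylow S hle
    refine Agent.Cores.le_oddCore hN ?_
    show MonoidHom.transferSylow S hle eY = 1
    set v := MonoidHom.transferSylow S hle eY
    have hv2 : orderOf v ∣ 2 := orderOf_dvd_of_pow_eq_one (Subtype.ext (by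
      rw [SubgroupClass.coe_pow, pow_two]; exact hsq v v.2))
    exact orderOf_eq_one_iff.1 (Nat.eq_one_of_dvd_coprimes (Nat.coprime_two_left.2 heo) hv2
      (orderOf_map_dvd _ eY))

theorem OddData.part_le {y : G} (hy : R.Good y) :
    Nat.card ↥(centCore y ⊓ (Subgroup.centralizer {T.t} ⊓ Subgroup.centralizer {T.t'})) * R.r ≤
      Nat.card ↥(centCore y ⊓ Subgroup.centralizer {T.t}) := by
  have hdbl : ∀ g : G, g * T.t = T.t * g → T.t' * g * T.t'⁻¹ * T.t = T.t * (T.t' * g * T.t'⁻¹) := fun g hg =>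
    T.comm_mul (T.comm_mul T.hcomm.symm hg) (T.comm_inv T.hcomm.symm)
  have hnorm : ∀ x ∈ centCore y ⊓ Subgroup.centralizer {T.t},
      T.t' * x * T.t'⁻¹ ∈ centCore y ⊓ Subgroup.centralizer {T.t} := fun x hx =>
    ⟨centCore_norm hy.2.1.symm x hx.1,
      Subgroup.mem_centralizer_singleton_iff.2 (hdbl x (Subgroup.mem_centralizer_singleton_iff.1 hx.2))⟩
  have hodd : Odd (Nat.card ↥(centCore y ⊓ Subgroup.centralizer {T.t})) :=
    (centCore_odd y).of_dvd_nat (Subgroup.card_dvd_of_le inf_le_left)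
  rw [Involutions.InvertedSet.card_eq hodd T.ht't' hnorm, inf_assoc]
  refine Nat.mul_le_mul_left _ ?_
  have hcard : Nat.card (Cfsg.invertedBy R.Et T.t') = R.r := by
    have hoddE : Odd (Nat.card R.Et) := by rw [R.hEt_card]; exact R.r_odd.mul R.r_odd
    have h := Involutions.InvertedSet.card_eq hoddE T.ht't' R.hEt_t'
    rw [R.hEt_card, R.hEt_cent] at h
    exact (Nat.eq_of_mul_eq_mul_left (by have := R.hr3; omega) h).symm
  rw [← hcard]
  refine Nat.card_le_card_of_injective (fun e => ⟨e.1, ⟨R.inv_le hy e.2.1 e.2.2,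
    Subgroup.mem_centralizer_singleton_iff.2 (R.hEt_t _ e.2.1)⟩, e.2.2⟩) ?_
  intro a b h
  exact Subtype.ext (congrArg (fun z : Cfsg.invertedBy (centCore y ⊓ Subgroup.centralizer {T.t}) T.t' => (z : G)) h)

theorem OddData.core_big {y : G} (hy : R.Good y) :
    R.p * R.r ^ 3 ≤ Nat.card (centCore y) ∧ ∃ i, Nat.card (centCore y) = R.p ^ i := by
  classical
  obtain ⟨hy1, hy2, hy3, hy4⟩ := id hy
  set F := centCore y with hF
  have hdom : Subgroup.centralizer ({T.t, T.t'} : Set G) =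
      Subgroup.centralizer {T.t} ⊓ Subgroup.centralizer {T.t'} := by
    ext g
    simp [Subgroup.mem_centralizer_iff, Subgroup.mem_inf]
  set a := Nat.card ↥(F ⊓ (Subgroup.centralizer {T.t} ⊓ Subgroup.centralizer {T.t'})) with ha
  have hkl := Jordan4.card_klein (centCore_odd y) T.htt T.ht't' T.hcomm
    (centCore_norm hy1.symm) (centCore_norm hy2.symm)
  rw [hdom] at hkl
  -- transport along the element of order three
  set V2 : Subgroup G := Subgroup.centralizer {T.t} ⊓ Subgroup.centralizer {T.t'}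
  have transport : ∀ z w : G,
      Nat.card ↥(centCore (T.α⁻¹ * z * T.α) ⊓ Subgroup.centralizer {w}) =
        Nat.card ↥(centCore z ⊓ Subgroup.centralizer {T.α * w * T.α⁻¹}) ∧
      Nat.card ↥(centCore (T.α⁻¹ * z * T.α) ⊓ V2) = Nat.card ↥(centCore z ⊓ V2) := by
    intro z w
    have hz : centCore z = (centCore (T.α⁻¹ * z * T.α)).map (MulAut.conj T.α).toMonoidHom := by
      rw [← centCore_conj]; congr 1; group
    have hiff : ∀ x v : G, T.α * x * T.α⁻¹ * (T.α * v * T.α⁻¹) = T.α * v * T.α⁻¹ * (T.α * x * T.α⁻¹) ↔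
        x * v = v * x := fun x v => by
      rw [show T.α * x * T.α⁻¹ * (T.α * v * T.α⁻¹) = T.α * (x * v) * T.α⁻¹ by group,
        show T.α * v * T.α⁻¹ * (T.α * x * T.α⁻¹) = T.α * (v * x) * T.α⁻¹ by group, mul_left_inj, mul_right_inj]
    constructor
    · refine Nat.card_congr (Equiv.subtypeEquiv (MulAut.conj T.α).toEquiv fun x => ?_)
      simp only [Subgroup.mem_inf, Subgroup.mem_centralizer_singleton_iff, MulEquiv.toEquiv_eq_coe,
        EquivLike.coe_coe, MulAut.conj_apply]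
      rw [hiff, hz]
      exact and_congr_left fun _ => ⟨fun h => ⟨x, h, rfl⟩, fun ⟨x', h, e⟩ => (MulAut.conj T.α).injective e ▸ h⟩
    · refine Nat.card_congr (Equiv.subtypeEquiv (MulAut.conj T.α).toEquiv fun x => ?_)
      simp only [V2, Subgroup.mem_inf, Subgroup.mem_centralizer_singleton_iff, MulEquiv.toEquiv_eq_coe,
        EquivLike.coe_coe, MulAut.conj_apply]
      have hmem : (x ∈ centCore (T.α⁻¹ * z * T.α)) ↔ T.α * x * T.α⁻¹ ∈ centCore z := by
        rw [hz]
        exact ⟨fun h => ⟨x, h, rfl⟩, fun ⟨x', h, e⟩ => (MulAut.conj T.α).injective e ▸ h⟩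
      rw [hmem]
      refine and_congr_right fun _ => ?_
      set X := T.α * x * T.α⁻¹ with hX
      have e1 : x * T.t = T.t * x ↔ X * T.t' = T.t' * X := by rw [← hiff x T.t, T.hαt]
      have e2 : x * T.t' = T.t' * x ↔ X * (T.t * T.t') = T.t * T.t' * X := by rw [← hiff x T.t', T.hαt']
      rw [e1, e2]
      constructor
      · rintro ⟨h1, h2⟩
        refine ⟨?_, h1⟩
        have h3 : X * (T.t * T.t' * T.t') = T.t * T.t' * T.t' * X := by
          rw [← mul_assoc X, h2, mul_assoc, h1, ← mul_assoc]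
        rwa [mul_assoc T.t, T.ht't', mul_one] at h3
      · rintro ⟨h1, h2⟩
        exact ⟨h2, by rw [← mul_assoc, h1, mul_assoc, h2, mul_assoc]⟩
  set y' := T.α⁻¹ * y * T.α
  set y'' := T.α⁻¹ * y' * T.α
  have hy' : R.Good y' := R.good_conj hy
  have hy'' : R.Good y'' := R.good_conj hy'
  have p1 := R.part_le hy
  have p2 := R.part_le hy'
  rw [(transport y T.t).1, (transport y T.t).2, T.hαt] at p2
  have p3 := R.part_le hy''
  rw [(transport y' T.t).1, (transport y' T.t).2, T.hαt, (transport y T.t').1, (transport y T.t).2, T.hαt'] at p3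
  have hap : R.p ≤ a := by
    have hyF : y ∈ F := by
      refine centCore_max (N := Subgroup.zpowers y) ?_ ?_ ?_ (Subgroup.mem_zpowers y)
      · exact Subgroup.zpowers_le.2 (Subgroup.mem_centralizer_singleton_iff.2 rfl)
      · rintro g hg _ ⟨i, rfl⟩
        have := ((show Commute g y from hg).zpow_right i).eq
        show g * y ^ i * g⁻¹ ∈ _
        rw [this, mul_inv_cancel_right]
        exact ⟨i, rfl⟩
      · rw [Nat.card_zpowers]
        exact (R.hp.odd_of_ne_two R.hp2).of_dvd_nat (orderOf_dvd_of_pow_eq_one hy3)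
    have ho : orderOf y = R.p := (R.hp.eq_one_or_self_of_dvd _ (orderOf_dvd_of_pow_eq_one hy3)).resolve_left
      fun h => hy4 (orderOf_eq_one_iff.1 h)
    rw [← ho, ← Nat.card_zpowers, ha]
    exact Subgroup.card_le_of_le (Subgroup.zpowers_le.2 ⟨hyF, Subgroup.mem_centralizer_singleton_iff.2 hy1,
      Subgroup.mem_centralizer_singleton_iff.2 hy2⟩)
  constructor
  · have hprod : a * R.r * (a * R.r) * (a * R.r) ≤ Nat.card F * a ^ 2 := by
      rw [hkl]
      exact Nat.mul_le_mul (Nat.mul_le_mul p1 p2) p3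
    have hpos : 0 < a ^ 2 := pow_pos (lt_of_lt_of_le R.hp.pos hap) 2
    have h : a * R.r ^ 3 * a ^ 2 ≤ Nat.card F * a ^ 2 := le_trans (le_of_eq (by ring)) hprod
    exact le_trans (Nat.mul_le_mul_right _ hap) (Nat.le_of_mul_le_mul_right h hpos)
  · have hdiv : ∀ w, (w = T.t ∨ w = T.t' ∨ w = T.t * T.t') →
        Nat.card ↥(F ⊓ Subgroup.centralizer {w}) ∣ 4 * (R.r * R.r) := fun w hw => by
      rw [← R.card_cent hy hw]
      exact Subgroup.card_dvd_of_le (inf_le_inf_right _ (centCore_le y))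
    have h : Nat.card F ∣ (4 * (R.r * R.r)) * (4 * (R.r * R.r)) * (4 * (R.r * R.r)) :=
      (Dvd.intro _ hkl).trans (mul_dvd_mul (mul_dvd_mul (hdiv _ (Or.inl rfl)) (hdiv _ (Or.inr (Or.inl rfl))))
        (hdiv _ (Or.inr (Or.inr rfl))))
    have hco : (Nat.card F).Coprime (2 ^ 6) := Nat.Coprime.pow_right 6 (Nat.coprime_two_right.2 (centCore_odd y))
    have h2 : Nat.card F ∣ R.p ^ (6 * R.k) := hco.dvd_of_dvd_mul_left (by
      refine dvd_trans h (dvd_of_eq ?_)
      rw [R.hrk]; ring)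
    obtain ⟨i, -, hi⟩ := (Nat.dvd_prime_pow R.hp).1 h2
    exact ⟨i, hi⟩

theorem OddData.elim (hdeg : 3 * (Fintype.card Ω - T.f) = 2 * (T.f * (T.f - 1))) : False := by
  classical
  haveI : Fact R.p.Prime := ⟨R.hp⟩
  obtain ⟨⟨y, hyEt, hyt'⟩, hy1⟩ : ∃ y : ↥(R.Et ⊓ Subgroup.centralizer ({T.t'} : Set G)), y ≠ 1 := by
    haveI := Finite.one_lt_card_iff_nontrivial.1 (show 1 < Nat.card ↥(R.Et ⊓ Subgroup.centralizer ({T.t'} : Set G)) by
      rw [R.hEt_cent]; have := R.hr3; omega)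
    exact exists_ne 1
  have hy : R.Good y := ⟨R.hEt_t y hyEt, Subgroup.mem_centralizer_singleton_iff.1 hyt', R.hEt_pow y hyEt,
    fun h => hy1 (Subtype.ext h)⟩
  obtain ⟨hbig, i, hi⟩ := R.core_big hy
  have hdvd : R.p ^ i ∣ Nat.card G := hi ▸ (centCore y).card_subgroup_dvd_card
  set n := Fintype.card Ω with hn
  set f := T.f with hf
  have hflt := T.f_lt
  have hf2 := T.two_le_f
  have h3n : 3 * n = f * (2 * f + 1) := by
    zify [(show f ≤ n from hflt.le), (show 1 ≤ f by omega)] at hdeg ⊢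
    linear_combination hdeg
  have h3n1 : 3 * (n - 1) = (2 * f + 3) * (f - 1) := by
    zify [(by omega : 1 ≤ n), (by omega : 1 ≤ f)] at h3n ⊢
    linear_combination h3n
  have hG : 9 * Nat.card G = 60 * f * ((2 * f + 1) * ((2 * f + 3) * (f - 1))) := by
    rw [C.card_G, ← hn, show 9 * (60 * (n * (n - 1))) = 60 * (3 * n) * (3 * (n - 1)) by ring, h3n, h3n1]
    ring
  have hfk : f = R.p ^ (2 * R.k) := by rw [hf, R.hf, R.hrk]; ring
  have hk0 : R.k ≠ 0 := fun h => by have := R.hr3; rw [R.hrk, h, pow_zero] at this; omega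
  have hpf : R.p ∣ f := hfk ▸ dvd_pow_self _ (by omega)
  have hcop : ∀ m : ℕ, ¬ R.p ∣ m → (R.p ^ i).Coprime m := fun m hm =>
    Nat.Coprime.pow_left i ((R.hp.coprime_iff_not_dvd).2 hm)
  have h1 : ¬ R.p ∣ 2 * f + 1 := fun h => R.hp.not_dvd_one (by
    simpa using Nat.dvd_sub h (dvd_mul_of_dvd_right hpf 2))
  have h2 : ¬ R.p ∣ f - 1 := fun h => R.hp.not_dvd_one (by
    have := Nat.dvd_sub hpf h
    rwa [show f - (f - 1) = 1 by omega] at this)
  have hbound : R.p ^ i ∣ 5 * f := by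
    by_cases hp3 : R.p = 3
    · have hne : ∃ q, 2 * f + 3 = 3 * q ∧ ¬ 3 ∣ q := by
        have h9 : 9 ∣ f := by
          rw [hfk, hp3]
          exact (pow_dvd_pow 3 (show 2 ≤ 2 * R.k by omega))
        obtain ⟨c, hc⟩ := h9
        exact ⟨6 * c + 1, by omega, by omega⟩
      obtain ⟨q, hq, hq3⟩ := hne
      have h9G : 9 * R.p ^ i ∣ 9 * (20 * (f * ((2 * f + 1) * (q * (f - 1))))) := by
        refine dvd_trans (mul_dvd_mul_left 9 hdvd) (dvd_of_eq ?_)
        rw [hG, hq]; ring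
      have h5 := Nat.dvd_of_mul_dvd_mul_left (by norm_num) h9G
      have h20 : ¬ R.p ∣ 20 := by rw [hp3]; norm_num
      refine dvd_mul_of_dvd_right ?_ 5
      refine ((hcop _ h1).dvd_of_dvd_mul_right (?_ : R.p ^ i ∣ f * (2 * f + 1)))
      refine (hcop _ (fun h => ?_)).dvd_of_dvd_mul_right
        (((hcop _ h20).dvd_of_dvd_mul_left h5).trans (dvd_of_eq (by ring : _ = f * (2 * f + 1) * (q * (f - 1)))))
      rcases R.hp.dvd_mul.1 h with h' | h'
      · exact hq3 (hp3 ▸ h')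
      · exact h2 h'
    · have h3 : ¬ R.p ∣ 2 * f + 3 := fun h => hp3 ((Nat.prime_dvd_prime_iff_eq R.hp Nat.prime_three).1 (by
        simpa using Nat.dvd_sub h (dvd_mul_of_dvd_right hpf 2)))
      have h5 : R.p ^ i ∣ 60 * f * ((2 * f + 1) * ((2 * f + 3) * (f - 1))) := hG ▸ dvd_mul_of_dvd_right hdvd 9
      have h12 : ¬ R.p ∣ 12 := fun h => by
        have hle := Nat.le_of_dvd (by norm_num) h
        have hpp := R.hp
        have hp2 := R.hp2
        interval_cases hq : R.p <;> first | omega | norm_num at hpp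
      refine (hcop _ h12).dvd_of_dvd_mul_left ?_
      refine ((hcop _ (fun h => ?_)).dvd_of_dvd_mul_right h5).trans (dvd_of_eq (by ring))
      rcases R.hp.dvd_mul.1 h with h' | h'
      · exact h1 h'
      · rcases R.hp.dvd_mul.1 h' with h'' | h''
        · exact h3 h''
        · exact h2 h''
  have hle := Nat.le_of_dvd (by omega) hbound
  rw [← hi] at hle
  have h9 : 3 * 3 ≤ R.p * R.r := Nat.mul_le_mul (by have := R.hp.two_le; have := R.hp2; omega) R.hr3
  have : R.p * R.r * (R.r * R.r) ≤ 5 * (R.r * R.r) := by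
    calc R.p * R.r * (R.r * R.r) = R.p * R.r ^ 3 := by ring
      _ ≤ _ := hbig.trans hle
      _ = 5 * (R.r * R.r) := by rw [hf, R.hf]
  have := Nat.le_of_mul_le_mul_right this (Nat.mul_pos (by have := R.hr3; omega) (by have := R.hr3; omega))
  omega

end Cfsg.Agent.TwoPointA5
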