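import Mathlib
import Cfsg.Agent.Lib.TwoPointA5.SharpFix

/-!
# A central swapper outside the class of `t` does not exist
-/

set_option autoImplicit false
set_option linter.unusedSectionVars false
set_option linter.unusedVariables false
set_option linter.style.haveILetI false

namespace Cfsg.Agent.TwoPointA5

open MulAction

variable {G Ω : Type*} [Group G] [Finite G] [Fintype Ω] [MulAction G Ω] [FaithfulSMul G Ω] {C : Cfg G Ω} {τ : G}

/-- involutions exchanging `a` and `b` -/
theorem Cfg.IsTau.swapper (hτ : C.IsTau τ) {w : G} (hwa : w • C.a = C.b) (hwb : w • C.b = C.a) (hw : w * w = 1) :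
    ∃ k ∈ C.K, k * k = 1 ∧ w = τ * k := by
  obtain ⟨h1, h2, h3, h4⟩ := hτ
  have hk : τ * w ∈ C.K := ⟨show _ • C.a = C.a by rw [mul_smul, hwa, h2], show _ • C.b = C.b by rw [mul_smul, hwb, h1]⟩
  have hτw : τ * (τ * w) = w := by rw [← mul_assoc, h3, one_mul]
  refine ⟨τ * w, hk, ?_, hτw.symm⟩
  rw [← mul_assoc (τ * w) τ w, h4 _ hk, hτw, hw]

theorem Cfg.IsTau.comm_t (hτ : C.IsTau τ) (T : Tri C) : τ * T.t = T.t * τ := (hτ.2.2.2 _ T.ht).symm

theorem Cfg.IsTau.ne_one (hτ : C.IsTau τ) : τ ≠ 1 := fun h => C.hab (by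
  have := hτ.1; rw [h, one_smul] at this; exact this)

/-- the product with an involution of `K` -/
theorem Cfg.IsTau.mul_invol_conj (hτ : C.IsTau τ) (T : Tri C) {k : G} (hk : k ∈ C.K) (hkk : k * k = 1) (hk1 : k ≠ 1) :
    τ * k ∈ T.cls ↔ τ * T.t ∈ T.cls := by
  obtain ⟨g, hg, hgk⟩ := C.invol_conj_K T.ht T.htt T.ht1 hk hkk hk1
  have h : τ * k = g * (τ * T.t) * g⁻¹ := by
    rw [← hgk, show g * (τ * T.t) * g⁻¹ = g * τ * (T.t * g⁻¹) by group, hτ.2.2.2 g hg]; group
  constructor
  · intro h'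
    have := T.cls_conj g⁻¹ _ h'
    rwa [h, show g⁻¹ * (g * (τ * T.t) * g⁻¹) * g⁻¹⁻¹ = τ * T.t by group] at this
  · intro h'
    rw [h]; exact T.cls_conj _ _ h'

/-- `τ` is not conjugate to `t`: impossible -/
theorem Cfg.IsTau.mem_cls (hτ : C.IsTau τ) (T : Tri C) : τ ∈ T.cls := by
  classical
  by_contra hτc
  obtain ⟨hτa, hτb, hττ, hτK⟩ := id hτ
  have hf0 : fixCard Ω τ ≤ 1 := by
    by_contra h
    obtain ⟨⟨x, hx⟩, ⟨y, hy⟩, hxy⟩ := Fintype.one_lt_card_iff.1 (show 1 < Fintype.card {x : Ω // τ • x = x} by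
      rw [← Nat.card_eq_fintype_card]; exact not_le.1 h)
    exact hτc (T.mem_cls.2 (T.conj_of_fix hττ hτ.ne_one (fun e => hxy (Subtype.ext e)) hx hy))
  -- all products with involutions of `K` are conjugate to `t`
  have hfilter : ∀ u ∈ T.cls, u • C.a = C.b → u • C.b = C.a →
      ∃ k ∈ C.K, k * k = 1 ∧ k ≠ 1 ∧ u = τ * k := fun u hu h1 h2 => by
    obtain ⟨k, hk, hkk, rfl⟩ := hτ.swapper h1 h2 (T.cls_sq u hu)
    exact ⟨k, hk, hkk, fun e => hτc (by rwa [e, mul_one] at hu), rfl⟩
  have hτt : τ * T.t ∈ T.cls := by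
    by_contra h
    have hk0 : T.k = 0 := by
      unfold Tri.k
      rw [Finset.card_eq_zero]
      refine Finset.filter_eq_empty_iff.2 fun u hu hu' => ?_
      obtain ⟨k, hk, hkk, hk1, rfl⟩ := hfilter u hu hu'.1 hu'.2
      exact h ((hτ.mul_invol_conj T hk hkk hk1).1 hu)
    have := T.deg_eq
    have := T.f_lt
    rw [hk0, zero_mul] at *
    omega
  have hk15 : T.k = 15 := by
    unfold Tri.k
    rw [← alt_invol_card]
    symm
    refine Finset.card_bij (fun u _ => τ * (C.e.symm u : G)) ?_ ?_ ?_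
    · intro u hu
      obtain ⟨-, hu2, hu1⟩ := Finset.mem_filter.1 hu
      have hkk : (C.e.symm u : G) * (C.e.symm u : G) = 1 := by
        rw [← Subgroup.coe_mul, ← map_mul, hu2, map_one, OneMemClass.coe_one]
      have hk1 : (C.e.symm u : G) ≠ 1 := fun h => hu1 (C.e.symm.injective (Subtype.ext (h.trans (by simp))))
      have hK := (C.e.symm u).2
      refine Finset.mem_filter.2 ⟨(hτ.mul_invol_conj T hK hkk hk1).2 hτt, ?_, ?_⟩
      · rw [mul_smul, hK.1, hτa]
      · rw [mul_smul, hK.2, hτb]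
    · intro u _ v _ h
      exact C.e.symm.injective (Subtype.ext (mul_left_cancel h))
    · intro w hw
      obtain ⟨hw1, hw2, hw3⟩ := Finset.mem_filter.1 hw
      obtain ⟨k, hk, hkk, hk1, rfl⟩ := hfilter w hw1 hw2 hw3
      refine ⟨C.e ⟨k, hk⟩, Finset.mem_filter.2 ⟨Finset.mem_univ _, ?_, fun h => hk1 ?_⟩, by simp⟩
      · rw [← map_mul, ← map_one C.e]; exact congrArg _ (Subtype.ext hkk)
      · exact congrArg Subtype.val (C.e.injective (h.trans (map_one _).symm))
  -- the degree is a square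
  have hn : Fintype.card Ω = T.f * T.f := by
    have h1 := T.deg_eq
    rw [hk15] at h1
    have h2 := Nat.eq_of_mul_eq_mul_left (by norm_num : 0 < 15) h1
    have h3 := T.f_lt
    obtain ⟨m, hm⟩ : ∃ m, T.f = m + 1 := ⟨T.f - 1, by have := T.two_le_f; omega⟩
    rw [hm, Nat.add_sub_cancel] at h2
    rw [hm] at h3 ⊢
    nlinarith [Nat.sub_add_cancel h3.le]
  haveI := Fintype.ofFinite G
  -- the conjugates of `τ`
  let S : Finset G := Finset.univ.filter fun u : G => ∃ h : G, u = h * τ * h⁻¹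
  have hSc : ∀ g : G, ∀ u ∈ S, g * u * g⁻¹ ∈ S := fun g u hu => by
    obtain ⟨h, rfl⟩ := (Finset.mem_filter.1 hu).2
    exact Finset.mem_filter.2 ⟨Finset.mem_univ _, g * h, by group⟩
  have hSsq : ∀ u ∈ S, u * u = 1 := fun u hu => by
    obtain ⟨h, rfl⟩ := (Finset.mem_filter.1 hu).2
    rw [show h * τ * h⁻¹ * (h * τ * h⁻¹) = h * (τ * τ) * h⁻¹ by group, hττ]; group
  have hSfix : ∀ u ∈ S, fixCard Ω u = fixCard Ω τ := fun u hu => by
    obtain ⟨h, rfl⟩ := (Finset.mem_filter.1 hu).2
    exact T.fixCard_conj _ _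
  have hτS : τ ∈ S := Finset.mem_filter.2 ⟨Finset.mem_univ _, 1, by group⟩
  have honly : ∀ u ∈ S, u • C.a = C.b → u • C.b = C.a → u = τ := fun u hu h1 h2 => by
    obtain ⟨k, hk, hkk, rfl⟩ := hτ.swapper h1 h2 (hSsq u hu)
    by_cases hk1 : k = 1
    · rw [hk1, mul_one]
    · have h3 := (hτ.mul_invol_conj T hk hkk hk1).2 hτt
      have h4 := hSfix _ hu
      have h5 := T.cls_fix _ h3
      have := T.two_le_f
      omega
  have hpar := fixCard_parity (Φ := Ω) hττ
  rcases Nat.le_one_iff_eq_zero_or_eq_one.1 hf0 with hf | hf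
  · -- no fixed point
    have hfev : Even T.f := by
      have h : Even (Fintype.card Ω) := Nat.even_iff.2 (by omega)
      rw [hn, Nat.even_mul] at h
      exact h.elim id id
    have hfree : ∀ x : Ω, τ • x ≠ x := fun x hx => by
      rw [fixCard, Nat.card_eq_fintype_card, Fintype.card_eq_zero_iff] at hf
      exact hf.false ⟨x, hx⟩
    have hτt' : τ * T.t = T.t * τ := hτ.comm_t T
    have hresfree : ∀ x : FixSet Ω T.t, T.res hτt' • x ≠ x := fun x hx =>
      hfree x ((T.res_apply hτt' x).symm.trans (congrArg Subtype.val hx))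
    obtain ⟨k, hk⟩ : ∃ k, T.f = 2 ^ k := by
      by_cases hB : T.Big
      · obtain ⟨k, hk, -⟩ := T.f_two_pow_of_big hB hfev
        exact ⟨k, hk⟩
      · set D := T.twoTwo hB with hD
        have hresinv : T.res hτt' * T.res hτt' = 1 := Subtype.ext (Equiv.ext fun x => Subtype.ext (by
          show τ • τ • (x : Ω) = _
          rw [← mul_smul, hττ, one_smul]; rfl))
        have hres1 : T.res hτt' ≠ 1 := fun h => hresfree ⟨C.a, T.ht.1⟩ (by rw [h, one_smul])
        have hk1 : D.k = 1 := by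
          by_contra h
          have h2 : D.k = 2 := by have := D.k_bounds; omega
          obtain ⟨g, hg⟩ := D.all_conj_of_k_two h2 hresinv hres1
          have h0 : fixCard (FixSet Ω T.t) (T.res hτt') = 0 := by
            rw [fixCard, Nat.card_eq_zero]
            exact Or.inl ⟨fun x => hresfree x.1 x.2⟩
          rw [hg, D.fixCard_conj] at h0
          have h3 : 2 ≤ fixCard (FixSet Ω T.t) D.s := D.two_le_r
          omega
        have hdeg := D.deg_of_k_one hk1
        rw [T.card_fixSet] at hdeg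
        obtain ⟨k, hk, -⟩ := D.r_two_pow (by
          rw [hdeg, Nat.even_mul] at hfev
          exact hfev.elim id id)
        exact ⟨k + k, by rw [hdeg, hk, pow_add]⟩
    obtain ⟨E, hE, hr, -, -⟩ := exists_regular_of_fpf C.h2 hττ hτ.ne_one hfree
      (m := k + k) (by rw [hn, hk, pow_add]) fun g c hgc hgd hinv hodd => by
        obtain ⟨m, hma, hmb⟩ := C.exists_move (hfree c).symm
        have hτ' : m⁻¹ * τ * m = τ := by
          refine honly _ (Finset.mem_filter.2 ⟨Finset.mem_univ _, m⁻¹, by rw [inv_inv]⟩) ?_ ?_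
          · rw [mul_smul, mul_smul, hma, ← hmb, inv_smul_smul]
          · rw [mul_smul, mul_smul, hmb, ← mul_smul τ τ, hττ, one_smul, ← hma, inv_smul_smul]
        have hK : m⁻¹ * g * m ∈ C.K :=
          ⟨show _ • C.a = C.a by rw [mul_smul, mul_smul, hma, hgc, ← hma, inv_smul_smul],
            show _ • C.b = C.b by rw [mul_smul, mul_smul, hmb, hgd, ← hmb, inv_smul_smul]⟩
        have hc := hτK _ hK
        have h1 : τ * g * τ⁻¹ = g := by
          have e : g * τ = τ * g := by
            calc g * τ = m * (m⁻¹ * g * m * (m⁻¹ * τ * m)) * m⁻¹ := by group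
              _ = m * (τ * (m⁻¹ * g * m)) * m⁻¹ := by rw [hτ', hc]
              _ = m * (m⁻¹ * τ * m * (m⁻¹ * g * m)) * m⁻¹ := by rw [hτ']
              _ = τ * g := by group
          rw [← e, mul_inv_cancel_right]
        rw [h1] at hinv
        have h2 : g ^ 2 = 1 := by rw [pow_two]; nth_rewrite 2 [hinv]; exact mul_inv_cancel g
        rcases (Nat.dvd_prime Nat.prime_two).1 (orderOf_dvd_of_pow_eq_one h2) with h3 | h3
        · exact orderOf_eq_one_iff.1 h3
        · rw [h3] at hodd; norm_num at hodd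
    haveI := hE
    exact C.not_regular E hr
  · -- one fixed point: `τ` is isolated
    have h1 : 1 < Fintype.card Ω := by have := C.three_le; omega
    have hcard : S.card = Fintype.card Ω := by
      have h := card_swapped C.h2 S hSc hSsq (f := 1) (fun u hu => (hSfix u hu).trans hf) C.hab
      rw [show S.filter (fun u => u • C.a = C.b ∧ u • C.b = C.a) = {τ} from ?_, Finset.card_singleton, mul_one] at h
      · exact Nat.eq_of_mul_eq_mul_right (by omega) h
      · ext u
        simp only [Finset.mem_filter, Finset.mem_singleton]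
        exact ⟨fun h => honly u h.1 h.2.1 h.2.2, fun h => h ▸ ⟨hτS, hτa, hτb⟩⟩
    have hpt : ∀ u ∈ S, ∃ x : Ω, u • x = x := fun u hu => by
      obtain ⟨⟨x, hx⟩⟩ := (Nat.card_pos_iff.1 (by
        have := (hSfix u hu).trans hf; unfold fixCard at this; omega : 0 < Nat.card {x : Ω // u • x = x})).1
      exact ⟨x, hx⟩
    choose pt hpt using hpt
    have huniq : ∀ u (hu : u ∈ S) x, u • x = x → x = pt u hu := fun u hu x hx => by
      have h := (Nat.card_eq_one_iff_unique.1 ((hSfix u hu).trans hf)).1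
      exact congrArg Subtype.val (@Subsingleton.elim _ h (⟨x, hx⟩ : {x : Ω // u • x = x}) ⟨pt u hu, hpt u hu⟩)
    haveI : IsMultiplyPretransitive G Ω 2 := C.h2
    haveI : IsPretransitive G Ω := isPretransitive_of_is_two_pretransitive
    let F : S → Ω := fun u => pt u.1 u.2
    have hsurj : Function.Surjective F := fun x => by
      obtain ⟨g, hg⟩ := exists_smul_eq G (pt τ hτS) x
      refine ⟨⟨g * τ * g⁻¹, hSc g τ hτS⟩, (huniq _ (hSc g τ hτS) x ?_).symm⟩
      rw [← hg, mul_smul, mul_smul, inv_smul_smul, hpt]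
    have hinj : Function.Injective F := ((Fintype.bijective_iff_surjective_and_card F).2
      ⟨hsurj, by rw [Fintype.card_coe, hcard]⟩).1
    have hiso : Cfsg.IsIsolatedInvolution τ := by
      refine ⟨orderOf_eq_prime (by rw [pow_two, hττ]) hτ.ne_one, fun g hg => ?_⟩
      have hv := hSc g τ hτS
      refine congrArg Subtype.val (hinj (a₁ := ⟨_, hv⟩) (a₂ := ⟨τ, hτS⟩) ?_)
      refine huniq _ hτS _ ((huniq _ hv _ ?_))
      rw [← mul_smul, ← hg.eq, mul_smul, hpt]
    obtain ⟨E, p, hE, hr, -⟩ := exists_regular_of_isolated C.h2 hiso hf h1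
    haveI := hE
    exact C.not_regular E hr

end Cfsg.Agent.TwoPointA5
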