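import Mathlib
import Cfsg.Agent.Lib.TwoPointA5.TauApart

/-!
# A central swapper conjugate to `t`: the alternating group acts on the fixed points
-/

set_option autoImplicit false
set_option linter.unusedSectionVars false
set_option linter.unusedVariables false
set_option linter.style.haveILetI false
set_option synthInstance.maxSize 2000

namespace Cfsg.Agent.TwoPointA5

open MulAction

set_option quotPrecheck false in
local notation "A5" => ↥(alternatingGroup (Fin 5))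

theorem alt_sq_card : (Finset.univ.filter fun u : A5 => u * u = 1).card = 16 := by
  decide +kernel

theorem alt_invol_not_comm : ∃ u v : A5, u * u = 1 ∧ v * v = 1 ∧ u * v ≠ v * u := by
  decide +kernel

theorem alt_four : ∃ u v : A5, u * u = 1 ∧ u ≠ 1 ∧ v * v = 1 ∧ v ≠ 1 ∧ u ≠ v ∧ u * v = v * u := by
  decide +kernel

variable {G Ω : Type*} [Group G] [Finite G] [Fintype Ω] [MulAction G Ω] [FaithfulSMul G Ω] {C : Cfg G Ω} {τ : G}

/-- `A₅` in the induced group -/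
theorem Cfg.IsTau.exists_emb (hτ : C.IsTau τ) (T : Tri C) :
    ∃ ψ : A5 →* Ind Ω T.t, Function.Injective ψ := by
  obtain ⟨g, hg⟩ := T.mem_cls.1 (hτ.mem_cls T)
  have hK : ∀ k ∈ C.K, g⁻¹ * k * g * T.t = T.t * (g⁻¹ * k * g) := fun k hk => by
    have h := hτ.2.2.2 k hk
    calc g⁻¹ * k * g * T.t = g⁻¹ * (k * (g * T.t * g⁻¹)) * g := by group
      _ = g⁻¹ * ((g * T.t * g⁻¹) * k) * g := by rw [← hg, h]
      _ = T.t * (g⁻¹ * k * g) := by group
  let φ : A5 →* G := (MulAut.conj g⁻¹).toMonoidHom.comp (C.K.subtype.comp C.e.symm.toMonoidHom)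
  have hφ : ∀ u, φ u = g⁻¹ * (C.e.symm u : G) * g := fun u => by simp [φ]
  have hφc : ∀ u, φ u ∈ Subgroup.centralizer ({T.t} : Set G) := fun u => by
    rw [hφ]; exact Subgroup.mem_centralizer_singleton_iff.2 (hK _ (C.e.symm u).2)
  let ψ : A5 →* Ind Ω T.t := (fixHom Ω T.t).rangeRestrict.comp (φ.codRestrict _ hφc)
  refine ⟨ψ, (MonoidHom.ker_eq_bot_iff ψ).1 ?_⟩
  haveI := alternatingGroup.isSimpleGroup_five
  refine (IsSimpleGroup.eq_bot_or_eq_top_of_normal ψ.ker inferInstance).resolve_right fun htop => ?_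
  have hfix : ∀ u : A5, ∀ x : FixSet Ω T.t, φ u • (x : Ω) = x := fun u x => by
    have h : ψ u = 1 := MonoidHom.mem_ker.1 (htop ▸ Subgroup.mem_top u)
    exact congrArg (fun w : Ind Ω T.t => ((w • x : FixSet Ω T.t) : Ω)) h |>.trans (by rw [one_smul])
  let σ : A5 → A5 := fun u => C.e ⟨φ u, hfix u ⟨C.a, T.ht.1⟩, hfix u ⟨C.b, T.ht.2⟩⟩
  have hσ : Function.Injective σ := fun u v h => by
    have h1 : φ u = φ v := congrArg Subtype.val (C.e.injective h)
    rw [hφ, hφ] at h1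
    exact C.e.symm.injective (Subtype.ext (mul_left_cancel (mul_right_cancel h1)))
  have hσs := Finite.surjective_of_injective hσ
  refine T.ht1 (congrArg Subtype.val (C.e.injective ((alt_center (C.e ⟨T.t, T.ht⟩) fun k => ?_).trans
    (map_one _).symm)))
  obtain ⟨u, rfl⟩ := hσs k
  simp only [σ]
  rw [← map_mul, ← map_mul]
  exact congrArg _ (Subtype.ext (Subgroup.mem_centralizer_singleton_iff.1 (hφc u)))

theorem Cfg.IsTau.not_big (hτ : C.IsTau τ) (T : Tri C) : ¬ T.Big := by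
  classical
  intro hB
  haveI := T.fix_nontrivial
  obtain ⟨ψ, hψ⟩ := hτ.exists_emb T
  have sq : ∀ {u : A5}, u * u = 1 → ψ u * ψ u = 1 := fun h => by rw [← map_mul, h, map_one]
  have ne : ∀ {u : A5}, u ≠ 1 → ψ u ≠ 1 := fun h e => h (hψ (e.trans (map_one ψ).symm))
  have invo : ∀ {u : A5}, u * u = 1 → ∀ x : FixSet Ω T.t, ψ u • ψ u • x = x := fun h x => by
    rw [← mul_smul, sq h, one_smul]
  rcases Nat.even_or_odd T.f with hev | hodd
  · obtain ⟨R⟩ := exists_translations T.ind_two (T.sharpModKer hB)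
    obtain ⟨u, v, hu, hv, huv⟩ := alt_invol_not_comm
    have hev' : Even (Fintype.card (FixSet Ω T.t)) := T.card_fixSet.symm ▸ hev
    refine huv (hψ ?_)
    rw [map_mul, map_mul]
    refine eq_of_smul_eq_smul (α := FixSet Ω T.t) fun x => ?_
    rw [mul_smul, mul_smul]
    exact R.comm _ (R.invol_mem (T.sharpModKer hB) hev' (invo hu)) _
      (R.invol_mem (T.sharpModKer hB) hev' (invo hv)) x
  · obtain ⟨u, v, hu, hu1, hv, hv1, huv, hc⟩ := alt_four
    have hodd' : Odd (Fintype.card (FixSet Ω T.t)) := T.card_fixSet.symm ▸ hodd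
    have mv : ∀ {w : A5}, w ≠ 1 → ∃ x : FixSet Ω T.t, ψ w • x ≠ x := fun h => by
      by_contra! h'
      exact ne h (eq_of_smul_eq_smul (α := FixSet Ω T.t) fun x => by rw [h', one_smul])
    obtain ⟨x, hx, hx'⟩ := (fix_card_invol (T.sharpModKer hB) (invo hu) (mv hu1)).1 hodd'
    have hvx : ψ v • x = x := hx' _ (by
      show ψ u • ψ v • x = ψ v • x
      rw [← mul_smul, ← map_mul, hc, map_mul, mul_smul, hx])
    exact huv (hψ ((T.sharpModKer hB).unique_invol T.ind_two (sq hu) (sq hv) (ne hu1) (ne hv1) hx hvx))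

theorem Cfg.IsTau.mul_t_mem (hτ : C.IsTau τ) (T : Tri C) : τ * T.t ∈ T.cls := by
  classical
  by_contra hτt
  obtain ⟨x, hx, hx'⟩ : ∃ x : Ω, T.t • x = x ∧ T.t' • x ≠ x := by
    simpa [Tri.Big, not_forall] using hτ.not_big T
  obtain ⟨m, hma, hmb⟩ := C.exists_move hx'.symm
  have hsq : T.t' • T.t' • x = x := by rw [← mul_smul, T.ht't', one_smul]
  have key : ∀ u ∈ T.cls, u • x = T.t' • x → u • T.t' • x = x → m⁻¹ * u * m = τ := fun u hu h1 h2 => by
    have hc := T.cls_conj m⁻¹ u hu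
    rw [inv_inv] at hc
    obtain ⟨k, hk, hkk, e⟩ := hτ.swapper (w := m⁻¹ * u * m)
      (by rw [mul_smul, mul_smul, hma, h1, ← hmb, inv_smul_smul])
      (by rw [mul_smul, mul_smul, hmb, h2, ← hma, inv_smul_smul]) (T.cls_sq _ hc)
    by_cases hk1 : k = 1
    · rw [e, hk1, mul_one]
    · exact absurd ((hτ.mul_invol_conj T hk hkk hk1).1 (e ▸ hc)) hτt
  have ht'c : T.t' ∈ T.cls := T.mem_cls.2 ⟨T.α, T.hαt.symm⟩
  have htt'c : T.t * T.t' ∈ T.cls := T.mem_cls.2 ⟨T.α * T.α, by rw [← T.hαt', ← T.hαt]; group⟩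
  have h1 := key _ ht'c rfl hsq
  have h2 := key _ htt'c (by rw [T.hcomm, mul_smul, hx]) (by rw [mul_smul, hsq, hx])
  have h3 : T.t' = T.t * T.t' := mul_left_cancel (mul_right_cancel (h1.trans h2.symm))
  exact T.ht1 (mul_eq_right.1 h3.symm)

/-- every involution is conjugate to `t` -/
theorem Cfg.IsTau.all_cls (hτ : C.IsTau τ) (T : Tri C) {u : G} (hu : u * u = 1) (hu1 : u ≠ 1) : u ∈ T.cls := by
  obtain ⟨x, hx⟩ : ∃ x : Ω, u • x ≠ x := by
    by_contra! h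
    exact hu1 (eq_of_smul_eq_smul (α := Ω) fun x => by rw [h, one_smul])
  obtain ⟨m, hma, hmb⟩ := C.exists_move hx.symm
  have hux : u • u • x = x := by rw [← mul_smul, hu, one_smul]
  obtain ⟨k, hk, hkk, e⟩ := hτ.swapper (w := m⁻¹ * u * m)
    (by rw [mul_smul, mul_smul, hma, ← hmb, inv_smul_smul])
    (by rw [mul_smul, mul_smul, hmb, hux, ← hma, inv_smul_smul])
    (by rw [show m⁻¹ * u * m * (m⁻¹ * u * m) = m⁻¹ * (u * u) * m by group, hu]; group)
  have h : m⁻¹ * u * m ∈ T.cls := by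
    rw [e]
    by_cases hk1 : k = 1
    · rw [hk1, mul_one]; exact hτ.mem_cls T
    · exact (hτ.mul_invol_conj T hk hkk hk1).2 (hτ.mul_t_mem T)
  rw [show u = m * (m⁻¹ * u * m) * m⁻¹ by group]
  exact T.cls_conj _ _ h

theorem Cfg.IsTau.deg (hτ : C.IsTau τ) (T : Tri C) :
    15 * (Fintype.card Ω - T.f) = 16 * (T.f * (T.f - 1)) := by
  classical
  have hk : T.k = 16 := by
    unfold Tri.k
    rw [← alt_sq_card]
    symm
    refine Finset.card_bij (fun u _ => τ * (C.e.symm u : G)) ?_ ?_ ?_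
    · intro u hu
      have hkk : (C.e.symm u : G) * (C.e.symm u : G) = 1 := by
        rw [← Subgroup.coe_mul, ← map_mul, (Finset.mem_filter.1 hu).2, map_one, OneMemClass.coe_one]
      have hK := (C.e.symm u).2
      refine Finset.mem_filter.2 ⟨hτ.all_cls T ?_ ?_, ?_, ?_⟩
      · rw [mul_assoc, ← mul_assoc _ τ, hτ.2.2.2 _ hK, mul_assoc τ, hkk, mul_one, hτ.2.2.1]
      · intro h
        refine C.hab ?_
        have := congrArg (fun z : G => z • C.a) h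
        rw [mul_smul, show (C.e.symm u : G) • C.a = C.a from hK.1, hτ.1, one_smul] at this
        exact this.symm
      · rw [mul_smul, hK.1, hτ.1]
      · rw [mul_smul, hK.2, hτ.2.1]
    · intro u _ v _ h
      exact C.e.symm.injective (Subtype.ext (mul_left_cancel h))
    · intro w hw
      obtain ⟨hw1, hw2, hw3⟩ := Finset.mem_filter.1 hw
      obtain ⟨k, hk, hkk, rfl⟩ := hτ.swapper hw2 hw3 (T.cls_sq w hw1)
      refine ⟨C.e ⟨k, hk⟩, Finset.mem_filter.2 ⟨Finset.mem_univ _, ?_⟩, by simp⟩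
      rw [← map_mul, ← map_one C.e]; exact congrArg _ (Subtype.ext hkk)
  rw [T.deg_eq, hk]

section One

variable {X Φ : Type*} [Group X] [Finite X] [Fintype Φ] [MulAction X Φ] [FaithfulSMul X Φ]

/-- two commuting conjugates of `s` have at most one common fixed point -/
theorem TwoTwo.common_fix (D : TwoTwo X Φ) {u v : X} (hu : u ≠ 1) (hv : v ≠ 1) (huv : u ≠ v) {x y : Φ}
    (hux : u • x = x) (huy : u • y = y) (hvx : v • x = x) (hvy : v • y = y) : x = y := by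
  by_contra hxy
  obtain ⟨m, hma, hmb⟩ := (is_two_pretransitive_iff.1 D.h2) D.hab hxy
  have mem : ∀ z : X, z ≠ 1 → z • x = x → z • y = y → m⁻¹ * z * m = D.s := fun z hz h1 h2 =>
    (D.hstab _ (by rw [mul_smul, mul_smul, hma, h1, ← hma, inv_smul_smul])
      (by rw [mul_smul, mul_smul, hmb, h2, ← hmb, inv_smul_smul])).resolve_left fun h => hz (by
      rw [show z = m * (m⁻¹ * z * m) * m⁻¹ by group, h]; group)
  exact huv (mul_left_cancel (mul_right_cancel ((mem u hu hux huy).trans (mem v hv hvx hvy).symm)))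

theorem TwoTwo.no_alt_of_k_one_even (D : TwoTwo X Φ) (hk : D.k = 1) (hev : Even (Fintype.card Φ))
    (ψ : A5 →* X) (hψ : Function.Injective ψ) : False := by
  classical
  have hdeg := D.deg_of_k_one hk
  obtain ⟨m, hm, -⟩ := D.r_two_pow (by rw [hdeg, Nat.even_mul] at hev; exact hev.elim id id)
  obtain ⟨E, hE, hr, hc, -, -⟩ := D.regular_of_even hk (m := m + m) (by rw [hdeg, hm, pow_add])
  haveI := hE
  haveI := hc
  haveI := alternatingGroup.isSimpleGroup_five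
  have hinj : Function.Injective ((QuotientGroup.mk' E).comp ψ) := by
    refine (MonoidHom.ker_eq_bot_iff _).1
      ((IsSimpleGroup.eq_bot_or_eq_top_of_normal _ inferInstance).resolve_right fun htop => ?_)
    obtain ⟨u, v, -, -, huv⟩ := alt_invol_not_comm
    have hm : ∀ w : A5, ψ w ∈ E := fun w => (QuotientGroup.eq_one_iff _).1
      (MonoidHom.mem_ker.1 (htop ▸ Subgroup.mem_top w : w ∈ ((QuotientGroup.mk' E).comp ψ).ker))
    exact huv (hψ (by
      rw [map_mul, map_mul]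
      exact congrArg Subtype.val (mul_comm' (⟨ψ u, hm u⟩ : E) ⟨ψ v, hm v⟩)))
  have h1 := Subgroup.card_dvd_of_injective _ hinj
  rw [nat_card_alternatingGroup, Nat.card_eq_fintype_card (α := Fin 5), Fintype.card_fin, ← Subgroup.index_eq_card] at h1
  have h2 := E.card_mul_index
  rw [hr.card D.a, D.card_group] at h2
  have hpos : 0 < Fintype.card Φ := lt_of_le_of_lt (Nat.zero_le _) D.r_lt
  have h3 : E.index = 2 * (Fintype.card Φ - 1) :=
    Nat.eq_of_mul_eq_mul_left hpos (by rw [h2]; ring)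
  rw [h3] at h1
  obtain ⟨c, hc'⟩ := (show (60 : ℕ) ∣ _ by simpa [Nat.factorial] using h1)
  obtain ⟨d, hd⟩ := hev
  omega

theorem TwoTwo.no_alt_of_k_one_odd (D : TwoTwo X Φ) (hk : D.k = 1) (hodd : Odd (Fintype.card Φ))
    (ψ : A5 →* X) (hψ : Function.Injective ψ) : False := by
  classical
  obtain ⟨E, p, hE, hr, hc, hp, hp2, -, hel, -, hone⟩ := D.regular_of_odd hk hodd
  haveI := hE
  haveI := hr.1
  obtain ⟨w₁, w₂, h1, h1', h2, h2', h12, hcw⟩ := alt_four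
  have sq : ∀ {u : A5}, u * u = 1 → ψ u * ψ u = 1 := fun h => by rw [← map_mul, h, map_one]
  have ne : ∀ {u : A5}, u ≠ 1 → ψ u ≠ 1 := fun h e => h (hψ (e.trans (map_one ψ).symm))
  set v₁ := ψ w₁ with hv₁
  set v₂ := ψ w₂ with hv₂
  have hvc : v₁ * v₂ = v₂ * v₁ := by rw [hv₁, hv₂, ← map_mul, hcw, map_mul]
  have hv12 : v₁ ≠ v₂ := fun h => h12 (hψ h)
  -- all involutions of the alternating group are conjugate to `s`
  have hcls : ∀ {u : A5}, u * u = 1 → u ≠ 1 → ψ u ∈ D.cls := by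
    intro u hu hu1
    by_contra hn
    obtain ⟨k, hk1⟩ := alt_invol_conj u w₁ hu hu1 h1 h1'
    obtain ⟨k', hk2⟩ := alt_invol_conj u w₂ hu hu1 h2 h2'
    have hj : ψ u ∈ D.jays := D.mem_jays.2 ⟨sq hu, ne hu1, hn⟩
    have hj1 : v₁ ∈ D.jays := by rw [hv₁, ← hk1, map_mul, map_mul, map_inv]; exact D.jays_conj _ _ hj
    have hj2 : v₂ ∈ D.jays := by rw [hv₂, ← hk2, map_mul, map_mul, map_inv]; exact D.jays_conj _ _ hj
    have hf := D.jays_fix _ hj1
    rw [Nat.odd_iff.1 hodd] at hf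
    obtain ⟨hsub, ⟨⟨x, hx⟩⟩⟩ := Nat.card_eq_one_iff_unique.1 hf
    have hy : v₁ • v₂ • x = v₂ • x := by rw [← mul_smul, hvc, mul_smul, hx]
    have hx2 : v₂ • x = x := congrArg Subtype.val
      (@Subsingleton.elim _ hsub (⟨v₂ • x, hy⟩ : {z : Φ // v₁ • z = z}) ⟨x, hx⟩)
    exact hv12 (hone _ hj1 _ hj2 x hx hx2)
  have hc₁ := hcls h1 h1'
  have hr1 : fixCard Φ v₁ = D.r := D.cls_fix _ hc₁
  have hrodd : Odd D.r := by
    have h := hodd
    rw [D.deg_of_k_one hk] at h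
    exact (Nat.odd_mul.1 h).1
  -- a common fixed point
  obtain ⟨o, ho1, ho2⟩ : ∃ o : Φ, v₁ • o = o ∧ v₂ • o = o := by
    let π : Equiv.Perm (FixSet Φ v₁) := fixHom Φ v₁ ⟨v₂, Subgroup.mem_centralizer_singleton_iff.2 hvc.symm⟩
    have hπ : π * π = 1 := Equiv.ext fun x => Subtype.ext (by
      show v₂ • v₂ • (x : Φ) = _
      rw [← mul_smul, show v₂ * v₂ = 1 from sq h2, one_smul]; rfl)
    have hp := fixCard_parity (Φ := FixSet Φ v₁) hπ
    rw [show Fintype.card (FixSet Φ v₁) = D.r by rw [← hr1, ← Nat.card_eq_fintype_card]; rfl,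
      Nat.odd_iff.1 hrodd] at hp
    obtain ⟨⟨⟨x, hx⟩, hx2⟩⟩ := (Nat.card_pos_iff.1 (by
      unfold fixCard at hp; omega : 0 < Nat.card {x : FixSet Φ v₁ // π • x = x})).1
    exact ⟨x, hx, congrArg Subtype.val hx2⟩
  have ho3 : (v₁ * v₂) • o = o := by rw [mul_smul, ho2, ho1]
  let CE : X → Type _ := fun v => {e : X // e ∈ E ∧ e * v = v * e}
  have hCE : ∀ v ∈ D.cls, v • o = o → Nat.card (CE v) = D.r := by
    intro v hv hvo
    rw [← D.cls_fix v hv]
    refine Nat.card_congr (Equiv.ofBijective (fun e : CE v => (⟨e.1 • o, by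
      rw [← mul_smul, ← e.2.2, mul_smul, hvo]⟩ : {x : Φ // v • x = x})) ⟨?_, ?_⟩)
    · intro e e' h
      refine Subtype.ext (inv_mul_eq_one.1 (hr.2 o _ (mul_mem (inv_mem e.2.1) e'.2.1) ?_))
      have h' : e.1 • o = e'.1 • o := congrArg Subtype.val h
      rw [mul_smul, ← h', inv_smul_smul]
    · rintro ⟨x, hx⟩
      obtain ⟨⟨e, he⟩, hex⟩ := exists_smul_eq E o x
      have hex' : e • o = x := hex
      refine ⟨⟨e, he, ?_⟩, Subtype.ext hex'⟩
      have hvo' : v⁻¹ • o = o := inv_smul_eq_iff.2 hvo.symm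
      have h := hr.2 o (e⁻¹ * (v * e * v⁻¹)) (mul_mem (inv_mem he) (hE.conj_mem e he v)) (by
        rw [mul_smul, mul_smul, mul_smul, hvo', hex', hx, ← hex', inv_smul_smul])
      calc e * v = (v * e * v⁻¹) * v := by rw [← inv_mul_eq_one.1 h]
        _ = v * e := by group
  -- inversion
  have hinv : ∀ u v : X, u * u = 1 → u ≠ 1 → v ≠ 1 → u ≠ v → u * v = v * u → u • o = o → v • o = o →
      ∀ e ∈ E, e * v = v * e → u * e * u⁻¹ = e⁻¹ := by
    intro u v huu hu hv huv huvc huo hvo e he hev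
    have hu' : u⁻¹ = u := inv_eq_of_mul_eq_one_right huu
    set z := e * (u * e * u⁻¹) with hz
    have hze : z ∈ E := mul_mem he (hE.conj_mem e he u)
    have hzu : u * z = z * u := by
      have h' : (u * e * u⁻¹) * e = e * (u * e * u⁻¹) :=
        congrArg Subtype.val (mul_comm' (⟨_, hE.conj_mem e he u⟩ : E) ⟨e, he⟩)
      calc u * z = (u * e * u⁻¹) * (u * u) * e * u⁻¹ := by rw [hz]; group
        _ = z * u := by rw [huu, mul_one, h', hz, hu']
    have hzv : v * z = z * v := by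
      have h' : v * (u * e * u⁻¹) = (u * e * u⁻¹) * v := by
        rw [hu', mul_assoc u e u, ← mul_assoc v u, ← huvc, mul_assoc u v, ← mul_assoc v e, ← hev, mul_assoc e v,
          ← huvc]
        group
      rw [hz, ← mul_assoc v, ← hev, mul_assoc, h', ← mul_assoc]
    have hzo : z • o = o := (D.common_fix hu hv huv huo (y := z • o)
      (by rw [← mul_smul, hzu, mul_smul, huo]) hvo (by rw [← mul_smul, hzv, mul_smul, hvo])).symm
    exact eq_inv_of_mul_eq_one_right (hr.2 o z hze hzo)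
  have hv3 : v₁ * v₂ ≠ 1 ∧ v₁ * v₂ ≠ v₁ ∧ v₁ * v₂ ≠ v₂ :=
    ⟨fun h => hv12 (by rw [← inv_eq_of_mul_eq_one_right h, inv_eq_of_mul_eq_one_right (sq h1)]),
      fun h => ne h2' (mul_eq_left.1 h), fun h => ne h1' (mul_eq_right.1 h)⟩
  have hc₃ : v₁ * v₂ ∈ D.cls := by
    rw [hv₁, hv₂, ← map_mul]
    refine hcls ?_ fun h => hv3.1 (by rw [hv₁, hv₂, ← map_mul, h, map_one])
    rw [mul_assoc, ← mul_assoc w₂, ← hcw, mul_assoc w₁ w₂, h2, mul_one, h1]
  have h13 : v₁ * (v₁ * v₂) = v₁ * v₂ * v₁ := by rw [mul_assoc v₁ v₂ v₁, ← hvc]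
  have h23 : v₂ * (v₁ * v₂) = v₁ * v₂ * v₂ := by rw [← mul_assoc, ← hvc]
  have hfix : ∀ u : X, ∀ x : X, x ∈ E → x * u = u * x → u * x * u⁻¹ = x := fun u x _ h => by
    rw [← h, mul_inv_cancel_right]
  have hsq1 : ∀ x : X, x ∈ E → x * x = 1 → x = 1 := fun x hx h => by
    rcases (Nat.dvd_prime Nat.prime_two).1 (orderOf_dvd_of_pow_eq_one (by rw [pow_two, h] : x ^ 2 = 1)) with h' | h'
    · exact orderOf_eq_one_iff.1 h'
    · exact absurd ((Nat.prime_dvd_prime_iff_eq Nat.prime_two hp).1 (h' ▸ orderOf_dvd_of_pow_eq_one (hel x hx))).symm hp2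
  have hzero : ∀ x₁ x₂ x₃ : X, x₁ ∈ E → x₂ ∈ E → x₃ ∈ E → x₁ * v₁ = v₁ * x₁ → x₂ * v₂ = v₂ * x₂ →
      x₃ * (v₁ * v₂) = (v₁ * v₂) * x₃ → x₁ * x₂ * x₃ = 1 → x₁ = 1 ∧ x₂ = 1 ∧ x₃ = 1 := by
    intro x₁ x₂ x₃ e1 e2 e3 c1 c2 c3 h
    letI : CommGroup E := { (inferInstance : Group E) with mul_comm := mul_comm' }
    have a1 : v₁ * (x₁ * x₂ * x₃) * v₁⁻¹ = x₁ * x₂⁻¹ * x₃⁻¹ := by
      conv_rhs => rw [← hfix v₁ x₁ e1 c1, ← hinv v₁ v₂ (sq h1) (ne h1') (ne h2') hv12 hvc ho1 ho2 x₂ e2 c2,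
        ← hinv v₁ (v₁ * v₂) (sq h1) (ne h1') hv3.1 hv3.2.1.symm h13 ho1 ho3 x₃ e3 c3]
      group
    have a2 : v₂ * (x₁ * x₂ * x₃) * v₂⁻¹ = x₁⁻¹ * x₂ * x₃⁻¹ := by
      conv_rhs => rw [← hfix v₂ x₂ e2 c2, ← hinv v₂ v₁ (sq h2) (ne h2') (ne h1') hv12.symm hvc.symm ho2 ho1 x₁ e1 c1,
        ← hinv v₂ (v₁ * v₂) (sq h2) (ne h2') hv3.1 hv3.2.2.symm h23 ho2 ho3 x₃ e3 c3]
      group
    rw [h, mul_one, mul_inv_cancel] at a1 a2
    let y₁ : E := ⟨x₁, e1⟩
    let y₂ : E := ⟨x₂, e2⟩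
    let y₃ : E := ⟨x₃, e3⟩
    have b0 : y₁ * y₂ * y₃ = 1 := Subtype.ext h
    have b1 : y₁ * y₂⁻¹ * y₃⁻¹ = 1 := Subtype.ext a1.symm
    have b2 : y₁⁻¹ * y₂ * y₃⁻¹ = 1 := Subtype.ext a2.symm
    have d1 : y₁ * y₁ = 1 := by
      calc y₁ * y₁ = (y₁ * y₂ * y₃) * (y₁ * y₂⁻¹ * y₃⁻¹) := by
            apply Additive.ofMul.injective; simp only [ofMul_mul, ofMul_inv]; abel
        _ = 1 := by rw [b0, b1, mul_one]
    have d2 : y₂ * y₂ = 1 := by
      calc y₂ * y₂ = (y₁ * y₂ * y₃) * (y₁⁻¹ * y₂ * y₃⁻¹) := by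
            apply Additive.ofMul.injective; simp only [ofMul_mul, ofMul_inv]; abel
        _ = 1 := by rw [b0, b2, mul_one]
    have z1 := hsq1 x₁ e1 (congrArg Subtype.val d1)
    have z2 := hsq1 x₂ e2 (congrArg Subtype.val d2)
    exact ⟨z1, z2, by rwa [z1, z2, one_mul, one_mul] at h⟩
  have hcent : ∀ (v : X) (a b : X), a * v = v * a → b * v = v * b → a⁻¹ * b * v = v * (a⁻¹ * b) :=
    fun v a b ha hb => ((Commute.inv_left (ha : Commute a v)).mul_left (hb : Commute b v)).eq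
  let F : CE v₁ × CE v₂ × CE (v₁ * v₂) → E := fun q =>
    ⟨q.1.1 * q.2.1.1 * q.2.2.1, mul_mem (mul_mem q.1.2.1 q.2.1.2.1) q.2.2.2.1⟩
  have hF : Function.Injective F := by
    rintro ⟨⟨a, ha, ha'⟩, ⟨b, hb, hb'⟩, ⟨c, hc1, hc'⟩⟩ ⟨⟨a', ga, ga'⟩, ⟨b', gb, gb'⟩, ⟨c', gc, gc'⟩⟩ h
    letI : CommGroup E := { (inferInstance : Group E) with mul_comm := mul_comm' }
    have h0 : (⟨a, ha⟩ : E) * ⟨b, hb⟩ * ⟨c, hc1⟩ = ⟨a', ga⟩ * ⟨b', gb⟩ * ⟨c', gc⟩ := h
    have hh : ((⟨a, ha⟩ : E)⁻¹ * ⟨a', ga⟩) * ((⟨b, hb⟩ : E)⁻¹ * ⟨b', gb⟩) * ((⟨c, hc1⟩ : E)⁻¹ * ⟨c', gc⟩) = 1 := by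
      calc ((⟨a, ha⟩ : E)⁻¹ * ⟨a', ga⟩) * ((⟨b, hb⟩ : E)⁻¹ * ⟨b', gb⟩) * ((⟨c, hc1⟩ : E)⁻¹ * ⟨c', gc⟩) =
            ((⟨a, ha⟩ : E) * ⟨b, hb⟩ * ⟨c, hc1⟩)⁻¹ * (⟨a', ga⟩ * ⟨b', gb⟩ * ⟨c', gc⟩) := by
              apply Additive.ofMul.injective; simp only [ofMul_mul, ofMul_inv]; abel
        _ = 1 := by rw [h0, inv_mul_cancel]
    obtain ⟨z1, z2, z3⟩ := hzero _ _ _ (mul_mem (inv_mem ha) ga) (mul_mem (inv_mem hb) gb)
      (mul_mem (inv_mem hc1) gc) (hcent _ _ _ ha' ga') (hcent _ _ _ hb' gb') (hcent _ _ _ hc' gc')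
      (congrArg Subtype.val hh)
    exact Prod.ext (Subtype.ext (inv_mul_eq_one.1 z1))
      (Prod.ext (Subtype.ext (inv_mul_eq_one.1 z2)) (Subtype.ext (inv_mul_eq_one.1 z3)))
  haveI : ∀ v, Finite (CE v) := fun v => Subtype.finite
  have hle := Nat.card_le_card_of_injective F hF
  rw [Nat.card_prod, Nat.card_prod, hCE _ hc₁ ho1, hCE _ (hcls h2 h2') ho2, hCE _ hc₃ ho3, hr.card D.a,
    D.deg_of_k_one hk] at hle
  have := D.two_le_r
  nlinarith [Nat.mul_pos (show 0 < D.r by omega) (show 0 < D.r by omega)]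

end One

/-- the induced group has two conjugacy classes of swappers only when `k = 2` -/
theorem Cfg.IsTau.twoTwo_k (hτ : C.IsTau τ) (T : Tri C) [Fintype (FixSet Ω T.t)] :
    (T.twoTwo (hτ.not_big T)).k = 2 := by
  classical
  set D := T.twoTwo (hτ.not_big T) with hD
  by_contra h
  have hk : D.k = 1 := by have := D.k_bounds; omega
  obtain ⟨ψ, hψ⟩ := hτ.exists_emb T
  rcases Nat.even_or_odd (Fintype.card (FixSet Ω T.t)) with he | ho
  · exact D.no_alt_of_k_one_even hk he ψ hψ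
  · exact D.no_alt_of_k_one_odd hk ho ψ hψ

end Cfsg.Agent.TwoPointA5
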