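import Mathlib
import Cfsg.Agent.Lib.TwoPointA5.TauConj
import Cfsg.Agent.Lib.TwoPointA5.Fusion
import Cfsg.Agent.Lib.GW.KleinPSL
import Cfsg.Agent.Lib.Forms.KleinPSL

/-!
# A central swapper does not exist
-/

set_option autoImplicit false
set_option linter.unusedSectionVars false
set_option linter.unusedVariables false
set_option linter.style.haveILetI false
set_option synthInstance.maxSize 2000

namespace Cfsg.Agent.TwoPointA5

open MulAction

/-- the arithmetic of the linear case -/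
theorem psl_arith {r q δ : ℤ} (hr : 2 ≤ r) (hodd : Odd r) (hq : 3 < q) (hδ : δ = 1 ∨ δ = -1)
    (hN : q * (q + δ) = 2 * ((2 * r - 1) * (2 * r + 1))) (hdvd : q - δ ∣ 2 * r * (r - 1)) : False := by
  obtain ⟨m, rfl⟩ : ∃ m, q = m + δ := ⟨q - δ, by ring⟩
  rw [add_sub_cancel_right] at hdvd
  have hm : 3 ≤ m := by rcases hδ with rfl | rfl <;> omega
  have hδ2 : δ * δ = 1 := by rcases hδ with rfl | rfl <;> rfl
  have h1 : 8 * r ^ 2 - 4 = m * (m + 3 * δ) := by linear_combination (-1 : ℤ) * hN + 2 * hδ2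
  obtain ⟨j, hj⟩ : m ∣ 8 * r - 4 := by
    obtain ⟨c, hc⟩ := hdvd
    exact ⟨m + 3 * δ - 4 * c, by linear_combination h1 - 4 * hc⟩
  have key : (8 - j ^ 2) * m ^ 2 + (24 * δ - 8 * j) * m + 16 = 0 := by
    linear_combination (-8 : ℤ) * h1 + (8 * r + m * j + 4) * hj
  have hj1 : 1 ≤ j := by
    by_contra! h
    nlinarith
  have hj3 : j ≤ 3 := by
    by_contra! h
    have e0 : 8 - j ^ 2 ≤ -8 := by nlinarith
    have e1 : (8 - j ^ 2) * m ^ 2 ≤ -8 * m ^ 2 := mul_le_mul_of_nonneg_right e0 (sq_nonneg m)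
    rcases hδ with rfl | rfl <;> nlinarith
  obtain ⟨k, hk⟩ := hodd
  rcases hδ with rfl | rfl <;> interval_cases j <;>
    first
      | nlinarith
      | (have : m ≤ 10 := by nlinarith
         interval_cases m <;> omega)

set_option quotPrecheck false in
local notation "A5" => ↥(alternatingGroup (Fin 5))

variable {G Ω : Type*} [Group G] [Finite G] [Fintype Ω] [MulAction G Ω] [FaithfulSMul G Ω] {C : Cfg G Ω} {τ : G}

theorem Tri.no_four (T : Tri C) (hτ : C.IsTau τ) [Fintype (FixSet Ω T.t)] :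
    ∀ g : G, g * g * (g * g) = 1 → g * g = 1 := by
  intro g hg
  by_contra hg1
  obtain ⟨h, hh⟩ := T.mem_cls.1 (hτ.all_cls T hg hg1)
  set g' := h⁻¹ * g * h with hg'
  have hsq : g' * g' = T.t := by
    rw [hg', show h⁻¹ * g * h * (h⁻¹ * g * h) = h⁻¹ * (g * g) * h by group, hh]; group
  have hgc : g' * T.t = T.t * g' := by rw [← hsq]; exact (mul_assoc g' g' g').symm
  set D := T.twoTwo (hτ.not_big T) with hD
  set x := T.res hgc with hx
  have hxx : x * x = 1 := Subtype.ext (Equiv.ext fun z => Subtype.ext (by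
    show g' • g' • (z : Ω) = _
    rw [← mul_smul, hsq, z.2]; rfl))
  have inK : ∀ u : G, u * u = T.t → u * T.t = T.t * u → u • C.a = C.a → u • C.b = C.b → False := by
    intro u hu huc ha hb
    refine T.ht1 (hu.symm.trans ?_)
    rcases T.hcent u ⟨ha, hb⟩ huc with e | e | e | e <;> rw [e]
    · exact one_mul 1
    · exact T.htt
    · exact T.ht't'
    · exact T.tt'_invol.1
  by_cases hx1 : x = 1
  · have hfix : ∀ z : FixSet Ω T.t, g' • (z : Ω) = z := fun z => by
      rw [← T.res_apply hgc, ← hx, hx1, one_smul]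
    exact inK g' hsq hgc (hfix ⟨C.a, T.ht.1⟩) (hfix ⟨C.b, T.ht.2⟩)
  · obtain ⟨⟨_, k, rfl⟩, hH⟩ := D.all_conj_of_k_two (hτ.twoTwo_k T) hxx hx1
    have hkc : (k : G) * T.t = T.t * k := Subgroup.mem_centralizer_singleton_iff.1 k.2
    have hH' : (⟨fixHom Ω T.t k, k, rfl⟩ : Ind Ω T.t)⁻¹ * x * ⟨fixHom Ω T.t k, k, rfl⟩ = D.s := by
      rw [hH]; group
    have hfix : ∀ z : FixSet Ω T.t, ((k : G)⁻¹ * g' * k) • (z : Ω) = T.t' • (z : Ω) := fun z => by
      have := congrArg (fun w : Ind Ω T.t => ((w • z : FixSet Ω T.t) : Ω)) hH'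
      rw [mul_smul, mul_smul]
      exact this
    refine inK ((k : G)⁻¹ * g' * k) ?_ ?_ ((hfix ⟨C.a, T.ht.1⟩).trans T.ht'.1) ((hfix ⟨C.b, T.ht.2⟩).trans T.ht'.2)
    · rw [show (k : G)⁻¹ * g' * k * ((k : G)⁻¹ * g' * k) = (k : G)⁻¹ * (g' * g') * k by group, hsq, mul_assoc,
        ← hkc, inv_mul_cancel_left]
    · calc (k : G)⁻¹ * g' * k * T.t = (k : G)⁻¹ * (g' * T.t) * k := by rw [mul_assoc _ (k : G), hkc]; group
        _ = ((k : G)⁻¹ * T.t) * g' * k := by rw [hgc]; group
        _ = T.t * ((k : G)⁻¹ * g' * k) := by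
          rw [show (k : G)⁻¹ * T.t = T.t * (k : G)⁻¹ from ((show Commute (k : G) T.t from hkc).inv_left).eq]; group

theorem Tri.two_elt (T : Tri C) (hτ : C.IsTau τ) [Fintype (FixSet Ω T.t)] {x : Ind Ω T.t} {i : ℕ}
    (hx : x ^ (2 ^ i) = 1) : x * x = 1 := by
  obtain ⟨_, k, rfl⟩ := x
  set x : Ind Ω T.t := ⟨fixHom Ω T.t k, k, rfl⟩
  obtain ⟨a, b, hb, hab⟩ := Nat.exists_eq_two_pow_mul_odd (orderOf_pos (k : G)).ne'
  have h1 : ((k : G) ^ b) * ((k : G) ^ b) = 1 := by
    refine sq_eq_one_of_no_four (T.no_four hτ) a _ ?_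
    rw [← pow_mul, mul_comm, ← hab, pow_orderOf_eq_one]
  have h2 : x ^ (2 * b) = 1 := by
    have hk2 : k ^ (2 * b) = 1 := Subtype.ext (by
      rw [SubgroupClass.coe_pow, two_mul, pow_add]; exact h1)
    refine Subtype.ext ?_
    show (fixHom Ω T.t k) ^ (2 * b) = 1
    rw [← map_pow, hk2, map_one]
  have h3 : orderOf x ∣ 2 := Nat.Coprime.dvd_of_dvd_mul_right
    ((Nat.Coprime.coprime_dvd_left (orderOf_dvd_of_pow_eq_one hx)
      (Nat.Coprime.pow_left i (Nat.coprime_two_left.2 hb)))) (orderOf_dvd_of_pow_eq_one h2)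
  rw [← pow_two, orderOf_dvd_iff_pow_eq_one.1 h3]

theorem Tri.false_even (T : Tri C) (hτ : C.IsTau τ) [Fintype (FixSet Ω T.t)]
    (hr : Even (T.twoTwo (hτ.not_big T)).r) : False := by
  classical
  set D := T.twoTwo (hτ.not_big T) with hD
  obtain ⟨m, hm, hm0⟩ := D.r_two_pow hr
  haveI : Fact (Nat.Prime 2) := ⟨Nat.prime_two⟩
  have hf : T.f = D.r * (2 * D.r - 1) := by rw [← T.card_fixSet]; exact D.deg_of_k_two (hτ.twoTwo_k T)
  have hdeg := hτ.deg T
  have hflt := T.f_lt
  have hr2 := D.two_le_r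
  set n := Fintype.card Ω with hn
  set F := T.f with hF
  have hZ : 15 * (n : ℤ) = F * (16 * F - 1) := by
    have h := congrArg (fun z : ℕ => (z : ℤ)) hdeg
    push_cast [hflt.le, (show 1 ≤ F by have := T.two_le_f; omega)] at h
    linear_combination h
  have hFz : (F : ℤ) = D.r * (2 * D.r - 1) := by
    rw [hf]; push_cast [show 1 ≤ 2 * D.r by omega]; ring
  -- the order of a Sylow subgroup
  have hrn : D.r ∣ n := by
    have h : D.r ∣ 15 * n := Int.natCast_dvd_natCast.1 ⟨(2 * D.r - 1) * (16 * F - 1), by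
      push_cast; rw [hZ, hFz]; ring⟩
    refine (Nat.Coprime.dvd_mul_left ?_).1 h
    rw [hm]; exact Nat.Coprime.pow_left m (by norm_num)
  obtain ⟨m', hm'⟩ := hrn
  have hFe : Even F := by rw [hf, hm, Nat.even_mul]; exact Or.inl (Nat.even_pow.2 ⟨even_two, hm0.ne'⟩)
  have hm'odd : Odd m' := by
    have h : 15 * (m' : ℤ) = (2 * D.r - 1) * (16 * F - 1) := by
      have h' : (D.r : ℤ) * (15 * m') = D.r * ((2 * D.r - 1) * (16 * F - 1)) := by
        have : (n : ℤ) = D.r * m' := by rw [hm']; push_cast; ring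
        rw [this] at hZ
        rw [← mul_assoc, mul_comm (D.r : ℤ) 15, mul_assoc, hZ, hFz]; ring
      exact mul_left_cancel₀ (by omega) h'
    have ho : Odd (15 * (m' : ℤ)) := by
      rw [h]; exact Int.odd_mul.2 ⟨⟨(D.r : ℤ) - 1, by ring⟩, ⟨8 * (F : ℤ) - 1, by ring⟩⟩
    exact_mod_cast (Int.odd_mul.1 ho).2
  have hneven : 2 ∣ n := by rw [hm', hm]; exact dvd_mul_of_dvd_left (dvd_pow_self 2 hm0.ne') _
  have hG : Nat.card G = 2 ^ (m + 2) * (15 * m' * (n - 1)) := by
    rw [C.card_G, ← hn]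
    nth_rewrite 1 [hm']
    rw [hm, pow_add]; ring
  obtain ⟨P⟩ : Nonempty (Sylow 2 G) := inferInstance
  have hP : Nat.card (P : Subgroup G) = 2 ^ (m + 2) := by
    rw [P.card_eq_multiplicity, hG]
    congr 1
    have hodd2 : ¬ 2 ∣ 15 * m' * (n - 1) := by
      intro h
      rcases (Nat.Prime.dvd_mul Nat.prime_two).1 h with h | h
      · rcases (Nat.Prime.dvd_mul Nat.prime_two).1 h with h | h
        · norm_num at h
        · exact (Nat.not_even_iff_odd.2 hm'odd) (even_iff_two_dvd.2 h)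
      · omega
    have h0 : 15 * m' * (n - 1) ≠ 0 := fun h => hodd2 (h ▸ dvd_zero 2)
    rw [Nat.factorization_mul (by positivity) h0, Finsupp.add_apply, Nat.prime_two.factorization_pow,
      Finsupp.single_eq_same, Nat.factorization_eq_zero_of_not_dvd hodd2, add_zero]
  have hsq : ∀ x ∈ (P : Subgroup G), x * x = 1 := fun x hx => by
    obtain ⟨i, hi⟩ := P.2 ⟨x, hx⟩
    exact sq_eq_one_of_no_four (T.no_four hτ) i x (by
      have := congrArg Subtype.val hi; simpa using this)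
  have hd := card_sub_one_dvd P hsq (fun x y hx hy => by
    obtain ⟨g, hg⟩ := T.mem_cls.1 (hτ.all_cls T (by rw [← pow_two, ← hx, pow_orderOf_eq_one])
      (fun e => by rw [e, orderOf_one] at hx; omega))
    obtain ⟨h, hh⟩ := T.mem_cls.1 (hτ.all_cls T (by rw [← pow_two, ← hy, pow_orderOf_eq_one])
      (fun e => by rw [e, orderOf_one] at hy; omega))
    exact ⟨h * g⁻¹, by rw [hg, hh]; group⟩) (by rw [hP]; exact Nat.one_lt_pow (by omega) (by omega))
  rw [hP] at hd
  set d : ℤ := 4 * D.r - 1 with hdd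
  have hd1 : d ∣ (Nat.card G : ℤ) := by
    have h := Int.natCast_dvd_natCast.2 hd
    push_cast [Nat.one_le_two_pow] at h
    rw [hdd, hm]; push_cast
    convert h using 1
    rw [pow_add]; ring
  have hd2 : d ∣ 21060 := by
    have hGz : (Nat.card G : ℤ) = 60 * (n * (n - 1)) := by
      rw [C.card_G, ← hn]; push_cast [show 1 ≤ n by omega]; ring
    have hA : d ∣ 14400 * (Nat.card G : ℤ) + 21060 := by
      have e : (8 : ℤ) * (15 * n) = d * (2 * d ^ 3 - 5 * d) + 3 := by rw [hZ, hFz, hdd]; ring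
      refine ⟨60 * (d * (2 * d ^ 3 - 5 * d) ^ 2 + (2 * d ^ 3 - 5 * d) * (3 - 117)), ?_⟩
      rw [hGz]
      linear_combination 60 * (8 * (15 * (n : ℤ)) + d * (2 * d ^ 3 - 5 * d) + 3 - 120) * e
    simpa using Int.dvd_sub hA (dvd_mul_of_dvd_right hd1 14400)
  have hm12 : m ≤ 12 := by
    by_contra! h
    have h1 := Int.le_of_dvd (by norm_num) hd2
    have : (2 : ℕ) ^ 13 ≤ 2 ^ m := Nat.pow_le_pow_right two_pos h
    rw [hdd] at h1
    omega
  rw [hdd, hm] at hd2
  interval_cases m <;> norm_num at hd2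
  all_goals
    rw [hm] at hf
    norm_num at hf
    rw [hf] at hdeg
    omega

theorem Tri.false_odd (T : Tri C) (hτ : C.IsTau τ) [Fintype (FixSet Ω T.t)]
    (hr : Odd (T.twoTwo (hτ.not_big T)).r) : False := by
  classical
  set D := T.twoTwo (hτ.not_big T) with hD
  haveI : Fact (Nat.Prime 2) := ⟨Nat.prime_two⟩
  have hk2 := hτ.twoTwo_k T
  have hf := D.deg_of_k_two hk2
  have hr2 := D.two_le_r
  have hr3 : 3 ≤ D.r := by obtain ⟨k, hk⟩ := hr; omega
  set f := Fintype.card (FixSet Ω T.t) with hfdef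
  have hcard : Nat.card (Ind Ω T.t) = 2 * (f * (f - 1)) := D.card_group
  have hfsub : f - 1 = (2 * D.r + 1) * (D.r - 1) := by
    obtain ⟨m, hm⟩ : ∃ m, D.r = m + 1 := ⟨D.r - 1, by omega⟩
    rw [hf, hm, show 2 * (m + 1) - 1 = 2 * m + 1 by omega, Nat.add_sub_cancel]
    refine Nat.sub_eq_of_eq_add ?_
    ring
  have hso : orderOf D.s = 2 := orderOf_eq_prime (by rw [pow_two, D.hss]) D.hs1
  obtain ⟨S, hS⟩ := (IsPGroup.of_card (G := Subgroup.zpowers D.s) (n := 1) (by
    rw [Nat.card_zpowers, hso, pow_one])).exists_le_sylow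
  have hsS : D.s ∈ (S : Subgroup (Ind Ω T.t)) := hS (Subgroup.mem_zpowers _)
  have hsq : ∀ x ∈ (S : Subgroup (Ind Ω T.t)), x * x = 1 := fun x hx => by
    obtain ⟨i, hi⟩ := S.2 ⟨x, hx⟩
    exact T.two_elt hτ (by have := congrArg Subtype.val hi; simpa using this : x ^ 2 ^ i = 1)
  have hScomm : ∀ a ∈ (S : Subgroup (Ind Ω T.t)), ∀ b ∈ (S : Subgroup (Ind Ω T.t)), a * b = b * a :=
    fun a ha b hb => by
    have h1 : (a * b)⁻¹ = a * b := inv_eq_of_mul_eq_one_left (hsq _ (mul_mem ha hb))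
    rw [mul_inv_rev, inv_eq_of_mul_eq_one_left (hsq a ha), inv_eq_of_mul_eq_one_left (hsq b hb)] at h1
    exact h1.symm
  -- the Sylow subgroup is a four-group
  have hS4 : Nat.card (S : Subgroup (Ind Ω T.t)) = 4 := by
    have hlow : 4 ≤ Nat.card (S : Subgroup (Ind Ω T.t)) := by
      rw [S.card_eq_multiplicity]
      have h4 : 2 ^ 2 ∣ Nat.card (Ind Ω T.t) := by
        rw [hcard, hfsub]
        obtain ⟨k, hk⟩ := hr
        exact ⟨f * ((2 * D.r + 1) * k), by rw [show D.r - 1 = 2 * k by omega]; ring⟩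
      have := (Nat.prime_two.pow_dvd_iff_le_factorization Nat.card_pos.ne').1 h4
      calc (4 : ℕ) = 2 ^ 2 := rfl
        _ ≤ _ := Nat.pow_le_pow_right two_pos this
    haveI := D.fix_nontrivial
    haveI : Fintype (FixSet (FixSet Ω T.t) D.s) := Fintype.ofFinite _
    have hoddr : Odd (Fintype.card (FixSet (FixSet Ω T.t) D.s)) := by
      rw [← Nat.card_eq_fintype_card]; exact hr
    let φ : (S : Subgroup (Ind Ω T.t)) →* Ind (FixSet Ω T.t) D.s :=
      (fixHom (FixSet Ω T.t) D.s).rangeRestrict.comp (Subgroup.inclusion fun a ha =>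
        Subgroup.mem_centralizer_singleton_iff.2 (hScomm a ha D.s hsS))
    have hker : Nat.card φ.ker ≤ 2 := by
      have hsub : Subtype.val '' (φ.ker : Set (S : Subgroup (Ind Ω T.t))) ⊆ ({1, D.s} : Set (Ind Ω T.t)) := by
        rintro _ ⟨⟨g, hg⟩, hgk, rfl⟩
        have h : φ ⟨g, hg⟩ = 1 := hgk
        refine D.stab_pair D.hab D.hsa D.hsb ?_ ?_
        · have := congrArg (fun w : Ind (FixSet Ω T.t) D.s =>
            ((w • (⟨D.a, D.hsa⟩ : FixSet (FixSet Ω T.t) D.s) : FixSet (FixSet Ω T.t) D.s) : FixSet Ω T.t)) h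
          simp only [one_smul] at this
          exact this
        · have := congrArg (fun w : Ind (FixSet Ω T.t) D.s =>
            ((w • (⟨D.b, D.hsb⟩ : FixSet (FixSet Ω T.t) D.s) : FixSet (FixSet Ω T.t) D.s) : FixSet Ω T.t)) h
          simp only [one_smul] at this
          exact this
      have h1 := Set.ncard_le_ncard hsub (Set.toFinite _)
      rw [Set.ncard_image_of_injective _ Subtype.val_injective, ← Nat.card_coe_set_eq] at h1
      exact h1.trans (Set.ncard_pair D.hs1.symm).le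
    have hran : Nat.card φ.range ≤ 2 := by
      by_contra! h
      obtain ⟨u, hu⟩ : ∃ u : φ.range, u ≠ 1 := by
        haveI := Finite.one_lt_card_iff_nontrivial.1 (show 1 < Nat.card φ.range by omega)
        exact exists_ne 1
      obtain ⟨v, hv, hvu⟩ : ∃ v : φ.range, v ≠ 1 ∧ v ≠ u := by
        by_contra! hall
        have hsub : (Set.univ : Set φ.range) ⊆ {1, u} := fun v _ => by
          by_cases hv : v = 1
          · exact Or.inl hv
          · exact Or.inr (hall v hv)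
        have h1 := Set.ncard_le_ncard hsub (Set.toFinite _)
        rw [Set.ncard_univ] at h1
        have := h1.trans (Set.ncard_pair hu.symm).le
        omega
      obtain ⟨_, a, rfl⟩ := u
      obtain ⟨_, b, rfl⟩ := v
      have invo : ∀ c, φ c * φ c = 1 := fun c => by
        rw [← map_mul, show c * c = 1 from Subtype.ext (hsq c c.2), map_one]
      have ne : ∀ {c}, (⟨φ c, c, rfl⟩ : φ.range) ≠ 1 → φ c ≠ 1 := fun h e => h (Subtype.ext e)
      have mv : ∀ {c}, φ c ≠ 1 → ∃ x : FixSet (FixSet Ω T.t) D.s, φ c • x ≠ x := fun h => by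
        by_contra! h'
        exact h (eq_of_smul_eq_smul (α := FixSet (FixSet Ω T.t) D.s) fun x => by rw [h', one_smul])
      obtain ⟨x, hx, hx'⟩ := (fix_card_invol D.sharpModKer (g := φ a)
        (fun z => by rw [← mul_smul, invo, one_smul]) (mv (ne hu))).1 hoddr
      have hbx : φ b • x = x := hx' _ (by
        show φ a • φ b • x = φ b • x
        rw [← mul_smul, ← map_mul, show a * b = b * a from Subtype.ext (hScomm a a.2 b b.2), map_mul, mul_smul, hx])
      exact hvu (Subtype.ext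
        (D.sharpModKer.unique_invol D.fix_two_transitive (invo b) (invo a) (ne hv) (ne hu) hbx hx))
    have := φ.ker.card_mul_index
    rw [Subgroup.index_ker] at this
    nlinarith [Nat.mul_le_mul hker hran]
  -- the Sylow subgroup is fused
  have hconj : ∀ z : Ind Ω T.t, orderOf z = 2 → ∃ g : Ind Ω T.t, g * D.s * g⁻¹ = z := fun z hz => by
    obtain ⟨g, hg⟩ := D.all_conj_of_k_two hk2 (by rw [← pow_two, ← hz, pow_orderOf_eq_one])
      (fun e => by rw [e, orderOf_one] at hz; omega)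
    exact ⟨g, hg.symm⟩
  have hfus : ∃ g ∈ Subgroup.normalizer ((S : Subgroup (Ind Ω T.t)) : Set (Ind Ω T.t)),
      ∃ x ∈ (S : Subgroup (Ind Ω T.t)), g * x * g⁻¹ ≠ x := by
    obtain ⟨y, hy, hy1, hys⟩ : ∃ y ∈ (S : Subgroup (Ind Ω T.t)), y ≠ 1 ∧ y ≠ D.s := by
      by_contra! hall
      have hsub : ((S : Subgroup (Ind Ω T.t)) : Set (Ind Ω T.t)) ⊆ {1, D.s} := fun v hv => by
        by_cases h : v = 1
        · exact Or.inl h
        · exact Or.inr (hall v hv h)
      have h1 := Set.ncard_le_ncard hsub (Set.toFinite _)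
      rw [← Nat.card_coe_set_eq, SetLike.coe_sort_coe, hS4] at h1
      have := h1.trans (Set.ncard_pair D.hs1.symm).le
      omega
    obtain ⟨n, hn, hn'⟩ := sylow_fused S hsq (fun x z hx hz => by
      obtain ⟨g, hg⟩ := hconj x hx
      obtain ⟨h, hh⟩ := hconj z hz
      exact ⟨h * g⁻¹, by rw [← hg, ← hh]; group⟩) D.s hsS D.hs1 y hy hy1
    exact ⟨n, hn, D.s, hsS, fun e => hys (hn'.symm.trans e)⟩
  -- no odd normal subgroup
  have hO : Cfsg.oddCore (Ind Ω T.t) = ⊥ := by
    by_contra hne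
    haveI : (Cfsg.oddCore (Ind Ω T.t)).Normal := ZStar.Main.oddCore_normal
    haveI : Group.IsSolvable ↥(Cfsg.oddCore (Ind Ω T.t)) := S0205.result InvChar.Core.odd_card_oddCore
    obtain ⟨E, p, -, -, hreg, -, hp, hpg, -, -⟩ := exists_regular T.ind_two _ hne
    haveI := Fact.mk hp
    obtain ⟨i, hi⟩ := IsPGroup.iff_card.1 hpg
    rw [hreg.card D.a, ← hfdef, hf] at hi
    obtain ⟨q₁, hq₁, hd₁⟩ := Nat.exists_prime_and_dvd (show D.r ≠ 1 by omega)
    obtain ⟨q₂, hq₂, hd₂⟩ := Nat.exists_prime_and_dvd (show 2 * D.r - 1 ≠ 1 by omega)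
    have e₁ : q₁ = p := (Nat.prime_dvd_prime_iff_eq hq₁ hp).1
      (hq₁.dvd_of_dvd_pow (hi ▸ dvd_mul_of_dvd_left hd₁ _))
    have e₂ : q₂ = p := (Nat.prime_dvd_prime_iff_eq hq₂ hp).1
      (hq₂.dvd_of_dvd_pow (hi ▸ dvd_mul_of_dvd_right hd₂ _))
    subst e₁ e₂
    refine hq₁.not_dvd_one ?_
    have h := Nat.dvd_sub (dvd_mul_of_dvd_right hd₁ 2) hd₂
    rwa [show 2 * D.r - (2 * D.r - 1) = 1 by omega] at h
  rcases GWFacts.four_shape S hS4 hsq hfus hO with ⟨-, h12, -⟩ |
    ⟨L, F, _, _, -, hFodd, hF3, ⟨e⟩, hSL, -, hinv, -⟩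
  · rw [hcard] at h12
    have h15 : 15 ≤ f := by rw [hf]; exact Nat.mul_le_mul hr3 (by omega : 5 ≤ 2 * D.r - 1)
    have := Nat.mul_le_mul h15 (by omega : 14 ≤ f - 1)
    omega
  · have h2F : (2 : F) ≠ 0 := GL2.Counts.two_ne_zero_of_odd hFodd
    set s' := e ⟨D.s, hSL hsS⟩ with hs'
    have hs'o : orderOf s' = 2 := by rw [hs', e.orderOf_eq, Subgroup.orderOf_mk, hso]
    obtain ⟨δ, hδ, hc, -, -⟩ := GW.KleinPSL.centralizers hFodd hs'o
    set c := Nat.card (Subgroup.centralizer ({s'} : Set (Matrix.ProjectiveSpecialLinearGroup (Fin 2) F))) with hcdef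
    set N := Nat.card {z : Ind Ω T.t // orderOf z = 2} with hNdef
    have hN1 : N * (2 * (D.r * (D.r - 1))) = 2 * (f * (f - 1)) := by
      have h := card_invol_mul hso hconj
      rwa [D.card_cent, hcard] at h
    have hN2 : N * c = Nat.card (Matrix.ProjectiveSpecialLinearGroup (Fin 2) F) := by
      rw [← card_invol_mul hs'o fun z hz => by
        obtain ⟨g, hg⟩ := isConj_iff.1 (Forms.KleinPSL.involutions_isConj h2F s' z hs'o hz)
        exact ⟨g, hg⟩]
      congr 1
      refine Nat.card_congr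
        { toFun := fun z => ⟨e ⟨z.1, hinv _ z.2⟩, by rw [e.orderOf_eq, Subgroup.orderOf_mk]; exact z.2⟩
          invFun := fun z => ⟨(e.symm z.1 : Ind Ω T.t), by rw [Subgroup.orderOf_coe, e.symm.orderOf_eq]; exact z.2⟩
          left_inv := fun z => Subtype.ext (by simp)
          right_inv := fun z => Subtype.ext (by simp) }
    have hcd : c ∣ 2 * (D.r * (D.r - 1)) := by
      rw [← D.card_cent]
      let ι : Subgroup.centralizer ({s'} : Set (Matrix.ProjectiveSpecialLinearGroup (Fin 2) F)) →* Ind Ω T.t :=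
        (L.subtype.comp e.symm.toMonoidHom).comp (Subgroup.subtype _)
      have hι : ∀ z, ι z ∈ Subgroup.centralizer ({D.s} : Set (Ind Ω T.t)) := fun z => by
        rw [Subgroup.mem_centralizer_singleton_iff]
        have h := congrArg (fun w => (e.symm w : Ind Ω T.t)) (Subgroup.mem_centralizer_singleton_iff.1 z.2)
        simpa [ι, hs'] using h
      refine Subgroup.card_dvd_of_injective (ι.codRestrict _ hι) fun a b h => ?_
      have h' := congrArg Subtype.val h
      exact Subtype.ext (e.symm.injective (Subtype.ext h'))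
    have hN : N = (2 * D.r - 1) * (2 * D.r + 1) := by
      refine Nat.eq_of_mul_eq_mul_right (show 0 < 2 * (D.r * (D.r - 1)) from
        Nat.mul_pos two_pos (Nat.mul_pos (by omega) (by omega))) ?_
      rw [hN1, hfsub, hf]; ring
    have hq := GW.KleinPSL.two_mul_card (F := F) hFodd
    rw [← hN2] at hq
    push_cast at hq
    rw [hc] at hq
    have hδ2 : δ * δ = 1 := by rcases hδ with rfl | rfl <;> rfl
    refine psl_arith (r := (D.r : ℤ)) (q := (Fintype.card F : ℤ)) (δ := δ) (by omega) ?_ (by omega) hδ ?_ ?_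
    · exact_mod_cast hr
    · have hN' : (N : ℤ) = (2 * D.r - 1) * (2 * D.r + 1) := by
        rw [hN]; push_cast [show 1 ≤ 2 * D.r by omega]; ring
      rw [← hN']
      refine mul_right_cancel₀ (show (Fintype.card F : ℤ) - δ ≠ 0 by rcases hδ with rfl | rfl <;> omega) ?_
      linear_combination -hq - (Fintype.card F : ℤ) * hδ2
    · rw [← hc]
      have h := Int.natCast_dvd_natCast.2 hcd
      push_cast [show 1 ≤ D.r by omega] at h
      rwa [mul_assoc]

/-- there is no central swapper -/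
theorem Cfg.IsTau.elim (hτ : C.IsTau τ) : False := by
  classical
  obtain ⟨T⟩ := C.exists_tri
  rcases Nat.even_or_odd (T.twoTwo (hτ.not_big T)).r with h | h
  · exact T.false_even hτ h
  · exact T.false_odd hτ h

end Cfsg.Agent.TwoPointA5
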